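import Cfsg.Prelude.Def_Spor_Ru
import Mathlib.GroupTheory.Sylow
import Mathlib.GroupTheory.IsPerfect

/-!
# What the standard component theorem takes from the double cover of the Rudvalis group
-/

set_option autoImplicit false

namespace CfsgLib.RuStandard

/-- The facts on the double cover with central involution `t` that rule out fusion of `t`. -/
structure Facts (A : Type*) [Group A] (t : A) : Prop where
  no_root : ∀ b : A, b ^ 4 ≠ t
  sylow : ∀ x : A, x * x = 1 → x ≠ 1 → x ≠ t →
    ∃ P : Sylow 2 A, x ∈ P ∧ ∀ p ∈ P, p * x = x * p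
  centre : ∀ P : Sylow 2 A, ∀ z ∈ P, (∀ p ∈ P, p * z = z * p) → z * z = 1
  root : ∀ x : A, x * x = 1 → x ≠ 1 → x ≠ t → ∃ b : A, b ^ 4 = x

/-- The statement that the double cover has these facts. -/
def FactsSpec.{v} : Prop :=
  ∀ (A : Type v) [Group A] [Finite A], Group.IsPerfect A → Nat.card (Subgroup.center A) = 2 →
    Cfsg.Spor.IsoRu (A ⧸ Subgroup.center A) → ∀ t ∈ Subgroup.center A, t ≠ 1 → Facts A t

end CfsgLib.RuStandard
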