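import Mathlib.Data.Nat.Notation

/-!
# Tables for a Sylow 2-subgroup of the double cover of Ru, by matrices modulo five
-/

set_option autoImplicit false
set_option maxRecDepth 20000

namespace CfsgLib.RuStandard

/-- A letter. -/
def mat0 : List (List (ℕ × ℕ)) := [
    [(0,4),(0,4),(0,2),(1,1),(0,1),(0,4),(1,2),(0,4),(1,4),(0,3),(0,1),(0,2),(0,1),(0,1),(0,3),(0,3),(0,1),(0,4),(0,2),(0,4),(0,2),(0,4),(1,4)],
    [(0,3),(0,1),(0,1),(1,1),(0,2),(1,3),(0,1),(0,2),(0,3),(0,4),(0,3),(0,3),(0,2),(2,2),(0,4),(1,2),(0,2),(0,2),(2,3),(0,4),(0,2)],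
    [(0,2),(2,1),(1,3),(0,4),(0,2),(0,2),(0,1),(0,3),(0,2),(1,4),(0,4),(0,2),(0,2),(0,1),(0,2),(0,2),(0,1),(0,1),(0,2),(1,1),(0,3),(0,3)],
    [(0,2),(0,2),(0,1),(0,4),(0,2),(0,2),(0,1),(0,4),(0,3),(0,4),(0,1),(0,3),(0,4),(1,2),(0,1),(0,2),(0,2),(0,1),(0,1),(0,4),(0,2),(0,1),(1,1),(1,1),(0,2)],
    [(2,3),(0,2),(0,4),(0,2),(1,1),(0,3),(0,3),(0,4),(0,4),(1,4),(0,2),(1,1),(0,2),(0,3),(0,4),(0,2),(0,3),(0,4),(0,4),(0,4),(0,2),(1,4)],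
    [(2,3),(1,2),(0,3),(0,2),(0,2),(1,1),(0,1),(1,1),(3,4),(0,3),(0,1),(0,2),(1,2),(0,4),(0,2),(0,3),(0,1),(0,1),(0,2)],
    [(0,3),(2,1),(0,2),(0,3),(0,4),(0,4),(0,4),(0,1),(0,2),(0,4),(0,1),(0,2),(0,1),(4,2),(3,4),(0,2),(0,3),(0,4),(0,1)],
    [(0,1),(0,2),(0,3),(0,2),(0,3),(0,2),(0,3),(0,2),(0,2),(0,1),(0,1),(0,4),(1,4),(0,1),(0,2),(0,1),(0,2),(0,3),(0,1),(0,4),(0,1),(0,3),(0,3),(0,2),(0,1)],
    [(1,4),(0,3),(1,4),(0,1),(1,3),(0,4),(0,1),(0,1),(0,3),(0,3),(0,3),(0,4),(0,3),(0,2),(0,2),(1,1),(0,3),(1,1),(0,2),(0,1),(1,3)],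
    [(2,4),(0,1),(0,2),(0,2),(4,3),(0,1),(1,1),(0,1),(0,3),(0,3),(0,4),(0,3),(0,2),(0,3),(0,1),(3,1),(0,4),(0,4)],
    [(1,4),(1,2),(0,4),(0,4),(0,4),(1,3),(0,3),(0,2),(0,3),(2,1),(0,3),(0,4),(0,1),(1,1),(0,3),(0,1),(0,3),(0,4),(1,4),(1,1)],
    [(0,3),(1,3),(1,3),(0,4),(0,3),(0,3),(0,1),(0,2),(0,3),(0,4),(0,4),(2,2),(1,1),(0,2),(0,3),(1,3),(0,1),(0,3),(0,1),(1,1)],
    [(0,3),(1,2),(1,1),(0,1),(1,1),(0,2),(0,1),(0,4),(0,2),(0,1),(1,3),(0,4),(1,4),(0,1),(0,1),(0,1),(0,4),(0,4),(0,2),(1,3),(0,3)],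
    [(1,3),(0,2),(0,2),(0,2),(0,3),(0,4),(0,1),(1,2),(1,1),(0,3),(0,2),(1,1),(0,4),(1,2),(0,4),(0,2),(0,1),(0,2),(0,1),(0,4),(0,1),(0,3),(0,1)],
    [(2,2),(0,3),(0,2),(0,4),(0,2),(0,1),(0,1),(0,4),(1,3),(0,3),(0,4),(0,3),(0,2),(0,4),(0,4),(0,3),(0,2),(0,1),(0,1),(0,2),(0,3),(0,4),(0,4),(0,3)],
    [(0,3),(0,2),(0,3),(0,3),(1,1),(0,2),(0,2),(0,4),(0,1),(1,3),(0,4),(2,1),(0,2),(0,4),(0,1),(0,2),(0,2),(0,4),(0,2),(0,2),(0,4),(1,1),(0,4)],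
    [(0,3),(0,3),(2,4),(0,4),(0,1),(0,2),(0,4),(0,3),(1,2),(0,3),(0,4),(0,2),(0,2),(0,1),(0,4),(1,2),(0,4),(0,1),(1,2),(0,4),(1,1),(0,2)],
    [(0,1),(0,1),(1,1),(0,1),(0,1),(0,1),(3,1),(0,4),(0,1),(0,4),(0,2),(0,3),(0,3),(0,4),(1,1),(1,3),(0,2),(0,4),(0,3),(0,4),(0,2),(0,4)],
    [(1,1),(0,3),(0,2),(0,1),(1,4),(0,4),(0,1),(1,1),(0,1),(0,4),(0,4),(0,1),(0,2),(1,1),(1,1),(0,1),(1,1),(2,1),(1,3)],
    [(1,1),(1,3),(1,3),(0,4),(2,3),(0,4),(0,3),(1,1),(0,4),(0,4),(0,2),(1,2),(1,3),(0,3),(0,1),(0,4),(2,2),(0,3)],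
    [(0,1),(1,1),(0,4),(0,1),(0,1),(1,3),(1,4),(0,2),(0,2),(0,3),(0,4),(0,1),(0,1),(0,2),(0,4),(1,2),(1,2),(2,2),(2,3)],
    [(0,2),(0,3),(0,3),(0,2),(0,1),(0,4),(0,4),(0,3),(0,4),(1,4),(0,3),(0,3),(0,4),(2,2),(0,3),(1,3),(0,1),(0,2),(0,1),(0,1),(1,3),(0,1),(0,3)],
    [(0,2),(0,4),(0,3),(0,3),(0,4),(0,4),(0,4),(1,4),(0,2),(0,1),(0,1),(1,1),(1,3),(0,4),(1,4),(0,4),(0,1),(0,2),(0,4),(0,1),(0,4),(0,1),(0,3),(0,3)],
    [(0,4),(1,4),(0,2),(0,4),(2,1),(1,2),(0,3),(0,1),(1,2),(1,1),(0,2),(0,1),(0,4),(0,2),(0,3),(1,3),(0,4),(2,3),(0,1)],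
    [(2,2),(0,1),(0,1),(0,1),(0,2),(0,1),(0,2),(0,1),(0,2),(0,1),(0,3),(0,3),(0,4),(0,4),(0,3),(1,3),(0,4),(2,1),(0,3),(0,1),(2,3)],
    [(1,2),(0,3),(1,2),(0,1),(1,4),(0,1),(0,3),(1,2),(0,4),(0,3),(1,3),(0,4),(0,2),(0,1),(0,2),(0,1),(0,4),(0,3),(1,4),(1,2),(0,1)],
    [(0,3),(1,4),(0,3),(0,2),(0,3),(0,2),(0,2),(0,3),(0,3),(1,2),(0,1),(2,4),(2,3),(0,3),(1,3),(1,4),(1,4),(1,4)],
    [(0,2),(3,4),(0,4),(0,2),(1,4),(0,2),(0,4),(0,3),(1,4),(0,1),(0,1),(0,4),(0,3),(0,2),(0,2),(0,1),(0,3),(0,1),(0,4),(0,2),(0,4),(0,3),(0,1)]]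

/-- A letter. -/
def mat1 : List (List (ℕ × ℕ)) := [
    [(0,2),(0,1),(0,4),(2,2),(0,4),(1,1),(0,4),(0,3),(0,1),(0,4),(0,1),(0,2),(0,1),(0,2),(0,1),(0,2),(0,3),(0,1),(0,2),(1,3),(0,2),(0,1),(0,2),(0,1)],
    [(0,2),(1,4),(2,2),(0,4),(1,1),(0,4),(1,4),(0,4),(1,2),(2,4),(0,1),(0,4),(0,4),(1,3),(0,3),(0,2),(0,4),(0,2),(0,3)],
    [(1,4),(1,2),(0,4),(0,3),(1,3),(0,4),(0,2),(0,3),(2,2),(2,2),(0,4),(0,2),(0,2),(0,2),(0,3),(1,4),(0,3),(0,2),(0,4)],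
    [(0,2),(0,4),(0,3),(0,1),(0,4),(0,2),(0,3),(1,1),(1,3),(4,1),(0,3),(0,3),(0,3),(0,3),(0,3),(0,1),(0,1),(0,4),(0,2),(0,4),(0,3),(0,3)],
    [(0,3),(0,2),(0,3),(0,1),(0,3),(1,4),(1,4),(0,1),(0,1),(0,3),(1,1),(1,3),(0,1),(1,1),(0,3),(0,4),(0,4),(0,4),(0,3),(2,2),(0,4)],
    [(2,4),(1,2),(0,1),(0,4),(0,1),(0,3),(2,3),(0,4),(2,2),(0,2),(1,2),(0,4),(0,2),(0,3),(0,2),(0,2),(0,2),(0,4),(0,1),(0,4)],
    [(1,4),(1,4),(1,1),(0,2),(0,3),(1,4),(2,4),(0,1),(2,2),(0,3),(0,4),(0,1),(0,2),(0,4),(1,1),(0,2),(0,4),(0,2)],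
    [(0,1),(0,2),(0,1),(0,1),(1,1),(0,4),(1,1),(0,2),(0,3),(0,4),(0,1),(0,4),(0,3),(1,3),(0,3),(0,2),(0,3),(0,4),(0,2),(0,3),(0,3),(1,2),(1,3)],
    [(1,3),(0,1),(0,4),(0,3),(0,1),(0,3),(0,2),(0,3),(0,1),(1,1),(1,2),(0,2),(0,1),(0,2),(0,3),(1,4),(1,3),(0,2),(0,3),(0,3),(2,4)],
    [(2,1),(0,3),(0,1),(0,1),(0,4),(1,2),(0,2),(0,1),(0,3),(0,4),(0,4),(0,4),(0,4),(0,2),(0,4),(1,2),(0,3),(0,2),(0,2),(0,3),(1,3),(0,4),(0,1)],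
    [(0,4),(0,1),(0,3),(0,3),(0,4),(0,3),(0,4),(1,3),(0,1),(1,3),(0,2),(0,1),(1,1),(0,3),(0,4),(0,4),(0,3),(0,1),(0,4),(2,3),(0,4),(0,2),(0,3)],
    [(3,4),(0,4),(0,1),(0,2),(0,2),(2,1),(0,4),(0,4),(0,3),(0,4),(0,2),(0,2),(0,4),(0,2),(1,3),(0,4),(0,2),(0,3),(0,2),(0,2),(0,4)],
    [(0,2),(0,4),(1,4),(0,4),(0,1),(0,2),(0,3),(0,1),(0,4),(1,1),(0,1),(1,4),(0,1),(0,3),(0,3),(0,2),(0,3),(0,4),(0,3),(0,1),(0,2),(1,4),(0,3),(0,4)],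
    [(0,4),(0,2),(1,1),(1,2),(0,2),(0,2),(0,3),(0,3),(0,4),(0,3),(0,1),(0,3),(0,3),(0,1),(0,2),(1,1),(3,3),(1,4),(0,4),(0,2)],
    [(0,4),(0,4),(0,3),(1,1),(0,3),(0,2),(0,2),(0,2),(0,4),(0,1),(0,2),(0,4),(0,1),(0,1),(0,4),(0,2),(0,2),(0,1),(0,4),(0,3),(0,2),(1,4),(0,4),(0,2),(0,4)],
    [(0,3),(0,3),(0,3),(0,4),(0,2),(2,2),(0,3),(0,1),(0,2),(0,3),(0,2),(0,4),(0,1),(0,3),(0,3),(0,2),(0,4),(0,1),(1,3),(1,1),(0,1),(1,2),(0,1)],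
    [(0,4),(1,1),(0,4),(0,2),(2,3),(0,3),(0,1),(0,1),(0,1),(0,1),(0,1),(0,1),(0,1),(0,2),(0,2),(1,4),(0,1),(0,2),(1,4),(1,3),(0,4),(0,3)],
    [(0,2),(0,2),(0,3),(0,1),(0,1),(0,4),(1,1),(1,3),(1,2),(0,4),(0,4),(0,2),(1,3),(0,3),(0,4),(0,2),(0,2),(0,2),(1,3),(0,1),(1,2),(0,4)],
    [(0,4),(0,3),(1,2),(1,1),(0,4),(0,1),(0,3),(0,2),(2,4),(0,4),(1,1),(0,2),(0,1),(1,3),(0,3),(0,1),(1,4),(0,4),(0,3),(0,4),(0,4)],
    [(1,4),(1,3),(0,3),(0,4),(0,1),(0,1),(2,4),(0,2),(0,4),(0,3),(0,4),(0,2),(1,4),(0,1),(0,1),(0,4),(1,4),(0,1),(1,1),(0,1),(0,3)],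
    [(1,2),(1,2),(2,1),(0,2),(0,1),(1,2),(0,3),(0,2),(0,3),(0,4),(0,4),(0,4),(0,1),(0,3),(0,1),(0,4),(0,3),(0,2),(0,2),(0,4),(0,1),(0,4),(0,3)],
    [(0,3),(0,1),(0,3),(1,2),(0,1),(0,4),(1,1),(0,3),(0,2),(1,3),(0,4),(0,4),(0,4),(0,3),(0,4),(0,4),(0,3),(0,3),(1,2),(0,4),(0,4),(0,1),(0,3),(0,3)],
    [(0,3),(0,4),(0,4),(0,3),(0,2),(0,2),(0,2),(0,2),(0,3),(1,2),(0,2),(1,3),(1,1),(0,4),(0,3),(2,4),(0,4),(0,2),(0,1),(0,1),(0,4)],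
    [(0,1),(0,2),(0,2),(0,3),(0,3),(0,1),(1,1),(0,3),(0,2),(0,2),(1,1),(0,1),(0,3),(0,3),(0,4),(0,1),(0,4),(1,2),(0,3),(0,1),(0,1),(0,3),(0,1),(0,2),(0,2)],
    [(1,2),(2,1),(0,3),(0,2),(1,2),(1,4),(0,1),(1,2),(1,4),(0,4),(1,2),(0,4),(1,3),(0,3),(0,1),(0,3),(0,3),(0,2),(0,2)],
    [(0,4),(0,4),(1,2),(0,4),(0,2),(1,4),(0,3),(0,3),(0,2),(0,2),(0,3),(0,1),(0,1),(0,4),(0,4),(0,2),(1,4),(1,4),(1,4),(1,1),(0,4),(0,1)],
    [(0,1),(0,3),(1,1),(1,1),(0,1),(0,1),(0,4),(0,3),(1,2),(0,3),(0,4),(0,1),(0,1),(1,2),(1,3),(0,2),(1,2),(0,3),(1,3),(1,4)],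
    [(2,1),(0,2),(2,2),(0,3),(1,1),(1,3),(0,2),(0,4),(0,1),(0,4),(0,4),(0,4),(0,1),(0,4),(0,3),(0,4),(0,2),(0,4),(0,2),(0,2),(1,3)]]

/-- A letter. -/
def mat2 : List (List (ℕ × ℕ)) := [
    [(0,1),(1,3),(1,2),(0,1),(0,4),(0,1),(0,4),(0,2),(0,3),(0,4),(0,3),(0,3),(0,4),(0,1),(0,1),(0,4),(0,2),(0,4),(0,3),(0,3),(1,2),(0,1),(0,1),(0,2),(0,2)],
    [(0,4),(0,3),(0,3),(0,1),(1,2),(0,3),(0,1),(0,2),(0,2),(0,3),(0,3),(0,1),(2,3),(1,2),(0,3),(0,2),(1,1),(0,2),(0,2),(0,2),(0,1),(0,3),(0,2)],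
    [(2,1),(0,4),(0,2),(0,1),(0,3),(0,4),(1,4),(0,1),(0,2),(0,2),(0,1),(0,3),(0,2),(0,1),(0,2),(0,3),(1,4),(0,4),(1,4),(1,3),(0,3)],
    [(0,2),(0,4),(1,2),(1,3),(0,3),(0,1),(0,1),(0,1),(0,3),(0,2),(0,2),(0,1),(0,3),(0,2),(0,4),(0,3),(0,2),(2,1),(0,2),(0,3),(0,4),(0,3),(0,3),(0,2)],
    [(1,3),(0,2),(0,1),(0,4),(0,2),(0,3),(0,2),(0,1),(0,4),(0,4),(2,3),(0,4),(0,4),(0,3),(0,4),(0,4),(2,1),(0,1),(0,4),(0,3),(0,3),(1,2)],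
    [(1,4),(0,1),(0,1),(0,3),(0,4),(1,4),(1,4),(0,2),(0,2),(0,1),(0,1),(0,3),(1,3),(0,3),(1,3),(0,3),(0,1),(0,1),(1,1),(0,1)],
    [(1,3),(0,3),(0,4),(0,1),(0,2),(0,3),(1,4),(0,4),(0,2),(0,3),(0,3),(0,3),(0,4),(0,4),(0,3),(1,2),(0,4),(0,2),(0,1),(0,4),(0,2),(0,1),(0,2),(0,1),(0,4)],
    [(0,4),(1,4),(0,3),(0,4),(2,4),(2,2),(0,3),(0,4),(0,4),(0,3),(0,2),(0,2),(1,4),(0,4),(1,1),(2,3),(1,3),(0,4)],
    [(0,4),(0,3),(0,4),(0,4),(1,1),(1,4),(0,3),(0,3),(0,1),(0,3),(0,3),(0,2),(0,2),(0,2),(1,4),(0,3),(0,3),(1,4),(1,1),(0,2),(0,1),(1,4)],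
    [(0,2),(0,4),(0,1),(0,1),(0,2),(1,1),(0,3),(1,1),(0,3),(0,3),(1,1),(0,1),(0,2),(0,1),(0,3),(0,4),(0,4),(0,3),(1,2),(0,2),(0,4),(0,4),(0,1),(0,3)],
    [(0,1),(1,3),(0,2),(0,1),(3,3),(2,2),(0,1),(2,2),(0,3),(0,4),(2,3),(0,2),(0,1),(0,2),(0,1),(0,4),(0,1),(0,2)],
    [(1,1),(0,1),(0,3),(0,4),(1,1),(0,2),(0,4),(0,3),(1,2),(0,4),(0,3),(0,1),(0,3),(0,2),(0,3),(0,2),(0,3),(1,3),(1,2),(0,1),(1,1),(0,3)],
    [(2,3),(0,2),(2,2),(0,3),(0,1),(0,1),(0,3),(0,1),(0,3),(0,1),(0,2),(0,2),(0,2),(0,4),(0,2),(0,2),(1,2),(0,3),(0,2),(3,3)],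
    [(0,4),(0,3),(0,2),(0,2),(0,2),(0,4),(0,1),(0,1),(0,3),(0,3),(0,4),(2,2),(0,4),(0,2),(0,3),(0,1),(0,4),(0,4),(1,2),(0,2),(0,1),(0,4),(0,2),(0,1)],
    [(0,3),(0,1),(0,3),(0,4),(1,2),(2,4),(0,3),(0,3),(0,4),(0,4),(0,2),(0,4),(0,3),(0,1),(0,3),(0,1),(0,2),(0,2),(0,2),(0,2),(0,1),(0,3),(0,2),(0,1),(0,4)],
    [(0,4),(0,2),(0,2),(1,1),(0,2),(0,1),(0,4),(0,3),(0,1),(1,1),(0,2),(0,1),(0,4),(0,1),(0,1),(0,4),(0,3),(0,3),(0,4),(0,1),(0,4),(0,2),(0,3),(0,3),(0,1),(0,2)],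
    [(0,2),(0,1),(0,4),(1,3),(1,3),(0,2),(0,3),(0,2),(0,3),(0,3),(0,3),(0,3),(0,2),(0,1),(0,3),(0,4),(0,3),(0,3),(1,2),(0,1),(1,1),(0,2),(0,3),(0,3)],
    [(0,4),(0,4),(0,4),(0,3),(0,3),(0,1),(1,2),(0,2),(0,1),(1,4),(0,4),(0,1),(0,1),(0,3),(0,4),(0,4),(0,3),(0,4),(0,1),(0,4),(0,1),(0,1),(0,1),(0,1),(0,3),(0,4)],
    [(0,2),(2,4),(1,4),(1,2),(0,4),(0,2),(0,1),(0,4),(0,4),(0,2),(0,3),(0,4),(1,3),(0,3),(1,2),(0,1),(0,2),(0,1),(0,4),(0,4),(0,3),(0,3)],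
    [(0,3),(2,3),(0,2),(0,3),(1,4),(2,1),(0,1),(0,1),(0,3),(0,3),(1,3),(0,1),(0,2),(0,1),(0,1),(0,4),(0,2),(0,1),(0,1),(0,4),(0,4),(0,4)],
    [(0,4),(0,3),(0,1),(0,4),(0,1),(0,1),(1,3),(0,1),(0,4),(0,3),(1,1),(0,1),(0,3),(0,3),(0,1),(0,3),(0,1),(0,2),(0,1),(0,1),(0,2),(2,4),(0,3)],
    [(0,4),(1,2),(0,1),(0,1),(0,1),(0,3),(0,4),(0,3),(0,1),(0,4),(0,3),(0,3),(0,4),(0,4),(0,2),(0,1),(1,2),(0,2),(0,3),(0,3),(1,4),(0,1),(0,1),(0,4),(0,2)],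
    [(0,3),(2,1),(0,1),(2,3),(1,4),(0,2),(0,3),(0,1),(0,2),(0,3),(1,1),(0,2),(0,1),(1,4),(0,2),(0,4),(0,1),(0,1),(0,2),(0,2)],
    [(0,3),(1,1),(0,1),(0,3),(0,1),(0,1),(0,2),(1,2),(0,3),(1,4),(0,1),(0,4),(0,4),(1,4),(1,3),(0,1),(1,1),(0,3),(0,1),(0,4),(0,4),(0,3)],
    [(0,3),(1,3),(0,3),(1,1),(0,3),(0,3),(0,2),(0,4),(0,1),(0,4),(0,1),(1,3),(0,1),(1,1),(0,4),(0,2),(0,1),(0,2),(0,4),(1,2),(0,1),(0,4),(0,1)],
    [(0,1),(0,4),(0,1),(0,2),(1,2),(0,1),(0,2),(0,4),(0,4),(0,2),(1,1),(0,2),(0,4),(0,3),(0,1),(0,4),(0,3),(0,4),(0,3),(0,3),(0,2),(1,2),(0,1),(1,2)],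
    [(1,1),(1,3),(1,2),(0,2),(0,3),(0,4),(2,3),(0,4),(2,4),(0,3),(0,1),(0,3),(0,1),(1,4),(0,3),(0,2),(0,4),(0,1),(0,4),(0,2)],
    [(2,2),(0,2),(1,2),(0,1),(0,4),(0,2),(0,1),(0,1),(0,1),(2,3),(0,4),(0,4),(0,1),(0,1),(0,2),(1,4),(0,2),(0,4),(0,2),(0,2),(0,2),(0,4)]]

/-- A letter. -/
def mat3 : List (List (ℕ × ℕ)) := [
    [(0,3),(0,1),(0,4),(1,1),(0,4),(0,2),(0,4),(1,3),(0,1),(1,3),(0,3),(1,4),(0,4),(1,4),(0,2),(0,3),(0,4),(0,2),(1,1),(0,4),(0,4),(0,4)],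
    [(1,3),(5,4),(0,1),(1,4),(0,2),(0,1),(1,2),(0,2),(0,1),(0,1),(1,1),(0,3),(0,4),(0,3),(0,4),(0,1),(0,4),(0,1),(0,2)],
    [(0,2),(1,4),(0,1),(2,3),(0,2),(0,4),(1,2),(0,2),(1,2),(0,3),(0,4),(1,4),(0,3),(0,3),(0,3),(0,4),(0,2),(0,4),(0,2),(0,4),(1,4)],
    [(0,3),(0,1),(0,1),(0,4),(1,2),(1,4),(0,2),(1,3),(0,1),(0,1),(0,1),(0,4),(0,3),(0,2),(2,1),(0,2),(1,3),(1,2),(2,1)],
    [(0,2),(2,3),(0,1),(1,4),(0,4),(2,1),(1,1),(0,2),(0,3),(0,3),(0,2),(1,2),(3,2),(0,4),(0,2),(0,4),(1,1)],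
    [(3,1),(0,1),(0,4),(1,3),(0,4),(0,2),(0,3),(0,1),(0,3),(1,2),(0,2),(0,1),(2,2),(0,2),(0,1),(0,2),(0,4),(0,2),(1,3),(0,1)],
    [(0,4),(0,1),(0,4),(0,4),(1,1),(0,1),(0,2),(0,2),(0,4),(0,4),(0,3),(0,3),(0,1),(0,1),(1,3),(0,4),(0,3),(1,1),(0,2),(1,4),(0,2),(0,1),(0,4),(0,2)],
    [(0,2),(0,2),(1,1),(0,1),(0,4),(1,4),(1,1),(1,3),(0,3),(0,4),(1,3),(0,3),(0,3),(0,4),(0,4),(0,4),(0,4),(3,2),(0,1),(0,3)],
    [(0,3),(0,4),(3,3),(0,4),(0,3),(0,1),(1,4),(0,4),(0,3),(0,4),(0,2),(0,3),(0,2),(5,3),(0,3),(0,3),(0,1),(0,1),(0,1)],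
    [(0,1),(0,3),(0,3),(0,4),(0,4),(0,2),(0,1),(0,1),(1,4),(0,4),(1,3),(0,3),(0,3),(0,2),(0,4),(1,4),(0,3),(0,1),(0,4),(0,1),(0,2),(0,2),(0,4),(0,2),(0,1)],
    [(0,2),(0,1),(0,1),(0,1),(0,3),(0,4),(0,2),(1,1),(0,2),(0,1),(1,4),(0,3),(2,4),(1,1),(3,2),(0,1),(0,4),(1,3),(0,4)],
    [(3,4),(0,3),(0,1),(0,1),(0,3),(0,1),(0,3),(0,4),(0,4),(0,2),(1,2),(0,2),(1,2),(1,4),(0,2),(0,4),(0,1),(0,1),(0,3),(0,3),(0,2),(0,4)],
    [(0,2),(1,4),(0,1),(1,3),(0,4),(0,1),(0,4),(0,2),(1,2),(0,2),(0,2),(0,1),(0,3),(0,3),(0,1),(0,2),(0,2),(0,3),(0,3),(0,1),(0,3),(0,3),(0,4),(1,3)],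
    [(0,1),(0,4),(0,4),(0,3),(0,3),(0,4),(0,4),(0,4),(2,4),(0,4),(0,3),(1,3),(2,3),(0,2),(0,1),(0,3),(0,2),(0,3),(0,4),(0,3),(0,4),(1,4)],
    [(0,4),(0,4),(0,2),(0,4),(0,2),(0,1),(0,3),(1,2),(0,2),(0,2),(0,4),(1,3),(0,3),(0,1),(1,1),(0,3),(0,3),(0,3),(0,3),(2,1),(0,2)],
    [(3,2),(0,3),(1,1),(0,3),(0,4),(0,1),(0,3),(0,3),(0,3),(0,2),(0,4),(0,2),(0,3),(0,2),(0,4),(0,4),(0,3),(0,2),(0,1),(0,1),(0,1),(0,2),(0,4),(0,4)],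
    [(1,2),(0,3),(0,3),(2,3),(0,3),(1,1),(0,3),(0,3),(0,2),(0,2),(1,2),(1,1),(0,4),(0,1),(0,2),(0,1),(0,4),(0,3),(0,4),(0,3),(0,4),(0,1)],
    [(1,2),(0,4),(1,3),(0,4),(1,2),(0,1),(0,4),(0,2),(0,1),(0,4),(0,1),(0,3),(0,1),(1,1),(0,3),(0,2),(1,1),(0,1),(0,3),(0,1),(0,3),(1,1)],
    [(0,4),(1,1),(0,4),(0,4),(0,3),(0,4),(0,3),(1,3),(1,2),(0,4),(1,2),(1,1),(0,2),(0,1),(0,4),(0,1),(1,3),(0,3),(0,3),(0,4),(0,4)],
    [(0,4),(1,1),(2,4),(0,1),(2,2),(1,4),(0,2),(0,4),(1,2),(0,1),(1,1),(0,3),(0,3),(0,4),(1,2),(0,3),(0,2),(1,4)],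
    [(0,4),(0,2),(0,3),(0,2),(0,4),(0,1),(0,4),(0,1),(1,1),(1,1),(0,3),(0,2),(0,3),(0,3),(0,3),(0,3),(0,3),(1,4),(0,2),(0,3),(0,3),(0,1),(1,1),(0,3)],
    [(2,2),(2,1),(0,2),(0,3),(1,4),(0,2),(0,1),(0,4),(0,3),(0,2),(1,1),(0,2),(0,2),(0,4),(0,3),(0,2),(1,4),(0,2),(0,1),(1,2)],
    [(0,1),(0,1),(0,4),(0,4),(0,4),(0,1),(0,1),(0,2),(2,4),(0,2),(0,2),(1,3),(0,4),(0,2),(0,3),(0,2),(1,4),(0,1),(0,2),(0,3),(0,1),(0,2),(1,2)],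
    [(0,4),(0,3),(0,4),(0,1),(0,4),(2,2),(0,1),(0,1),(1,3),(0,3),(0,1),(0,1),(0,1),(0,3),(0,2),(0,2),(0,4),(0,4),(0,4),(0,2),(1,1),(0,1),(0,2),(0,2)],
    [(0,3),(1,2),(0,1),(0,2),(0,2),(0,3),(0,3),(0,2),(2,4),(0,1),(0,4),(0,3),(0,4),(1,4),(0,1),(0,2),(0,1),(0,2),(0,1),(0,1),(0,4),(1,1),(0,4)],
    [(2,1),(0,1),(1,3),(0,3),(0,2),(1,1),(0,2),(0,3),(0,4),(0,2),(0,3),(0,1),(2,1),(0,2),(0,1),(0,3),(0,3),(0,2),(0,3),(0,2),(0,1),(0,1)],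
    [(2,4),(0,3),(0,1),(0,1),(0,4),(0,2),(0,4),(0,2),(0,4),(0,1),(0,1),(1,4),(0,2),(0,1),(0,3),(0,3),(0,1),(0,3),(0,3),(0,2),(0,4),(0,2),(0,1),(0,4),(0,1)],
    [(0,4),(0,4),(0,4),(0,2),(0,1),(0,3),(1,3),(1,2),(0,2),(0,3),(0,4),(0,4),(0,1),(3,2),(0,3),(0,1),(0,3),(0,2),(0,2),(0,4),(0,1),(0,4),(0,2)]]

/-- A letter. -/
def mat4 : List (List (ℕ × ℕ)) := [
    [(0,2),(0,2),(1,3),(0,1),(0,3),(0,4),(1,4),(0,3),(0,4),(0,1),(1,1),(0,4),(0,2),(0,1),(0,4),(0,3),(0,1),(0,3),(0,1),(1,2),(0,3),(0,1),(0,3),(0,2)],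
    [(0,1),(0,3),(0,1),(0,1),(0,1),(0,1),(0,4),(0,4),(0,3),(0,4),(1,4),(0,1),(0,1),(0,4),(0,2),(0,2),(0,1),(0,2),(0,1),(0,3),(2,4),(0,1),(0,3),(0,1),(0,1)],
    [(0,2),(0,1),(0,1),(0,2),(0,1),(0,4),(0,1),(0,3),(0,2),(1,2),(0,1),(0,4),(0,4),(0,2),(0,1),(0,1),(0,4),(0,4),(0,1),(0,3),(0,2),(0,2),(2,2),(1,4)],
    [(0,3),(0,4),(0,1),(1,4),(0,2),(0,1),(0,1),(1,2),(0,3),(1,1),(1,3),(0,1),(0,2),(0,4),(0,1),(0,4),(0,4),(0,4),(0,1),(0,3),(0,4),(1,2)],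
    [(0,2),(0,2),(0,3),(0,3),(0,2),(0,4),(3,4),(0,1),(0,4),(0,4),(0,2),(1,1),(0,4),(0,1),(0,2),(0,3),(0,4),(0,2),(1,2),(0,4),(0,1)],
    [(0,1),(0,1),(0,1),(0,3),(0,4),(0,1),(0,1),(0,3),(0,2),(0,1),(0,4),(0,3),(0,1),(0,4),(0,2),(0,4),(0,4),(1,1),(0,2),(0,4),(1,2),(0,1),(0,3),(0,4),(0,1),(0,2)],
    [(1,3),(1,4),(0,1),(0,1),(0,2),(0,2),(0,4),(0,3),(0,4),(0,1),(0,4),(0,1),(0,4),(0,3),(0,1),(0,2),(0,4),(1,3),(0,1),(0,1),(1,3),(0,2),(1,2)],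
    [(0,2),(0,4),(0,1),(0,4),(0,4),(0,1),(0,1),(0,3),(0,3),(0,3),(0,1),(0,1),(0,4),(0,2),(0,4),(1,4),(0,1),(1,1),(2,3),(0,3),(0,2),(0,3),(0,3),(0,4)],
    [(0,4),(1,1),(1,3),(0,2),(0,1),(0,1),(0,1),(0,3),(0,4),(1,3),(0,1),(1,1),(0,3),(0,1),(0,4),(0,4),(0,4),(0,3),(1,1),(0,4),(0,2),(0,3),(0,4)],
    [(1,1),(2,3),(1,4),(0,4),(0,2),(0,2),(1,3),(0,1),(0,3),(0,4),(0,3),(0,3),(0,1),(0,2),(0,2),(2,3),(1,4),(0,3),(0,1),(0,3)],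
    [(1,2),(1,2),(1,2),(0,2),(0,4),(0,3),(0,2),(0,2),(0,2),(0,3),(0,4),(0,1),(0,4),(0,4),(0,3),(1,4),(0,2),(0,3),(0,1),(0,2),(1,2),(0,3),(0,2)],
    [(0,4),(0,2),(1,4),(0,4),(0,2),(1,3),(0,4),(1,3),(2,4),(0,4),(3,4),(0,2),(0,4),(0,1),(0,4),(0,2),(0,1),(0,1),(0,2),(0,4)],
    [(1,2),(0,1),(0,2),(0,3),(1,1),(0,1),(0,4),(0,3),(0,2),(0,3),(0,1),(0,4),(0,4),(0,4),(0,2),(0,2),(1,1),(0,1),(0,3),(0,4),(0,1),(0,2),(0,2),(0,4),(0,3)],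
    [(0,3),(2,4),(0,3),(0,3),(0,1),(0,1),(1,3),(0,1),(0,4),(0,1),(0,3),(0,2),(0,2),(0,4),(0,3),(3,1),(0,3),(0,2),(0,3),(0,3),(0,3),(0,3)],
    [(1,2),(3,4),(0,1),(0,3),(0,4),(0,4),(0,1),(0,3),(3,4),(1,4),(1,3),(0,3),(0,4),(0,1),(1,3),(0,4),(0,2)],
    [(1,4),(0,1),(0,2),(0,4),(0,2),(0,2),(0,1),(0,2),(2,3),(0,3),(0,3),(0,3),(1,4),(0,1),(0,4),(0,3),(0,2),(0,3),(0,4),(0,1),(0,4),(0,1),(0,2),(0,4)],
    [(0,2),(1,2),(0,4),(0,1),(0,1),(0,4),(0,2),(0,2),(0,1),(1,2),(1,1),(0,3),(0,3),(0,1),(0,1),(1,2),(0,1),(0,1),(0,1),(1,2),(0,3),(0,3),(0,3)],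
    [(0,4),(0,3),(1,1),(0,1),(0,1),(0,1),(0,3),(0,4),(0,2),(0,2),(2,4),(0,4),(0,2),(0,4),(0,4),(0,1),(0,1),(1,4),(0,4),(0,1),(0,4),(1,2),(0,3)],
    [(0,3),(0,2),(0,1),(2,3),(0,2),(0,2),(0,4),(1,2),(0,4),(0,4),(0,1),(0,3),(0,1),(0,3),(0,4),(1,4),(1,1),(0,1),(0,4),(0,2),(0,2),(1,4)],
    [(0,1),(2,3),(2,2),(1,1),(0,2),(1,3),(0,3),(0,1),(0,3),(1,2),(0,3),(0,4),(2,2),(0,3),(0,1),(0,2),(0,2),(1,3)],
    [(1,2),(0,1),(0,2),(0,1),(1,2),(0,2),(0,2),(0,4),(0,3),(2,2),(0,2),(0,4),(1,1),(0,3),(0,3),(0,1),(1,4),(0,2),(0,3),(0,1),(0,3),(0,2)],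
    [(0,3),(1,3),(0,1),(0,1),(0,4),(1,2),(0,4),(1,2),(0,2),(0,2),(0,2),(1,1),(0,1),(0,4),(0,1),(1,2),(0,2),(0,3),(1,1),(0,4),(0,1),(0,2)],
    [(0,3),(1,2),(0,3),(0,1),(0,1),(0,3),(2,2),(1,2),(0,3),(0,2),(0,4),(0,1),(0,1),(1,2),(0,3),(0,3),(0,2),(0,3),(0,4),(0,2),(0,3),(0,2),(0,1)],
    [(0,4),(0,2),(0,3),(0,4),(0,4),(0,1),(0,2),(0,2),(2,1),(0,2),(0,4),(0,1),(0,3),(0,4),(0,4),(0,3),(1,2),(0,2),(1,2),(0,4),(0,2),(0,4),(0,4),(0,3)],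
    [(0,1),(1,2),(0,2),(0,4),(0,3),(0,2),(2,1),(0,2),(1,2),(1,2),(0,3),(0,4),(0,3),(0,1),(0,3),(0,1),(0,4),(1,3),(0,1),(1,2),(0,4)],
    [(1,2),(0,3),(1,2),(0,1),(0,1),(0,3),(0,3),(0,3),(0,3),(0,2),(0,3),(1,2),(0,3),(0,4),(0,2),(0,3),(1,4),(0,1),(0,3),(0,2),(0,3),(0,3),(0,4),(0,1)],
    [(0,4),(0,3),(0,4),(0,3),(1,1),(0,2),(0,2),(1,3),(0,1),(0,4),(0,2),(0,3),(0,2),(0,3),(0,4),(0,1),(1,3),(0,2),(0,3),(0,1),(0,2),(0,2),(0,4),(0,1),(0,3)],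
    [(0,2),(0,4),(1,4),(0,2),(0,3),(0,4),(0,3),(0,2),(0,4),(0,4),(0,1),(0,4),(0,3),(0,4),(0,3),(0,2),(1,4),(0,4),(0,3),(0,3),(0,1),(0,4),(0,3),(0,4),(0,1),(0,3)]]

/-- A letter. -/
def mat5 : List (List (ℕ × ℕ)) := [
    [(0,3),(0,4),(0,1),(1,4),(0,2),(0,2),(1,4),(0,4),(0,1),(2,3),(0,3),(0,1),(1,3),(0,4),(1,1),(0,4),(0,3),(0,2),(0,1),(1,3),(0,2)],
    [(1,1),(0,3),(0,1),(0,4),(0,1),(0,4),(2,1),(0,1),(0,3),(0,3),(0,4),(0,2),(0,3),(0,3),(0,4),(0,2),(0,1),(0,2),(0,4),(0,2),(0,2),(0,2),(0,3),(0,2),(0,4)],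
    [(1,3),(0,1),(0,1),(0,1),(1,1),(0,4),(1,1),(2,4),(0,4),(0,3),(0,1),(0,1),(1,1),(0,1),(0,1),(0,4),(0,1),(0,2),(0,2),(0,1),(0,2),(0,4)],
    [(0,1),(1,4),(0,3),(0,2),(2,2),(0,2),(0,4),(0,4),(0,3),(0,1),(0,3),(0,3),(0,3),(0,2),(3,3),(1,3),(0,3),(0,2),(0,3),(0,1),(0,1)],
    [(0,1),(0,1),(0,4),(0,2),(0,1),(2,3),(0,1),(0,4),(0,2),(0,4),(0,2),(0,3),(0,1),(0,1),(0,1),(0,4),(0,3),(0,1),(0,3),(1,1),(0,4),(1,3),(1,3)],
    [(0,1),(0,1),(0,2),(0,3),(0,1),(1,4),(0,3),(0,4),(0,4),(0,4),(0,2),(0,1),(0,3),(1,3),(0,2),(1,1),(0,1),(0,2),(0,4),(0,3),(0,3),(0,1),(0,2),(0,4)],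
    [(0,4),(0,1),(0,2),(0,3),(1,3),(0,2),(0,1),(0,3),(1,4),(1,2),(0,1),(0,3),(5,4),(2,2),(0,2),(0,1),(0,2)],
    [(0,1),(0,4),(0,1),(0,3),(0,4),(0,4),(0,3),(0,3),(1,1),(1,2),(0,3),(0,2),(1,2),(0,2),(0,4),(0,3),(0,2),(0,2),(0,3),(1,2),(0,2),(0,4),(0,2),(0,4)],
    [(0,1),(0,3),(0,1),(0,2),(0,1),(0,3),(1,3),(1,3),(0,2),(0,1),(0,2),(0,3),(1,3),(0,1),(1,3),(2,3),(0,1),(3,1),(0,3)],
    [(0,3),(0,1),(0,1),(1,1),(0,1),(0,3),(0,1),(1,3),(1,2),(0,4),(0,2),(0,1),(1,1),(1,3),(0,1),(0,3),(1,2),(0,3),(0,4),(0,2),(0,2),(0,4)],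
    [(0,3),(0,2),(0,1),(0,1),(0,3),(0,2),(0,2),(0,2),(0,3),(0,2),(0,4),(0,4),(0,2),(0,1),(0,1),(0,4),(1,1),(1,4),(0,3),(0,3),(0,1),(0,1),(0,4),(0,2),(0,3),(0,2)],
    [(0,2),(1,2),(0,1),(1,4),(0,3),(0,1),(0,2),(0,1),(0,2),(2,3),(0,2),(0,2),(0,1),(0,4),(0,1),(0,1),(0,1),(1,1),(0,4),(0,2),(0,3),(1,2)],
    [(0,3),(2,1),(0,4),(0,2),(0,4),(1,2),(0,3),(0,2),(0,3),(0,4),(0,1),(1,2),(0,4),(0,1),(1,4),(0,4),(0,1),(0,2),(0,1),(0,4),(0,2),(0,4),(0,2)],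
    [(0,1),(2,2),(1,4),(0,4),(0,1),(2,4),(0,3),(0,4),(0,1),(0,1),(0,3),(0,2),(0,3),(0,2),(1,4),(0,2),(0,1),(0,2),(0,2)],
    [(0,2),(0,3),(0,3),(1,1),(0,1),(0,2),(0,1),(1,4),(0,1),(0,4),(1,4),(0,1),(0,2),(0,3),(0,3),(0,3),(0,3),(0,1),(0,4),(0,2),(0,3),(1,2),(1,4)],
    [(0,1),(1,2),(0,4),(1,4),(0,1),(0,2),(1,4),(0,1),(1,1),(0,1),(0,4),(0,4),(0,4),(0,3),(0,3),(3,2),(1,3),(1,3)],
    [(0,3),(2,4),(1,3),(0,1),(1,4),(0,4),(0,3),(0,2),(0,3),(2,2),(2,2),(0,2),(1,3),(0,4),(0,2),(0,2),(0,3),(0,4),(0,2)],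
    [(0,2),(1,1),(1,1),(0,2),(0,2),(0,4),(0,4),(0,4),(0,2),(0,1),(1,3),(0,3),(0,2),(0,4),(0,4),(0,2),(0,1),(0,1),(0,4),(0,1),(0,3),(0,2),(0,3),(0,3)],
    [(1,4),(0,1),(0,3),(0,3),(0,2),(0,4),(1,1),(0,4),(0,1),(0,2),(0,1),(1,2),(0,1),(0,4),(0,2),(2,1),(0,3),(0,4),(1,4),(0,3),(0,1),(0,2)],
    [(1,4),(0,3),(0,3),(0,1),(1,4),(0,2),(1,3),(0,2),(0,4),(0,4),(0,4),(0,2),(0,2),(0,2),(0,4),(0,1),(0,1),(0,1),(0,1),(0,4),(0,1),(0,4),(0,2),(0,3),(0,4)],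
    [(0,2),(0,4),(0,3),(1,1),(0,2),(0,1),(0,4),(0,1),(0,4),(0,2),(0,2),(0,4),(1,2),(0,1),(0,1),(0,1),(0,2),(0,1),(0,2),(0,1),(0,2),(0,4),(1,4),(0,1)],
    [(0,3),(2,1),(0,3),(0,3),(0,1),(0,2),(0,1),(0,4),(0,1),(0,1),(0,2),(0,4),(0,4),(0,4),(0,4),(0,1),(0,1),(0,2),(1,3),(1,1),(0,3),(1,4),(0,4)],
    [(1,1),(0,2),(0,1),(0,3),(0,3),(0,3),(0,4),(1,2),(1,2),(0,1),(1,4),(0,3),(0,2),(0,4),(0,4),(0,3),(0,3),(0,2),(0,1),(0,2),(0,2),(0,1),(0,1),(0,3)],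
    [(1,4),(0,2),(0,4),(1,2),(0,2),(0,3),(1,4),(0,4),(0,1),(2,4),(0,4),(0,2),(0,1),(0,3),(0,2),(0,1),(0,4),(0,4),(0,2),(0,1),(0,4),(0,2),(0,2)],
    [(0,3),(0,3),(0,2),(0,3),(0,3),(0,4),(0,2),(0,3),(0,1),(0,2),(0,3),(0,4),(2,3),(0,4),(0,3),(0,3),(1,3),(0,1),(0,2),(1,3),(1,4),(0,1),(0,2)],
    [(0,4),(1,3),(0,3),(0,4),(0,1),(0,3),(0,2),(0,3),(0,4),(0,1),(0,3),(0,3),(0,1),(0,3),(0,3),(1,3),(1,1),(0,2),(0,3),(1,3),(0,3),(0,2),(0,2),(0,1)],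
    [(0,4),(2,3),(1,3),(1,4),(2,2),(0,3),(0,1),(0,1),(0,3),(0,4),(2,2),(0,4),(1,3),(1,2),(0,1),(0,3),(0,2),(0,3)],
    [(1,4),(0,4),(0,2),(0,4),(1,2),(0,4),(0,3),(1,2),(0,3),(1,4),(2,1),(0,1),(0,1),(0,4),(0,1),(0,3),(0,1),(0,2),(0,1),(0,1),(1,2)]]

/-- A letter. -/
def mat6 : List (List (ℕ × ℕ)) := [
    [(0,1),(0,3),(0,2),(0,2),(1,1),(1,4),(0,4),(0,4),(2,4),(0,4),(0,3),(0,1),(0,2),(0,1),(0,2),(0,1),(1,1),(0,2),(0,2),(0,4),(0,1),(0,2),(0,1)],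
    [(0,2),(0,1),(0,2),(0,2),(1,4),(0,2),(0,1),(0,2),(0,1),(1,3),(0,4),(0,2),(0,3),(0,4),(0,2),(1,3),(0,4),(0,4),(0,4),(0,1),(0,3),(0,2),(1,1),(0,3)],
    [(0,2),(1,2),(0,1),(0,4),(0,3),(0,2),(0,1),(1,1),(0,1),(0,2),(1,3),(0,2),(0,1),(0,4),(0,4),(0,3),(0,3),(0,1),(0,4),(0,1),(0,4),(2,2),(0,2)],
    [(0,1),(0,1),(0,2),(0,4),(0,2),(0,3),(1,1),(0,2),(0,2),(0,4),(0,3),(1,3),(0,4),(0,2),(0,2),(0,3),(0,2),(0,3),(0,4),(0,3),(1,4),(0,1),(2,1)],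
    [(0,3),(0,1),(1,1),(0,2),(0,1),(1,1),(0,3),(0,3),(0,1),(0,3),(0,2),(2,2),(0,4),(0,3),(0,4),(1,4),(0,3),(0,3),(0,4),(0,2),(0,4),(0,2)],
    [(0,2),(0,4),(0,3),(0,3),(0,3),(0,3),(0,1),(0,3),(0,1),(0,4),(0,2),(0,4),(1,4),(0,2),(0,1),(3,3),(0,3),(0,1),(0,2),(0,3),(0,2),(0,3),(1,2)],
    [(0,2),(0,1),(0,3),(0,4),(1,3),(0,1),(0,1),(2,4),(2,4),(0,2),(0,1),(0,1),(0,1),(0,3),(1,3),(0,3),(0,3),(0,1),(0,2),(0,4),(1,2)],
    [(1,2),(0,3),(1,2),(0,1),(0,1),(0,2),(1,3),(0,4),(0,4),(0,2),(0,1),(0,4),(0,3),(0,3),(0,2),(0,4),(0,2),(0,3),(0,3),(1,1),(0,3),(1,4),(0,3)],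
    [(0,1),(0,1),(0,3),(0,2),(0,1),(0,4),(1,1),(0,4),(0,1),(0,1),(0,4),(0,2),(0,4),(1,4),(0,4),(1,2),(0,1),(0,4),(1,2),(0,2),(1,1),(0,3),(0,1)],
    [(1,3),(0,1),(1,4),(0,4),(0,1),(0,2),(1,3),(1,3),(0,1),(0,1),(0,4),(0,1),(0,4),(0,1),(0,4),(2,3),(0,4),(0,1),(0,4),(1,4),(0,1)],
    [(0,1),(0,3),(0,2),(0,4),(0,1),(1,3),(0,2),(0,2),(0,1),(2,1),(0,3),(1,3),(0,1),(1,3),(0,4),(1,3),(0,4),(1,4),(0,1),(1,3)],
    [(1,4),(1,4),(0,3),(0,3),(2,3),(0,1),(0,1),(0,4),(0,1),(0,4),(0,3),(0,1),(0,3),(0,2),(0,4),(2,1),(0,4),(0,2),(0,3),(0,2),(0,4)],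
    [(0,1),(0,1),(0,2),(0,2),(0,4),(0,2),(0,1),(0,4),(0,2),(0,1),(0,1),(0,1),(0,3),(0,2),(1,4),(0,4),(0,4),(2,1),(0,2),(0,1),(0,4),(0,1),(0,4),(0,2),(0,1)],
    [(0,1),(0,2),(0,3),(0,4),(0,4),(0,2),(0,2),(0,1),(0,4),(0,4),(0,3),(0,4),(0,2),(0,1),(0,2),(1,3),(0,4),(0,2),(2,2),(0,2),(1,1),(1,3),(0,3)],
    [(0,3),(0,2),(0,2),(0,2),(0,4),(0,4),(0,1),(0,1),(0,2),(0,2),(0,3),(0,3),(0,2),(0,2),(0,2),(1,1),(0,3),(0,1),(0,4),(1,4),(0,2),(0,1),(1,4),(0,3),(0,4)],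
    [(0,2),(0,4),(1,4),(0,4),(0,3),(0,2),(1,2),(0,1),(0,3),(0,1),(0,1),(1,4),(0,2),(0,1),(0,1),(0,3),(0,3),(0,4),(0,1),(0,4),(0,4),(1,2),(0,1),(0,2)],
    [(0,4),(2,1),(0,4),(0,4),(0,4),(0,4),(1,1),(0,1),(1,2),(0,3),(0,1),(2,4),(0,1),(0,4),(0,1),(1,1),(0,1),(0,1),(1,4),(0,4)],
    [(0,2),(1,2),(0,1),(1,3),(0,3),(0,2),(1,2),(0,4),(0,2),(0,2),(0,1),(1,3),(0,1),(0,4),(1,2),(0,2),(0,1),(0,2),(0,4),(0,1),(0,3),(0,2),(0,2)],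
    [(0,4),(0,1),(0,2),(0,3),(0,2),(0,4),(0,2),(0,2),(0,2),(0,3),(0,2),(0,3),(0,1),(0,2),(0,4),(0,1),(0,4),(1,4),(1,2),(1,3),(0,2),(1,3),(0,4),(0,4)],
    [(0,4),(2,3),(1,3),(0,4),(0,3),(0,4),(0,2),(0,1),(1,4),(0,2),(0,4),(0,4),(0,3),(1,2),(2,1),(0,1),(0,1),(1,2),(0,3),(0,4)],
    [(0,2),(0,1),(1,3),(1,2),(0,3),(0,3),(0,2),(0,3),(0,4),(0,1),(0,3),(0,4),(0,1),(2,4),(1,2),(0,1),(0,4),(0,4),(0,1),(0,3),(0,4),(0,2),(0,3)],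
    [(1,2),(0,4),(0,4),(1,3),(0,4),(0,4),(0,2),(0,2),(1,3),(0,4),(0,3),(0,4),(0,4),(1,2),(1,2),(0,2),(0,3),(0,4),(0,1),(0,4),(0,3),(0,2),(0,4)],
    [(0,3),(0,2),(0,4),(0,2),(0,4),(0,1),(1,3),(0,4),(0,2),(1,4),(0,2),(0,4),(0,4),(0,2),(2,3),(0,1),(0,3),(0,2),(0,3),(1,1),(0,3),(0,3),(0,3)],
    [(0,4),(1,3),(0,3),(0,3),(0,2),(0,2),(1,1),(0,1),(0,1),(1,2),(0,4),(0,4),(0,1),(1,1),(0,2),(0,4),(0,2),(0,2),(1,3),(0,4),(0,4),(0,4),(0,3)],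
    [(1,3),(1,3),(0,4),(0,3),(0,4),(0,4),(0,2),(0,2),(0,1),(0,4),(1,4),(0,1),(0,1),(0,3),(1,4),(0,1),(1,3),(0,1),(1,4),(0,1),(0,3),(0,4)],
    [(1,3),(0,2),(2,4),(1,1),(0,1),(0,2),(0,4),(0,4),(0,1),(0,3),(0,1),(0,1),(0,3),(0,3),(1,2),(1,3),(0,1),(0,1),(0,2),(0,4),(0,1),(0,2)],
    [(1,4),(0,3),(0,3),(1,3),(0,3),(0,3),(1,3),(0,4),(0,4),(0,2),(0,2),(0,3),(1,1),(0,4),(1,3),(0,4),(0,1),(0,1),(0,1),(0,2),(1,1),(0,4)],
    [(1,3),(1,1),(0,2),(2,2),(1,1),(0,1),(0,1),(0,3),(1,1),(0,4),(1,2),(0,4),(0,4),(3,3),(0,4),(0,2),(0,1),(0,4)]]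

/-- A letter. -/
def mat7 : List (List (ℕ × ℕ)) := [
    [(0,4),(1,1),(0,4),(0,4),(0,2),(0,2),(0,4),(0,3),(0,4),(0,4),(0,3),(0,4),(0,2),(1,4),(0,3),(1,4),(0,1),(0,3),(0,3),(0,2),(0,2),(0,3),(2,3)],
    [(0,3),(0,2),(0,4),(0,2),(0,3),(0,3),(0,4),(0,1),(0,3),(0,1),(0,3),(0,1),(0,2),(0,2),(0,1),(2,3),(0,1),(0,1),(0,4),(0,3),(0,1),(1,3),(0,1),(0,2),(0,2)],
    [(0,2),(0,3),(0,1),(0,3),(0,1),(0,4),(1,2),(0,1),(0,2),(0,1),(0,4),(0,1),(1,2),(0,4),(0,1),(0,3),(0,1),(0,1),(0,4),(1,1),(0,1),(0,3),(0,1),(0,4),(0,2)],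
    [(0,1),(0,4),(0,4),(1,4),(1,4),(0,3),(0,2),(1,2),(0,1),(0,4),(0,3),(0,2),(1,4),(0,2),(0,1),(0,3),(0,4),(0,4),(0,4),(0,4),(0,3),(0,4),(0,2),(0,2)],
    [(1,2),(0,2),(2,2),(2,1),(1,4),(0,2),(0,3),(0,3),(0,1),(0,4),(0,3),(1,1),(1,1),(0,3),(0,2),(0,3),(0,4),(0,4),(0,1),(0,4)],
    [(0,2),(0,1),(0,2),(0,3),(0,3),(2,3),(0,3),(0,4),(0,1),(1,4),(0,2),(0,4),(0,1),(0,3),(0,4),(0,1),(0,4),(1,4),(1,4),(0,2),(0,3),(0,3),(0,4)],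
    [(2,3),(1,2),(0,3),(0,3),(0,3),(0,2),(1,4),(0,3),(0,2),(0,3),(0,3),(0,1),(0,2),(0,1),(1,4),(0,3),(0,2),(0,4),(1,3),(0,3),(0,4),(0,2)],
    [(0,2),(0,1),(0,2),(0,4),(0,1),(0,4),(1,1),(0,2),(0,4),(0,4),(1,4),(0,3),(0,2),(0,3),(0,3),(1,1),(0,3),(1,1),(0,1),(0,1),(0,3),(0,4),(1,2)],
    [(0,1),(0,2),(1,2),(1,4),(0,1),(0,2),(0,1),(0,2),(1,4),(0,3),(0,3),(1,3),(2,3),(0,2),(1,1),(0,1),(0,1),(0,1),(1,3),(0,2)],
    [(0,2),(0,2),(0,3),(0,2),(1,2),(0,2),(0,4),(0,1),(0,3),(0,3),(1,4),(0,2),(0,3),(0,1),(0,4),(0,2),(0,1),(0,4),(0,4),(0,3),(0,2),(0,1),(0,2),(0,3),(0,3)],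
    [(0,4),(0,2),(1,4),(0,3),(0,1),(0,1),(0,4),(0,4),(0,4),(0,3),(0,3),(0,2),(0,2),(1,4),(0,2),(0,1),(0,4),(0,4),(0,2),(0,3),(0,2),(0,1),(1,3),(0,3),(0,2)],
    [(0,3),(0,1),(0,4),(0,1),(1,4),(0,2),(0,3),(0,2),(0,1),(0,2),(0,2),(0,2),(0,2),(2,2),(0,1),(0,2),(0,2),(0,2),(0,2),(0,2),(2,2),(0,2),(0,3)],
    [(0,1),(1,1),(0,2),(0,3),(0,3),(0,4),(0,4),(0,4),(0,2),(0,3),(0,4),(0,2),(0,4),(0,3),(1,3),(0,1),(0,4),(0,4),(0,1),(0,4),(0,2),(0,1),(0,3),(0,3),(0,4),(0,2)],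
    [(0,1),(0,4),(0,3),(1,1),(0,3),(0,4),(0,1),(1,3),(0,2),(0,2),(0,1),(0,4),(1,1),(0,2),(0,1),(0,3),(1,3),(0,4),(0,4),(0,1),(0,2),(0,4),(0,2)],
    [(1,1),(0,1),(0,3),(0,4),(0,2),(0,1),(0,2),(1,3),(0,4),(0,4),(1,3),(0,1),(0,4),(0,3),(0,3),(0,4),(0,4),(0,1),(0,4),(0,4),(0,4),(0,4),(0,3),(0,1),(0,1)],
    [(0,4),(0,1),(0,1),(0,4),(0,2),(0,3),(0,2),(0,4),(0,4),(0,4),(1,4),(0,1),(0,4),(0,2),(0,1),(1,1),(0,4),(0,4),(0,3),(0,3),(0,1),(0,3),(0,4),(0,3),(0,4),(0,3)],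
    [(2,2),(0,4),(1,1),(0,4),(0,4),(0,2),(0,1),(0,4),(0,3),(0,1),(0,3),(0,2),(0,2),(0,4),(0,4),(1,4),(0,3),(0,4),(0,2),(1,3),(0,1),(0,2)],
    [(0,3),(0,4),(2,2),(0,1),(0,3),(2,1),(0,3),(0,4),(0,1),(0,2),(0,1),(0,2),(0,2),(0,1),(1,1),(0,4),(0,4),(0,1),(0,2),(0,4),(0,2),(0,4),(0,1)],
    [(0,3),(0,2),(0,4),(0,1),(1,3),(0,3),(0,3),(3,3),(2,4),(0,1),(1,2),(0,4),(0,3),(0,1),(0,1),(0,3),(0,3),(0,2),(0,3)],
    [(0,2),(0,3),(4,4),(1,3),(0,4),(0,1),(1,2),(0,3),(0,1),(0,2),(0,3),(0,3),(0,2),(0,3),(1,1),(0,2),(0,1),(0,4),(0,3),(0,1),(0,1)],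
    [(0,4),(3,1),(0,4),(0,1),(4,4),(0,4),(0,3),(0,1),(0,1),(0,4),(0,2),(1,2),(1,2),(0,3),(1,3),(0,1),(0,2),(0,3)],
    [(0,2),(1,4),(2,1),(1,4),(0,4),(0,2),(0,2),(0,3),(0,3),(0,4),(0,4),(0,1),(0,2),(0,1),(0,4),(0,1),(0,4),(0,2),(1,3),(0,1),(0,4),(0,3),(0,3)],
    [(2,1),(0,3),(0,3),(0,2),(0,4),(0,4),(0,2),(0,1),(0,1),(0,3),(0,1),(0,2),(1,2),(0,3),(1,1),(0,2),(0,3),(0,4),(0,2),(0,3),(0,3),(0,1),(0,1),(0,2)],
    [(1,2),(1,1),(0,2),(2,3),(0,4),(0,4),(0,2),(0,2),(0,4),(0,1),(0,1),(0,4),(0,3),(0,1),(0,1),(0,4),(0,4),(0,4),(0,1),(0,1),(0,3),(0,2),(0,4),(0,4)],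
    [(0,2),(0,4),(1,4),(1,2),(1,4),(1,3),(0,3),(0,3),(0,4),(0,1),(0,4),(2,1),(1,3),(0,1),(0,2),(0,3),(0,4),(0,2),(0,4),(1,2)],
    [(0,3),(1,3),(0,4),(2,1),(0,1),(0,4),(0,3),(2,3),(0,4),(1,3),(1,3),(0,1),(0,4),(0,3),(0,4),(0,2),(1,3),(0,1),(0,4),(0,1)],
    [(0,4),(0,3),(0,1),(1,3),(0,1),(0,4),(1,2),(0,2),(0,2),(1,1),(0,4),(0,3),(0,1),(0,3),(0,3),(0,2),(0,4),(0,3),(0,4),(0,4),(0,4),(2,1)],
    [(0,1),(1,2),(0,2),(0,2),(0,2),(0,2),(1,1),(0,2),(0,2),(1,4),(0,4),(1,3),(0,2),(0,1),(0,1),(0,4),(0,3),(2,2),(1,1),(0,2),(0,1)]]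

/-- A letter. -/
def mat8 : List (List (ℕ × ℕ)) := [
    [(0,2),(0,4),(0,1),(2,4),(0,3),(0,1),(0,1),(2,1),(0,3),(0,4),(0,3),(0,4),(1,2),(0,3),(0,3),(0,1),(0,2),(0,1),(0,4),(0,2),(0,1),(0,1),(0,4)],
    [(0,2),(0,4),(0,4),(1,3),(0,2),(0,4),(0,3),(1,2),(1,3),(1,3),(0,2),(0,2),(0,3),(0,4),(1,1),(0,4),(0,3),(0,4),(0,3),(0,2),(0,4),(0,3),(0,2)],
    [(0,3),(0,4),(0,4),(0,2),(0,2),(2,2),(1,4),(1,3),(0,1),(0,1),(0,2),(0,3),(0,4),(1,4),(0,4),(0,2),(0,4),(0,3),(0,3),(0,2),(1,4),(0,2)],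
    [(1,1),(1,3),(0,2),(0,4),(2,4),(0,1),(1,4),(2,2),(0,4),(0,1),(0,3),(0,4),(0,3),(0,1),(1,1),(0,2),(0,4),(0,1),(0,1)],
    [(1,1),(0,4),(0,4),(0,3),(0,2),(0,3),(0,3),(0,2),(0,4),(1,2),(2,4),(0,3),(1,2),(0,3),(0,4),(0,2),(0,4),(0,1),(0,4),(0,2),(1,4),(0,3)],
    [(0,4),(0,4),(0,1),(0,4),(0,1),(0,2),(0,3),(0,1),(2,3),(0,3),(0,4),(0,2),(0,1),(0,2),(0,2),(0,1),(1,4),(1,1),(0,3),(0,3),(1,4),(0,1),(0,1)],
    [(1,2),(1,1),(0,4),(0,3),(0,3),(0,1),(0,4),(2,2),(0,1),(0,3),(0,3),(0,1),(0,2),(0,3),(0,3),(0,4),(0,4),(0,4),(0,3),(0,3),(0,3),(0,1),(0,4),(0,2)],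
    [(0,2),(2,4),(0,4),(1,3),(0,4),(1,3),(0,4),(1,2),(1,1),(0,4),(0,3),(0,3),(1,1),(0,4),(0,1),(0,3),(1,3),(0,1),(0,3),(0,2)],
    [(3,2),(1,4),(0,4),(0,2),(2,1),(1,2),(0,3),(0,2),(1,3),(0,2),(0,3),(0,3),(0,4),(0,4),(1,3),(0,1),(1,1)],
    [(0,3),(0,4),(0,1),(1,2),(0,2),(1,4),(1,1),(0,3),(0,1),(0,3),(0,4),(0,2),(0,1),(0,4),(0,3),(0,1),(0,3),(0,4),(2,2),(0,3),(0,2),(0,1),(0,1)],
    [(1,4),(0,2),(0,4),(1,2),(0,2),(0,3),(0,4),(0,1),(0,2),(0,3),(1,2),(0,3),(0,4),(0,4),(0,2),(0,3),(0,2),(0,4),(2,2),(0,2),(0,3),(0,3),(0,4)],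
    [(2,4),(0,4),(1,1),(0,1),(0,2),(0,3),(0,1),(0,2),(0,3),(0,4),(1,4),(1,2),(1,4),(0,3),(0,2),(0,3),(0,3),(0,3),(1,2),(0,1),(0,3)],
    [(1,3),(0,2),(1,4),(0,3),(0,3),(0,2),(1,3),(0,3),(0,1),(0,3),(1,3),(1,2),(0,2),(1,1),(0,4),(0,4),(0,3),(0,2),(0,2),(0,3)],
    [(0,1),(0,1),(0,4),(0,4),(1,4),(0,4),(1,3),(0,3),(0,2),(1,2),(0,3),(0,1),(0,1),(0,3),(0,4),(1,3),(0,3),(0,3),(0,1),(0,3),(0,1),(0,3),(0,4)],
    [(0,4),(0,4),(1,2),(2,1),(0,4),(0,3),(0,1),(0,1),(2,4),(1,1),(0,4),(0,1),(0,3),(0,2),(0,4),(0,3),(0,2),(0,3),(0,3),(0,1),(1,3)],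
    [(0,4),(1,2),(0,4),(1,2),(0,4),(0,3),(0,4),(0,4),(0,3),(0,4),(0,2),(0,2),(0,4),(1,3),(1,1),(2,4),(1,3),(1,3),(0,4)],
    [(4,1),(0,4),(0,4),(1,3),(0,2),(0,3),(0,3),(0,2),(1,1),(0,2),(0,1),(1,1),(0,4),(1,4),(0,1),(0,1),(0,4),(0,2),(1,1)],
    [(0,3),(0,3),(1,4),(2,2),(0,1),(0,2),(0,3),(0,3),(2,4),(0,2),(0,4),(0,1),(1,4),(0,3),(0,1),(1,4),(0,3),(0,4),(1,1),(0,3)],
    [(0,1),(1,2),(0,3),(1,1),(0,2),(1,3),(0,3),(0,1),(0,4),(2,4),(0,4),(0,1),(0,2),(0,3),(0,4),(0,3),(0,4),(0,3),(0,4),(0,4),(0,2)],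
    [(1,4),(0,4),(0,2),(0,1),(0,3),(2,2),(0,4),(0,1),(1,4),(0,4),(0,2),(0,3),(0,2),(0,3),(0,2),(0,2),(0,4),(0,2),(1,3),(0,4),(0,4),(1,4)],
    [(1,1),(0,3),(0,1),(0,4),(0,4),(0,3),(1,4),(0,4),(0,4),(0,4),(0,4),(0,4),(0,3),(0,3),(0,1),(0,1),(0,3),(0,2),(1,4),(0,2),(0,3),(0,1),(0,3),(0,4),(0,2)],
    [(0,2),(1,3),(0,2),(0,2),(0,4),(2,2),(0,2),(0,1),(0,4),(0,3),(0,3),(0,4),(1,3),(1,4),(0,3),(1,2),(0,2),(0,1),(0,2),(0,3),(0,1)],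
    [(1,3),(1,1),(0,4),(0,2),(0,2),(0,2),(0,3),(0,3),(0,3),(0,2),(0,3),(0,1),(0,3),(0,4),(0,3),(0,2),(0,2),(0,3),(2,2),(0,2),(0,3),(1,3)],
    [(0,1),(0,3),(0,1),(0,4),(0,1),(0,1),(0,1),(0,4),(1,1),(0,1),(0,3),(0,4),(0,2),(0,1),(1,1),(0,1),(0,1),(0,3),(0,1),(2,4),(0,2),(1,3),(0,2)],
    [(2,3),(0,1),(0,2),(0,2),(0,2),(2,4),(1,4),(0,3),(0,2),(0,1),(1,3),(0,2),(0,3),(0,4),(0,2),(0,2),(0,2),(1,2)],
    [(2,2),(0,4),(0,3),(0,3),(1,3),(0,1),(0,2),(0,4),(0,3),(1,4),(0,3),(1,4),(0,1),(0,3),(0,1),(0,2),(0,4),(0,4),(0,1),(0,2),(0,2),(0,3),(0,4)],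
    [(2,1),(0,2),(0,4),(0,4),(0,1),(0,3),(1,3),(0,4),(1,4),(1,1),(0,2),(0,3),(0,3),(0,1),(0,1),(0,1),(0,4),(1,4),(0,2),(0,1),(0,2),(0,2)],
    [(0,1),(0,1),(1,3),(2,4),(0,2),(1,2),(1,2),(1,1),(0,4),(0,3),(0,3),(0,3),(0,2),(0,3),(0,2),(0,3),(0,3),(0,3),(0,4),(1,1),(0,4)]]

/-- A letter. -/
def mat9 : List (List (ℕ × ℕ)) := [
    [(0,3),(0,4),(0,1),(1,4),(0,2),(0,2),(1,4),(0,4),(0,1),(2,3),(0,3),(0,1),(1,3),(0,4),(1,1),(0,4),(0,3),(0,2),(0,1),(1,3),(0,2)],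
    [(1,1),(0,3),(0,1),(0,4),(0,1),(0,4),(2,1),(0,1),(0,3),(0,3),(0,4),(0,2),(0,3),(0,3),(0,4),(0,2),(0,1),(0,2),(0,4),(0,2),(0,2),(0,2),(0,3),(0,2),(0,4)],
    [(1,3),(0,1),(0,1),(0,1),(1,1),(0,4),(1,1),(2,4),(0,4),(0,3),(0,1),(0,1),(1,1),(0,1),(0,1),(0,4),(0,1),(0,2),(0,2),(0,1),(0,2),(0,4)],
    [(0,1),(1,4),(0,3),(0,2),(2,2),(0,2),(0,4),(0,4),(0,3),(0,1),(0,3),(0,3),(0,3),(0,2),(3,3),(1,3),(0,3),(0,2),(0,3),(0,1),(0,1)],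
    [(0,1),(0,1),(0,4),(0,2),(0,1),(2,3),(0,1),(0,4),(0,2),(0,4),(0,2),(0,3),(0,1),(0,1),(0,1),(0,4),(0,3),(0,1),(0,3),(1,1),(0,4),(1,3),(1,3)],
    [(0,1),(0,1),(0,2),(0,3),(0,1),(1,4),(0,3),(0,4),(0,4),(0,4),(0,2),(0,1),(0,3),(1,3),(0,2),(1,1),(0,1),(0,2),(0,4),(0,3),(0,3),(0,1),(0,2),(0,4)],
    [(0,4),(0,1),(0,2),(0,3),(1,3),(0,2),(0,1),(0,3),(1,4),(1,2),(0,1),(0,3),(5,4),(2,2),(0,2),(0,1),(0,2)],
    [(0,1),(0,4),(0,1),(0,3),(0,4),(0,4),(0,3),(0,3),(1,1),(1,2),(0,3),(0,2),(1,2),(0,2),(0,4),(0,3),(0,2),(0,2),(0,3),(1,2),(0,2),(0,4),(0,2),(0,4)],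
    [(0,1),(0,3),(0,1),(0,2),(0,1),(0,3),(1,3),(1,3),(0,2),(0,1),(0,2),(0,3),(1,3),(0,1),(1,3),(2,3),(0,1),(3,1),(0,3)],
    [(0,3),(0,1),(0,1),(1,1),(0,1),(0,3),(0,1),(1,3),(1,2),(0,4),(0,2),(0,1),(1,1),(1,3),(0,1),(0,3),(1,2),(0,3),(0,4),(0,2),(0,2),(0,4)],
    [(0,3),(0,2),(0,1),(0,1),(0,3),(0,2),(0,2),(0,2),(0,3),(0,2),(0,4),(0,4),(0,2),(0,1),(0,1),(0,4),(1,1),(1,4),(0,3),(0,3),(0,1),(0,1),(0,4),(0,2),(0,3),(0,2)],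
    [(0,2),(1,2),(0,1),(1,4),(0,3),(0,1),(0,2),(0,1),(0,2),(2,3),(0,2),(0,2),(0,1),(0,4),(0,1),(0,1),(0,1),(1,1),(0,4),(0,2),(0,3),(1,2)],
    [(0,3),(2,1),(0,4),(0,2),(0,4),(1,2),(0,3),(0,2),(0,3),(0,4),(0,1),(1,2),(0,4),(0,1),(1,4),(0,4),(0,1),(0,2),(0,1),(0,4),(0,2),(0,4),(0,2)],
    [(0,1),(2,2),(1,4),(0,4),(0,1),(2,4),(0,3),(0,4),(0,1),(0,1),(0,3),(0,2),(0,3),(0,2),(1,4),(0,2),(0,1),(0,2),(0,2)],
    [(0,2),(0,3),(0,3),(1,1),(0,1),(0,2),(0,1),(1,4),(0,1),(0,4),(1,4),(0,1),(0,2),(0,3),(0,3),(0,3),(0,3),(0,1),(0,4),(0,2),(0,3),(1,2),(1,4)],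
    [(0,1),(1,2),(0,4),(1,4),(0,1),(0,2),(1,4),(0,1),(1,1),(0,1),(0,4),(0,4),(0,4),(0,3),(0,3),(3,2),(1,3),(1,3)],
    [(0,3),(2,4),(1,3),(0,1),(1,4),(0,4),(0,3),(0,2),(0,3),(2,2),(2,2),(0,2),(1,3),(0,4),(0,2),(0,2),(0,3),(0,4),(0,2)],
    [(0,2),(1,1),(1,1),(0,2),(0,2),(0,4),(0,4),(0,4),(0,2),(0,1),(1,3),(0,3),(0,2),(0,4),(0,4),(0,2),(0,1),(0,1),(0,4),(0,1),(0,3),(0,2),(0,3),(0,3)],
    [(1,4),(0,1),(0,3),(0,3),(0,2),(0,4),(1,1),(0,4),(0,1),(0,2),(0,1),(1,2),(0,1),(0,4),(0,2),(2,1),(0,3),(0,4),(1,4),(0,3),(0,1),(0,2)],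
    [(1,4),(0,3),(0,3),(0,1),(1,4),(0,2),(1,3),(0,2),(0,4),(0,4),(0,4),(0,2),(0,2),(0,2),(0,4),(0,1),(0,1),(0,1),(0,1),(0,4),(0,1),(0,4),(0,2),(0,3),(0,4)],
    [(0,2),(0,4),(0,3),(1,1),(0,2),(0,1),(0,4),(0,1),(0,4),(0,2),(0,2),(0,4),(1,2),(0,1),(0,1),(0,1),(0,2),(0,1),(0,2),(0,1),(0,2),(0,4),(1,4),(0,1)],
    [(0,3),(2,1),(0,3),(0,3),(0,1),(0,2),(0,1),(0,4),(0,1),(0,1),(0,2),(0,4),(0,4),(0,4),(0,4),(0,1),(0,1),(0,2),(1,3),(1,1),(0,3),(1,4),(0,4)],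
    [(1,1),(0,2),(0,1),(0,3),(0,3),(0,3),(0,4),(1,2),(1,2),(0,1),(1,4),(0,3),(0,2),(0,4),(0,4),(0,3),(0,3),(0,2),(0,1),(0,2),(0,2),(0,1),(0,1),(0,3)],
    [(1,4),(0,2),(0,4),(1,2),(0,2),(0,3),(1,4),(0,4),(0,1),(2,4),(0,4),(0,2),(0,1),(0,3),(0,2),(0,1),(0,4),(0,4),(0,2),(0,1),(0,4),(0,2),(0,2)],
    [(0,3),(0,3),(0,2),(0,3),(0,3),(0,4),(0,2),(0,3),(0,1),(0,2),(0,3),(0,4),(2,3),(0,4),(0,3),(0,3),(1,3),(0,1),(0,2),(1,3),(1,4),(0,1),(0,2)],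
    [(0,4),(1,3),(0,3),(0,4),(0,1),(0,3),(0,2),(0,3),(0,4),(0,1),(0,3),(0,3),(0,1),(0,3),(0,3),(1,3),(1,1),(0,2),(0,3),(1,3),(0,3),(0,2),(0,2),(0,1)],
    [(0,4),(2,3),(1,3),(1,4),(2,2),(0,3),(0,1),(0,1),(0,3),(0,4),(2,2),(0,4),(1,3),(1,2),(0,1),(0,3),(0,2),(0,3)],
    [(1,4),(0,4),(0,2),(0,4),(1,2),(0,4),(0,3),(1,2),(0,3),(1,4),(2,1),(0,1),(0,1),(0,4),(0,1),(0,3),(0,1),(0,2),(0,1),(0,1),(1,2)]]

/-- A letter. -/
def mat10 : List (List (ℕ × ℕ)) := [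
    [(0,4),(1,4),(0,1),(0,1),(0,4),(0,4),(1,2),(0,1),(0,1),(0,1),(1,4),(1,3),(1,3),(0,3),(0,1),(0,1),(0,1),(0,3),(0,2),(0,3),(1,1),(0,3)],
    [(1,2),(0,2),(0,4),(1,4),(0,2),(0,4),(0,2),(0,1),(0,4),(0,1),(1,2),(1,3),(0,1),(0,3),(1,2),(0,4),(0,1),(0,2),(1,4),(0,3),(0,3),(0,1)],
    [(1,2),(0,2),(0,3),(0,4),(1,4),(0,1),(0,3),(0,2),(1,2),(0,2),(0,3),(0,1),(0,4),(0,2),(0,2),(0,2),(0,4),(0,4),(0,3),(0,4),(0,2),(0,3),(0,2),(1,3)],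
    [(0,1),(0,4),(0,2),(0,3),(0,2),(0,2),(0,2),(0,3),(2,1),(0,1),(0,3),(0,4),(0,2),(0,1),(0,2),(1,4),(0,3),(0,2),(1,3),(1,3),(0,4)],
    [(1,4),(0,2),(0,1),(1,2),(0,3),(1,3),(1,3),(0,3),(2,1),(0,1),(0,2),(0,2),(0,1),(0,3),(1,3),(1,4),(0,2),(0,4),(0,1),(0,4)],
    [(0,4),(0,1),(0,1),(0,1),(0,4),(0,3),(0,2),(0,3),(0,4),(0,1),(0,1),(0,1),(0,3),(0,2),(0,1),(0,2),(1,1),(0,3),(0,1),(0,2),(1,1),(1,4),(0,3),(0,1),(0,4)],
    [(0,4),(0,2),(1,1),(1,3),(0,3),(0,1),(0,2),(0,2),(0,4),(1,4),(0,2),(0,1),(0,3),(0,2),(1,1),(0,2),(1,2),(1,2),(0,3),(0,1),(0,1)],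
    [(0,4),(1,4),(2,3),(0,3),(0,1),(1,3),(1,2),(1,2),(0,1),(0,1),(1,2),(0,1),(1,2),(0,3),(0,1),(0,3),(0,4),(1,4),(0,2)],
    [(0,3),(0,4),(0,4),(0,3),(0,3),(0,3),(0,2),(0,3),(1,1),(0,1),(0,1),(0,3),(0,2),(1,1),(1,3),(0,2),(0,3),(0,2),(0,1),(0,3),(0,2),(0,2),(0,4),(0,4),(0,2)],
    [(0,1),(1,1),(1,4),(0,4),(0,3),(1,4),(0,3),(1,1),(0,4),(0,3),(1,3),(0,2),(0,3),(0,4),(0,2),(1,4),(0,4),(0,2),(0,3),(0,1),(0,1),(0,2)],
    [(0,1),(1,4),(0,3),(0,1),(0,1),(0,4),(1,4),(0,2),(0,3),(0,4),(0,4),(0,1),(0,4),(0,2),(0,3),(0,4),(0,1),(0,4),(1,2),(0,4),(0,4),(0,4),(0,4),(0,3),(0,3)],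
    [(0,4),(1,2),(0,1),(0,3),(1,1),(0,4),(0,4),(0,4),(1,1),(0,2),(0,1),(0,1),(0,3),(0,2),(0,1),(2,1),(0,2),(0,2),(2,4),(0,2),(0,4)],
    [(3,2),(0,1),(0,1),(1,4),(0,1),(0,4),(3,4),(0,3),(0,1),(3,1),(0,4),(0,2),(0,1),(0,3),(0,4),(0,3),(1,1)],
    [(0,1),(0,4),(0,4),(0,3),(0,4),(0,2),(0,1),(0,3),(0,2),(1,1),(0,1),(0,1),(0,3),(0,1),(0,1),(0,1),(0,2),(0,1),(0,2),(0,1),(1,1),(1,2),(0,4),(0,4),(0,2)],
    [(0,1),(0,1),(3,2),(0,2),(0,1),(0,2),(0,2),(0,3),(3,2),(0,1),(0,2),(1,1),(0,2),(1,1),(0,4),(0,1),(0,3),(0,4),(0,3),(0,4)],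
    [(0,3),(0,1),(0,1),(0,4),(0,3),(0,3),(0,2),(0,2),(0,2),(1,1),(1,4),(0,2),(0,2),(0,1),(0,4),(1,3),(0,3),(1,4),(0,4),(0,4),(0,3),(0,3),(0,1)],
    [(1,1),(0,2),(0,3),(0,1),(0,4),(0,4),(0,2),(1,2),(0,3),(1,1),(0,4),(0,2),(0,4),(0,2),(0,2),(0,2),(1,2),(1,2),(0,3),(0,3),(1,4),(0,2)],
    [(0,1),(0,1),(0,1),(2,3),(0,1),(0,3),(1,1),(0,1),(0,1),(0,2),(0,1),(0,4),(0,4),(0,2),(0,2),(0,2),(0,2),(0,1),(1,3),(0,1),(3,1)],
    [(0,1),(1,4),(0,2),(0,3),(0,1),(0,4),(0,1),(2,2),(0,3),(0,2),(1,1),(0,3),(0,2),(0,2),(0,3),(0,4),(0,3),(1,2),(1,2),(0,4),(1,1)],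
    [(2,3),(0,3),(0,4),(0,3),(0,3),(0,3),(1,3),(0,1),(2,2),(1,4),(0,3),(0,2),(0,3),(0,4),(0,4),(0,3),(0,4),(0,3),(0,4),(0,3),(0,4),(0,3)],
    [(0,4),(0,2),(0,3),(1,4),(1,2),(0,4),(0,1),(0,3),(0,3),(0,3),(0,1),(0,2),(0,1),(1,2),(0,2),(0,2),(0,1),(0,2),(0,1),(0,3),(0,1),(0,3),(0,3),(0,3),(0,4)],
    [(0,1),(0,1),(0,1),(0,2),(0,1),(1,2),(0,1),(0,1),(1,4),(0,2),(0,2),(1,2),(0,4),(0,4),(1,4),(0,3),(1,1),(0,2),(1,2),(0,3),(1,3)],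
    [(0,4),(0,2),(2,2),(0,1),(0,3),(2,1),(0,1),(0,3),(1,1),(1,1),(0,1),(0,2),(0,3),(0,1),(0,3),(0,2),(0,3),(0,1),(1,3),(0,3),(0,3)],
    [(0,3),(0,3),(1,4),(0,3),(2,2),(1,3),(0,1),(0,2),(1,4),(0,1),(0,4),(0,3),(0,2),(1,3),(0,2),(0,2),(0,4),(0,4),(1,4),(0,3),(0,1)],
    [(0,4),(0,1),(0,2),(0,3),(0,1),(2,1),(0,2),(1,3),(0,3),(0,4),(0,2),(0,2),(1,3),(0,3),(1,2),(0,4),(0,3),(0,2),(0,3),(0,1),(0,4),(0,4),(0,2)],
    [(0,3),(0,2),(0,4),(0,4),(0,3),(0,3),(0,2),(1,4),(0,2),(0,1),(1,2),(0,3),(0,4),(0,1),(0,2),(0,2),(1,2),(0,4),(0,1),(0,4),(0,2),(1,4),(1,3)],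
    [(1,4),(0,2),(0,4),(1,2),(0,4),(2,4),(0,3),(1,2),(0,1),(0,3),(0,2),(0,1),(1,2),(1,3),(1,4),(0,2),(0,3),(0,4),(0,4),(0,4)],
    [(2,4),(0,3),(1,4),(0,3),(1,3),(0,3),(0,3),(0,1),(0,4),(0,4),(1,4),(0,4),(0,4),(0,2),(1,2),(1,3),(0,2),(0,3),(1,4)]]

/-- A letter. -/
def mat11 : List (List (ℕ × ℕ)) := [
    [(0,2),(0,1),(1,2),(0,2),(0,2),(0,4),(1,1),(0,2),(0,1),(0,3),(0,1),(0,2),(0,2),(0,1),(0,3),(0,2),(1,1),(0,4),(0,1),(0,1),(2,3),(0,3),(0,2)],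
    [(0,3),(1,3),(0,1),(0,2),(0,3),(0,3),(1,1),(0,1),(0,3),(0,1),(0,4),(0,1),(0,1),(1,3),(0,2),(0,2),(0,4),(0,3),(0,1),(0,2),(0,2),(0,1),(0,1),(0,2),(0,1)],
    [(0,1),(0,2),(0,2),(0,1),(0,3),(2,3),(0,1),(0,1),(1,4),(0,3),(0,3),(0,2),(0,4),(0,3),(1,2),(0,4),(1,2),(1,2),(0,1),(1,3)],
    [(0,1),(1,1),(0,1),(0,3),(1,1),(1,2),(2,3),(0,2),(0,2),(0,1),(0,1),(0,3),(0,2),(0,4),(1,2),(0,4),(0,2),(0,2),(1,1),(0,3),(0,1)],
    [(0,2),(0,1),(0,3),(1,3),(1,4),(0,2),(0,1),(0,3),(1,1),(0,2),(0,4),(0,1),(1,4),(0,2),(0,4),(2,2),(0,2),(0,1),(0,4),(0,2),(0,2)],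
    [(0,1),(0,1),(1,2),(0,1),(0,2),(0,4),(0,2),(0,3),(0,2),(0,4),(0,1),(0,4),(1,4),(0,4),(0,4),(1,3),(0,2),(0,4),(0,3),(0,1),(0,2),(1,1),(1,1)],
    [(0,1),(0,3),(0,1),(0,2),(1,4),(0,4),(0,2),(1,1),(0,2),(0,2),(0,1),(0,2),(0,4),(0,3),(1,3),(0,4),(0,4),(0,4),(1,3),(0,3),(0,3),(0,4),(0,3)],
    [(0,1),(0,3),(0,3),(1,4),(0,3),(0,4),(0,3),(0,2),(0,3),(0,1),(0,2),(0,2),(0,4),(0,1),(0,3),(0,4),(0,4),(0,3),(1,1),(0,2),(0,1),(0,2),(0,4),(0,4),(1,4)],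
    [(0,2),(0,3),(0,2),(0,4),(0,2),(2,2),(0,2),(0,2),(0,2),(1,2),(0,2),(0,1),(0,2),(0,1),(0,3),(1,1),(0,4),(1,3),(0,3),(0,1),(0,3),(0,2),(0,4)],
    [(1,1),(1,1),(0,3),(0,4),(0,4),(2,3),(1,4),(0,2),(0,4),(0,2),(0,1),(1,3),(0,4),(0,1),(0,2),(0,3),(1,3),(0,4),(0,3),(1,2)],
    [(0,1),(0,2),(0,2),(2,1),(0,4),(1,1),(0,1),(0,1),(0,1),(0,1),(0,4),(0,4),(1,3),(0,3),(1,3),(0,1),(0,2),(0,1),(0,3),(0,1),(0,2),(0,3),(0,3)],
    [(4,4),(0,2),(0,2),(0,1),(2,2),(2,4),(0,3),(0,1),(0,3),(0,1),(1,4),(0,2),(0,2),(0,2),(0,1),(0,4),(0,2),(0,4),(0,4)],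
    [(0,1),(0,3),(1,1),(0,3),(0,1),(0,4),(0,1),(0,4),(0,3),(0,2),(0,3),(0,4),(0,1),(0,3),(0,4),(0,4),(0,1),(0,1),(0,1),(0,1),(1,2),(0,1),(0,1),(0,4),(0,1),(0,2)],
    [(0,4),(0,1),(0,2),(0,4),(0,3),(0,3),(0,4),(1,2),(0,4),(0,2),(0,4),(0,2),(0,4),(0,2),(0,1),(0,4),(0,1),(0,3),(0,2),(0,4),(0,3),(0,1),(0,3),(0,1),(0,3),(0,1),(0,1)],
    [(3,3),(1,3),(1,4),(1,2),(0,2),(0,3),(0,1),(0,1),(0,4),(0,1),(2,4),(0,1),(1,4),(0,1),(0,4),(0,3),(0,1),(0,2),(0,2)],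
    [(0,2),(0,4),(0,2),(1,3),(0,1),(0,1),(2,4),(0,1),(1,4),(0,3),(0,1),(0,1),(0,2),(1,2),(0,2),(0,3),(0,3),(2,4),(0,4),(0,4),(0,3)],
    [(0,3),(1,2),(0,1),(0,2),(2,4),(0,1),(0,2),(1,1),(0,1),(1,4),(0,2),(0,3),(0,4),(0,4),(1,3),(0,2),(0,2),(0,4),(0,1),(2,2)],
    [(1,1),(0,2),(0,3),(2,4),(1,1),(0,2),(0,2),(0,4),(0,4),(0,4),(0,4),(0,4),(0,3),(0,2),(0,4),(0,1),(0,3),(0,2),(0,4),(0,4),(0,3),(0,4),(0,3)],
    [(0,2),(0,4),(1,4),(0,3),(0,2),(0,2),(0,3),(1,4),(0,3),(0,3),(0,1),(0,1),(1,3),(1,3),(0,3),(0,1),(0,3),(0,2),(0,3),(0,4),(0,3),(0,4),(0,4),(0,2)],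
    [(0,3),(0,2),(2,1),(0,3),(0,2),(0,4),(1,2),(1,4),(0,3),(0,2),(1,2),(0,4),(0,2),(0,3),(0,2),(0,4),(0,2),(0,2),(0,3),(1,1),(0,2),(0,2)],
    [(0,4),(0,1),(0,1),(0,1),(1,2),(0,2),(0,4),(0,3),(0,3),(0,1),(0,4),(2,4),(1,3),(0,4),(0,4),(0,4),(0,1),(0,1),(1,1),(3,4)],
    [(1,4),(0,4),(0,3),(0,3),(0,1),(0,1),(0,1),(2,1),(0,1),(0,2),(0,4),(2,4),(0,3),(0,3),(0,4),(1,1),(0,1),(0,3),(0,4),(0,1),(0,1)],
    [(0,2),(0,3),(0,2),(1,3),(0,2),(0,1),(0,4),(0,4),(0,1),(0,3),(0,3),(0,2),(1,4),(0,3),(1,1),(2,2),(0,3),(0,4),(0,2),(0,2),(2,1)],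
    [(0,4),(0,2),(0,3),(0,4),(0,4),(0,1),(0,2),(0,2),(2,1),(0,2),(0,4),(0,1),(0,3),(0,4),(0,4),(0,3),(1,2),(0,2),(1,2),(0,4),(0,2),(0,4),(0,4),(0,3)],
    [(0,2),(0,3),(1,1),(0,3),(0,4),(0,4),(0,2),(2,4),(0,2),(1,2),(0,3),(0,4),(0,1),(0,4),(0,3),(0,4),(0,4),(2,1),(0,1),(0,2),(0,4)],
    [(0,1),(0,2),(0,3),(0,1),(0,4),(0,2),(1,2),(0,3),(0,3),(0,1),(0,4),(1,4),(1,3),(0,3),(0,3),(2,2),(0,4),(0,4),(0,4),(0,2),(0,2),(0,3),(0,2)],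
    [(2,2),(0,2),(2,1),(1,2),(0,1),(0,2),(0,2),(0,4),(0,2),(0,4),(0,2),(0,2),(0,2),(0,2),(2,4),(0,2),(0,3),(0,2),(0,3),(0,3),(0,4)],
    [(4,4),(0,2),(0,3),(0,1),(0,4),(0,3),(0,4),(0,3),(0,4),(0,4),(0,3),(0,3),(0,1),(0,4),(0,1),(0,4),(0,4),(0,2),(0,2),(0,4),(0,1),(0,3),(1,2)]]

/-- A letter. -/
def mat12 : List (List (ℕ × ℕ)) := [
    [(0,4),(0,3),(0,3),(0,4),(0,4),(1,2),(1,4),(0,2),(0,3),(0,3),(2,2),(0,4),(0,4),(0,2),(0,3),(0,1),(0,3),(0,1),(0,4),(0,1),(0,2),(0,3),(0,4),(0,3)],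
    [(0,1),(2,1),(0,3),(0,1),(0,3),(0,3),(0,4),(0,2),(1,3),(0,1),(0,3),(0,3),(0,2),(0,1),(0,3),(2,1),(0,1),(1,4),(0,4),(0,2),(0,1)],
    [(1,2),(1,3),(1,4),(0,1),(0,2),(0,1),(0,3),(0,3),(0,1),(0,4),(0,1),(0,3),(0,3),(0,1),(0,2),(0,2),(0,1),(0,3),(0,2),(0,3),(0,3),(2,1)],
    [(0,2),(0,3),(0,2),(0,1),(0,4),(0,1),(0,4),(0,3),(2,3),(0,3),(1,2),(1,3),(0,1),(0,3),(0,1),(0,2),(0,3),(0,2),(0,1),(0,4),(0,4),(0,1),(0,3),(0,1)],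
    [(4,1),(0,4),(0,4),(0,1),(0,1),(2,1),(0,2),(1,2),(0,4),(0,4),(0,2),(1,2),(0,2),(0,3),(0,4),(0,4),(0,2),(0,1),(0,3)],
    [(0,2),(0,3),(0,1),(0,2),(1,3),(0,2),(0,1),(0,4),(2,1),(0,2),(0,3),(0,3),(0,1),(0,4),(1,3),(0,3),(1,1),(0,2),(0,3),(0,3),(0,2),(1,4)],
    [(5,4),(0,3),(0,3),(2,3),(0,2),(0,3),(0,4),(0,2),(0,4),(1,2),(0,4),(0,1),(1,1),(0,4),(0,1),(0,4),(0,4),(0,2),(0,2)],
    [(0,3),(1,4),(1,2),(0,3),(1,2),(0,1),(0,3),(0,3),(0,2),(1,2),(0,4),(1,1),(0,1),(1,1),(0,4),(0,1),(0,2),(1,3),(0,1),(0,4)],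
    [(0,1),(0,2),(0,3),(0,2),(0,1),(1,1),(0,2),(2,2),(1,1),(0,3),(0,2),(0,2),(0,4),(0,3),(1,2),(1,4),(2,2),(0,3),(0,4)],
    [(0,1),(0,2),(0,2),(0,1),(0,2),(0,1),(0,2),(0,2),(0,3),(0,4),(0,3),(0,4),(0,2),(0,1),(0,3),(0,1),(0,4),(0,1),(0,4),(0,1),(0,2),(0,4),(0,2),(0,2),(0,4),(0,3),(0,4),(0,1)],
    [(0,3),(1,1),(1,2),(0,4),(0,1),(0,2),(0,1),(1,3),(0,4),(0,1),(1,4),(0,3),(0,3),(1,4),(0,3),(0,3),(1,4),(1,2),(1,1),(0,2)],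
    [(0,3),(0,4),(0,2),(0,2),(0,2),(0,1),(0,2),(0,3),(0,3),(1,4),(1,3),(0,3),(1,2),(0,4),(0,3),(0,3),(0,3),(0,2),(0,1),(0,4),(1,4),(0,4),(0,1),(0,4)],
    [(0,4),(0,3),(0,2),(2,1),(0,3),(1,1),(2,4),(0,1),(0,4),(1,3),(0,1),(0,1),(1,3),(0,2),(0,2),(0,2),(0,3),(0,1),(0,4),(0,1)],
    [(0,2),(0,4),(0,4),(0,4),(0,4),(0,2),(0,3),(0,4),(0,2),(1,3),(0,2),(0,2),(0,4),(0,2),(1,2),(0,3),(0,1),(0,4),(0,4),(0,3),(0,1),(0,3),(0,3),(0,3),(0,3),(0,3)],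
    [(0,1),(0,4),(1,2),(0,4),(0,4),(0,4),(0,4),(1,4),(0,4),(0,4),(0,4),(0,3),(0,3),(0,4),(0,4),(0,4),(0,2),(0,1),(1,1),(0,4),(0,2),(0,1),(0,3),(0,2)],
    [(1,4),(0,4),(0,1),(0,4),(1,1),(0,1),(0,1),(0,1),(0,2),(1,1),(1,3),(2,2),(1,4),(0,1),(0,1),(0,1),(0,4),(0,4),(0,1),(1,1)],
    [(3,2),(1,1),(0,2),(1,1),(0,2),(0,2),(0,3),(0,3),(0,1),(0,3),(0,1),(1,2),(0,3),(1,3),(0,3),(1,4),(0,4),(1,4),(0,4)],
    [(0,4),(4,3),(0,2),(1,2),(2,3),(1,3),(0,4),(0,4),(0,2),(1,3),(0,2),(1,2),(1,3),(0,3),(0,4),(1,2)],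
    [(0,3),(2,1),(0,2),(0,3),(0,1),(0,3),(2,4),(0,2),(0,1),(0,1),(0,4),(0,2),(1,1),(0,1),(0,4),(0,2),(0,1),(0,4),(1,1),(1,4)],
    [(0,1),(1,1),(0,3),(2,2),(0,2),(0,4),(1,3),(0,4),(1,1),(0,3),(0,1),(0,3),(0,4),(0,1),(0,4),(0,3),(0,1),(0,4),(0,2),(0,1),(1,3),(0,1)],
    [(0,1),(0,1),(2,2),(1,4),(0,2),(1,2),(1,2),(0,1),(2,1),(1,1),(0,4),(0,3),(1,2),(0,2),(0,3),(0,3),(0,4),(0,2),(0,2)],
    [(0,2),(0,4),(0,1),(0,1),(0,3),(0,1),(0,4),(0,1),(0,1),(0,2),(0,1),(0,3),(0,4),(0,2),(0,3),(0,3),(0,3),(0,4),(0,3),(0,3),(0,3),(0,4),(0,1),(0,3),(0,4),(0,2),(0,4),(0,4)],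
    [(0,1),(2,1),(2,1),(2,3),(0,1),(0,1),(0,3),(0,1),(0,2),(0,3),(0,3),(0,2),(0,3),(0,2),(0,3),(1,2),(0,4),(0,3),(0,4),(0,3),(0,3)],
    [(2,4),(0,3),(0,2),(1,2),(0,1),(1,3),(0,4),(0,2),(0,1),(0,4),(0,4),(0,2),(0,3),(0,2),(0,2),(0,3),(0,3),(0,2),(0,1),(0,1),(0,1),(0,3),(1,2)],
    [(0,3),(0,4),(2,4),(0,1),(2,3),(0,3),(3,2),(0,2),(2,2),(0,3),(0,1),(2,2),(0,4),(0,2),(0,1),(0,1),(0,4)],
    [(0,4),(0,3),(0,2),(2,3),(1,3),(2,4),(0,1),(0,4),(1,4),(0,3),(0,3),(0,4),(0,4),(0,4),(0,2),(0,4),(0,1),(2,2),(1,2)],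
    [(2,3),(0,3),(1,1),(0,4),(0,2),(0,2),(1,4),(1,2),(1,4),(0,1),(0,1),(0,2),(0,3),(0,3),(0,2),(1,1),(0,4),(0,3),(0,2),(0,2)],
    [(1,1),(1,2),(0,2),(0,3),(0,1),(0,3),(1,3),(1,2),(2,1),(0,1),(0,1),(0,2),(0,3),(0,3),(0,3),(0,4),(0,1),(0,4),(0,3),(0,1),(0,4),(0,4)]]

/-- A letter. -/
def mat13 : List (List (ℕ × ℕ)) := [
    [(0,2),(0,1),(0,3),(0,2),(1,3),(0,4),(0,4),(0,3),(0,3),(0,1),(2,2),(0,1),(0,1),(0,3),(0,4),(0,1),(0,2),(0,1),(0,4),(0,1),(1,2),(0,1),(0,2),(0,1)],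
    [(0,1),(0,2),(0,3),(1,2),(0,3),(0,2),(0,4),(1,1),(0,4),(0,3),(3,4),(1,2),(0,2),(0,3),(0,1),(0,3),(0,1),(0,1),(0,4),(0,1),(0,1),(0,3)],
    [(0,2),(1,4),(0,2),(0,3),(1,4),(0,1),(0,2),(0,4),(0,2),(0,4),(0,3),(0,1),(0,4),(0,1),(0,2),(0,3),(2,3),(0,3),(1,4),(0,4),(0,1),(1,2)],
    [(0,4),(0,4),(0,4),(0,4),(0,3),(0,2),(0,1),(1,2),(0,2),(0,1),(0,3),(1,1),(0,1),(0,3),(0,3),(0,3),(0,4),(0,3),(0,1),(1,2),(0,2),(1,4),(0,3)],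
    [(1,4),(1,2),(0,4),(0,3),(1,2),(0,2),(1,1),(0,3),(0,3),(0,3),(0,2),(0,2),(0,1),(0,4),(0,2),(0,4),(2,1),(0,2),(0,2),(0,3)],
    [(0,3),(0,2),(2,3),(0,2),(0,1),(0,3),(0,1),(0,2),(0,4),(1,4),(1,3),(0,1),(0,1),(0,1),(0,4),(1,3),(0,1),(1,1),(0,1),(0,1),(1,4)],
    [(0,1),(0,1),(0,3),(0,3),(2,4),(0,4),(1,2),(0,2),(0,2),(0,2),(0,3),(2,4),(1,4),(0,1),(0,2),(0,4),(1,4),(0,2),(1,3),(0,1)],
    [(0,2),(0,4),(1,1),(1,1),(0,2),(0,3),(0,1),(0,1),(2,1),(0,3),(0,2),(0,2),(0,1),(0,4),(0,3),(0,4),(0,1),(0,1),(1,3),(0,3)],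
    [(0,4),(1,3),(0,2),(0,4),(0,2),(0,4),(0,4),(0,1),(0,3),(0,4),(0,3),(0,2),(0,2),(0,4),(0,3),(1,1),(0,4),(0,3),(0,3),(0,4),(0,3),(0,1),(1,4),(0,1),(0,4)],
    [(0,2),(3,4),(0,4),(0,3),(0,2),(0,1),(0,1),(0,1),(1,3),(0,1),(0,4),(0,3),(1,2),(0,4),(0,3),(0,1),(0,3),(0,3),(0,3),(0,3),(0,1),(0,1)],
    [(0,1),(0,4),(0,1),(0,3),(0,4),(0,3),(0,3),(0,3),(0,1),(0,2),(0,2),(0,1),(1,4),(0,3),(0,3),(4,1),(0,2),(0,1),(2,1),(0,2),(0,2)],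
    [(0,2),(0,1),(1,4),(0,3),(1,3),(0,4),(0,3),(1,4),(0,3),(1,3),(1,1),(1,2),(0,3),(0,2),(1,2),(0,2),(0,2),(0,1),(0,3),(0,2),(0,1)],
    [(0,4),(0,1),(0,3),(0,2),(0,2),(0,4),(0,3),(0,1),(0,2),(1,1),(0,1),(0,2),(0,3),(1,3),(0,4),(0,3),(0,4),(0,4),(0,2),(1,3),(1,2),(0,1),(0,2),(0,2)],
    [(0,4),(4,2),(0,3),(0,4),(0,3),(0,2),(1,3),(0,2),(1,1),(1,4),(0,4),(0,3),(0,3),(0,2),(0,3),(1,2),(0,1),(0,3),(0,2),(0,4)],
    [(0,2),(1,4),(0,1),(0,3),(0,3),(0,1),(0,4),(0,1),(0,3),(0,2),(0,1),(0,3),(1,3),(2,4),(0,3),(0,2),(0,3),(0,3),(1,2),(0,1),(0,4),(0,3),(0,2)],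
    [(0,2),(0,3),(0,4),(0,2),(0,3),(0,2),(0,2),(0,4),(0,2),(0,3),(0,1),(0,1),(0,4),(1,1),(0,3),(0,1),(0,4),(0,3),(0,4),(0,4),(0,4),(1,4),(1,1),(0,3),(0,1)],
    [(1,1),(0,4),(0,3),(0,4),(0,4),(0,3),(0,2),(1,1),(1,4),(0,3),(1,1),(0,4),(0,3),(1,3),(0,2),(0,4),(0,3),(0,1),(0,1),(1,4),(1,3)],
    [(0,4),(0,3),(0,1),(0,1),(1,2),(2,3),(0,1),(0,1),(0,2),(0,3),(0,3),(0,1),(0,2),(0,2),(0,4),(1,3),(0,3),(0,1),(2,1),(0,2),(0,3),(0,3)],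
    [(0,4),(0,1),(1,4),(0,3),(0,2),(0,2),(0,4),(0,1),(2,1),(0,4),(0,3),(0,1),(1,3),(0,1),(0,2),(0,4),(1,2),(0,3),(0,2),(0,4),(0,2),(1,3)],
    [(1,1),(0,2),(0,2),(1,2),(0,3),(0,4),(0,4),(0,4),(0,2),(0,4),(0,2),(0,2),(0,4),(0,1),(0,1),(2,4),(0,4),(0,1),(0,2),(0,4),(0,3),(0,4),(0,1),(0,4)],
    [(1,1),(0,2),(0,3),(0,4),(2,2),(0,1),(0,3),(0,4),(0,2),(1,4),(0,1),(0,2),(2,3),(0,1),(0,2),(0,1),(0,1),(1,4),(0,1),(1,1)],
    [(0,3),(0,1),(0,4),(0,4),(0,3),(0,3),(0,4),(0,2),(2,3),(2,1),(1,1),(0,1),(0,3),(0,4),(0,4),(0,3),(0,1),(0,3),(0,4),(0,3),(0,1),(0,1),(0,4)],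
    [(1,3),(1,1),(0,4),(0,2),(0,1),(0,1),(0,1),(0,2),(1,4),(0,1),(0,1),(0,2),(0,2),(0,1),(4,4),(0,1),(0,2),(0,1),(0,4),(0,4),(0,4)],
    [(1,3),(1,4),(1,4),(0,2),(1,1),(0,1),(0,4),(0,3),(1,3),(0,1),(0,4),(0,1),(0,1),(0,4),(0,2),(0,1),(0,3),(0,1),(0,1),(0,4),(1,2),(0,4)],
    [(0,2),(0,3),(0,2),(0,2),(0,3),(1,1),(0,3),(0,3),(0,4),(0,4),(0,3),(0,3),(0,2),(0,4),(0,2),(0,1),(0,4),(1,1),(0,2),(0,1),(0,3),(0,2),(0,3),(0,2),(0,3),(0,3)],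
    [(1,1),(1,1),(0,1),(1,4),(0,3),(2,4),(0,2),(0,3),(1,4),(0,4),(0,1),(0,1),(0,2),(0,3),(0,1),(0,4),(1,1),(1,3),(1,1)],
    [(0,1),(0,1),(0,3),(0,2),(1,1),(0,4),(0,2),(0,4),(0,1),(0,1),(0,1),(1,3),(0,3),(0,4),(0,4),(0,3),(0,3),(0,1),(0,3),(0,4),(0,3),(0,4),(0,3),(0,2),(0,3),(0,1)],
    [(1,4),(0,4),(0,2),(1,1),(1,3),(0,4),(0,4),(1,2),(0,4),(0,4),(0,4),(1,2),(0,4),(0,1),(0,2),(1,2),(0,3),(0,4),(1,3),(0,4),(0,3)]]

/-- A letter. -/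
def mat14 : List (List (ℕ × ℕ)) := [
    [(0,1),(0,1),(0,3),(1,3),(1,3),(0,1),(0,3),(0,2),(0,4),(1,1),(0,3),(0,3),(0,2),(1,1),(2,2),(1,3),(1,4),(0,3),(0,3),(0,3)],
    [(0,3),(0,1),(0,2),(0,4),(0,4),(0,4),(0,3),(0,3),(1,4),(0,4),(0,3),(0,4),(0,4),(0,4),(0,3),(0,4),(0,1),(1,1),(0,4),(0,3),(0,2),(0,3),(0,2),(1,3),(0,1)],
    [(0,2),(1,1),(0,2),(0,3),(0,2),(2,2),(1,4),(0,3),(0,3),(0,3),(0,2),(0,2),(0,2),(0,3),(0,3),(2,4),(0,3),(0,3),(0,2),(1,2)],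
    [(0,1),(2,3),(0,2),(0,4),(2,2),(0,2),(1,3),(0,3),(0,4),(1,4),(0,1),(2,2),(0,3),(0,2),(0,3),(0,2),(0,2),(0,2),(0,3),(0,1)],
    [(1,3),(1,3),(1,4),(0,3),(1,2),(0,4),(0,1),(2,3),(0,3),(1,4),(0,4),(0,3),(1,3),(0,1),(0,3),(0,2),(0,3),(1,1),(0,2)],
    [(3,4),(1,4),(0,3),(0,1),(0,1),(0,3),(0,2),(0,1),(0,4),(0,4),(0,1),(0,3),(0,1),(0,2),(1,4),(0,2),(0,1),(0,4),(0,2),(0,4),(0,1),(0,3),(0,2)],
    [(0,2),(1,1),(0,3),(0,4),(0,2),(0,1),(0,1),(1,3),(0,1),(0,2),(1,1),(1,2),(0,1),(0,3),(0,4),(0,2),(1,1),(0,4),(0,3),(0,3),(0,3),(0,2),(0,1)],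
    [(0,3),(0,2),(0,1),(0,1),(0,1),(0,3),(0,3),(0,2),(0,1),(1,3),(0,4),(1,1),(1,1),(0,2),(0,1),(0,3),(3,3),(1,3),(0,3),(0,3),(0,1)],
    [(3,2),(0,4),(0,2),(0,2),(0,2),(0,1),(0,2),(0,1),(1,4),(0,1),(0,4),(0,1),(0,4),(0,1),(0,3),(0,1),(0,4),(0,2),(1,2),(0,1),(0,2),(0,4),(0,4)],
    [(1,4),(0,1),(0,1),(0,1),(0,3),(0,4),(0,2),(0,1),(0,1),(0,1),(0,4),(0,3),(0,2),(0,3),(0,2),(0,3),(0,4),(0,3),(0,4),(0,1),(0,3),(1,2),(0,2),(1,2),(0,2)],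
    [(1,1),(0,2),(0,4),(1,3),(1,3),(0,1),(0,4),(0,2),(0,1),(1,1),(0,4),(0,2),(0,1),(1,1),(0,3),(0,1),(1,3),(0,2),(0,4),(0,4),(0,3),(0,3)],
    [(0,3),(1,3),(0,2),(0,4),(1,3),(0,1),(0,3),(1,3),(0,1),(0,4),(0,1),(0,4),(1,3),(0,1),(0,4),(1,3),(0,4),(0,2),(0,3),(0,2),(0,4),(0,4),(0,2)],
    [(0,3),(0,3),(0,4),(0,2),(0,1),(0,1),(1,3),(0,2),(0,1),(0,1),(3,1),(0,3),(0,3),(0,1),(0,3),(0,3),(0,2),(0,3),(2,1),(1,1),(0,2)],
    [(0,1),(1,2),(1,2),(0,1),(1,1),(0,3),(0,3),(0,2),(0,3),(1,4),(0,4),(0,4),(1,3),(0,2),(0,3),(1,1),(0,3),(2,4),(1,2)],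
    [(0,1),(1,3),(0,3),(0,2),(0,3),(0,2),(0,1),(0,1),(0,4),(0,1),(0,2),(0,4),(1,2),(0,3),(0,1),(0,2),(0,3),(0,1),(0,1),(1,4),(0,3),(0,4),(0,2),(0,1)],
    [(0,2),(0,3),(0,4),(2,4),(0,3),(0,4),(0,2),(0,1),(0,1),(0,2),(0,2),(0,3),(0,2),(0,2),(1,1),(1,1),(0,2),(0,1),(0,1),(0,3),(0,2),(1,1),(0,4)],
    [(0,2),(2,4),(0,3),(0,2),(0,3),(0,1),(1,2),(0,1),(1,1),(0,3),(0,4),(0,3),(0,3),(0,3),(0,2),(0,2),(0,4),(0,3),(1,1),(0,1),(0,4),(0,3),(0,1)],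
    [(1,2),(0,3),(0,3),(1,3),(0,3),(1,3),(0,1),(0,4),(1,4),(0,2),(0,4),(0,1),(0,4),(2,4),(0,1),(0,4),(1,1),(0,3),(1,4),(0,3)],
    [(1,2),(0,3),(0,1),(0,3),(0,4),(0,1),(0,3),(0,1),(0,4),(0,3),(0,3),(1,1),(1,4),(0,2),(0,1),(0,4),(0,1),(0,2),(0,3),(1,4),(0,2),(0,4),(0,4),(0,3)],
    [(0,1),(2,3),(2,2),(1,4),(0,3),(0,1),(0,3),(0,3),(0,4),(0,4),(0,2),(0,1),(2,3),(1,2),(0,4),(0,4),(0,2),(1,4),(0,3)],
    [(0,3),(1,4),(0,1),(0,1),(1,2),(0,3),(0,1),(0,2),(3,3),(0,2),(0,3),(0,1),(0,3),(0,4),(0,3),(2,3),(0,3),(0,2),(1,4)],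
    [(0,2),(0,4),(0,4),(0,2),(0,3),(1,3),(0,2),(1,4),(0,4),(0,2),(0,1),(0,2),(0,1),(0,2),(0,1),(0,2),(0,1),(0,1),(1,3),(0,3),(0,2),(0,2),(0,4),(0,4),(0,1)],
    [(1,1),(2,1),(1,2),(0,4),(0,1),(0,1),(1,1),(0,2),(0,1),(0,1),(0,1),(0,4),(0,3),(0,1),(0,2),(0,1),(0,3),(0,4),(0,1),(0,4),(0,3),(0,3),(0,1)],
    [(1,3),(0,3),(0,4),(0,2),(0,1),(2,1),(0,4),(0,4),(0,1),(0,3),(0,3),(0,2),(2,2),(1,1),(0,4),(0,3),(1,2),(0,4),(0,4),(0,1),(0,1)],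
    [(1,2),(0,4),(0,1),(0,4),(0,3),(0,1),(1,3),(1,1),(0,4),(4,1),(0,4),(0,3),(0,3),(0,3),(0,2),(0,1),(0,2),(1,3),(0,1),(0,4)],
    [(2,1),(0,3),(1,2),(1,2),(2,3),(0,1),(0,1),(0,1),(0,4),(1,2),(0,1),(0,1),(3,1),(2,3),(1,2)],
    [(0,3),(0,1),(1,1),(1,4),(0,3),(0,2),(0,4),(1,3),(0,4),(0,2),(0,2),(0,1),(0,1),(0,3),(0,2),(0,1),(0,2),(0,3),(2,1),(0,1),(0,3),(0,4),(0,2)],
    [(0,2),(1,3),(1,2),(0,1),(1,3),(0,4),(0,3),(0,1),(0,3),(0,2),(0,2),(0,1),(0,3),(0,2),(2,3),(0,4),(0,2),(0,1),(0,4),(0,3),(1,1),(0,3)]]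

/-- A letter. -/
def mat15 : List (List (ℕ × ℕ)) := [
    [(0,3),(2,4),(1,4),(0,1),(0,2),(0,2),(0,1),(0,3),(0,3),(0,4),(0,3),(0,4),(0,4),(0,2),(0,3),(0,3),(2,2),(0,2),(2,1),(0,2)],
    [(0,4),(0,2),(1,4),(0,4),(2,3),(0,2),(0,1),(2,2),(0,1),(1,1),(2,1),(0,2),(0,2),(0,3),(1,1),(0,2)],
    [(0,2),(0,1),(0,3),(0,4),(0,2),(0,1),(1,4),(1,3),(1,2),(0,3),(0,2),(1,2),(1,1),(0,1),(0,1),(1,2),(0,4),(0,2),(0,1),(0,1),(0,2),(0,2)],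
    [(0,1),(0,1),(0,1),(0,4),(0,1),(0,3),(0,3),(0,3),(1,1),(1,4),(0,1),(0,3),(0,3),(0,2),(1,2),(0,2),(0,2),(0,2),(0,4),(0,2),(0,3),(0,4),(0,1),(1,4)],
    [(0,1),(1,3),(0,1),(0,1),(0,4),(1,2),(0,1),(0,3),(0,2),(0,3),(0,2),(0,2),(0,2),(0,4),(0,4),(0,4),(0,3),(0,1),(0,3),(0,4),(0,2),(1,4),(0,3),(0,4),(0,2)],
    [(1,2),(0,1),(0,4),(1,2),(0,2),(0,3),(1,3),(0,1),(0,4),(0,3),(0,3),(0,3),(0,1),(0,3),(1,1),(1,1),(0,2),(0,2),(1,3),(0,1),(0,4),(0,3)],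
    [(1,4),(0,4),(0,4),(1,2),(0,2),(2,4),(0,4),(0,1),(0,2),(0,4),(0,1),(1,1),(0,1),(0,4),(0,4),(0,3),(0,2),(0,1),(0,2),(0,3),(0,3),(0,4),(0,4)],
    [(0,4),(0,3),(1,3),(0,2),(0,4),(0,2),(0,3),(0,4),(2,3),(0,1),(0,1),(1,3),(1,3),(0,4),(0,1),(0,3),(0,2),(0,1),(0,3),(0,2),(0,2)],
    [(0,1),(0,2),(0,2),(1,4),(0,4),(0,4),(0,3),(1,3),(0,1),(0,1),(0,4),(0,4),(0,3),(0,1),(0,2),(0,2),(0,4),(2,3),(0,1),(0,1),(1,3),(0,4),(0,2)],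
    [(3,4),(0,2),(0,2),(0,4),(0,3),(0,3),(1,1),(0,2),(0,1),(1,4),(0,3),(0,2),(0,2),(0,3),(1,3),(0,4),(0,2),(1,4),(0,1),(0,1),(0,2)],
    [(1,3),(0,2),(0,3),(1,4),(0,1),(0,2),(0,2),(0,3),(0,4),(1,1),(0,3),(0,2),(0,3),(0,1),(0,1),(0,3),(0,3),(0,4),(0,4),(0,3),(0,1),(0,2),(0,1),(0,4),(0,3)],
    [(1,2),(0,4),(0,4),(0,4),(2,4),(1,1),(0,3),(0,4),(0,4),(0,4),(0,3),(0,2),(0,1),(1,4),(2,3),(0,4),(0,3),(0,3),(1,4),(0,3)],
    [(0,4),(0,3),(0,3),(0,2),(0,2),(1,2),(0,2),(0,1),(0,3),(0,3),(0,2),(1,4),(0,1),(1,3),(0,2),(1,1),(0,2),(0,2),(0,4),(0,2),(0,3),(1,4),(0,3)],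
    [(0,1),(2,1),(0,3),(0,2),(0,3),(0,3),(1,1),(0,2),(2,1),(0,3),(0,3),(0,2),(0,2),(0,3),(0,1),(0,3),(0,4),(0,4),(0,2),(0,1),(0,3),(1,1)],
    [(1,3),(0,3),(0,1),(1,3),(0,1),(0,3),(1,1),(0,4),(0,2),(0,1),(1,4),(0,3),(0,2),(0,3),(0,3),(0,1),(0,2),(0,1),(0,1),(0,3),(0,2),(0,1),(0,2),(0,4)],
    [(2,1),(0,1),(1,3),(1,1),(0,1),(1,4),(0,4),(0,4),(0,1),(0,3),(0,2),(0,4),(0,4),(0,4),(1,4),(0,1),(0,2),(0,1),(0,2),(0,4),(0,1),(0,3)],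
    [(0,1),(0,3),(0,1),(0,1),(0,2),(0,3),(1,3),(1,4),(0,1),(0,3),(0,4),(0,1),(0,4),(1,2),(1,2),(0,2),(2,4),(1,4),(0,1),(0,2)],
    [(0,3),(0,1),(0,4),(0,2),(1,2),(0,2),(0,2),(0,4),(0,3),(0,2),(0,4),(0,2),(0,3),(0,4),(0,1),(0,2),(0,1),(0,3),(0,1),(0,4),(0,3),(1,4),(1,2),(1,2)],
    [(2,4),(0,3),(0,3),(0,4),(0,3),(0,4),(0,4),(0,3),(0,2),(0,3),(0,2),(0,3),(0,4),(1,1),(2,1),(0,2),(0,4),(0,3),(0,3),(0,1),(1,4)],
    [(0,4),(0,2),(1,4),(1,1),(0,4),(0,2),(1,1),(0,2),(0,3),(0,1),(0,4),(0,1),(0,3),(0,2),(0,3),(0,4),(0,3),(0,2),(0,4),(0,4),(0,4),(2,1)],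
    [(1,3),(0,1),(2,3),(0,2),(0,4),(1,1),(0,4),(0,1),(0,4),(2,2),(0,4),(0,4),(0,4),(0,3),(0,3),(0,4),(0,2),(0,3),(0,1),(0,4),(0,3),(0,1)],
    [(0,1),(0,2),(0,1),(0,1),(0,3),(0,3),(0,2),(0,3),(0,3),(0,4),(0,2),(0,4),(0,2),(0,2),(0,3),(0,4),(1,3),(0,4),(1,2),(0,3),(0,4),(0,1),(0,2),(0,1),(0,1),(0,1)],
    [(1,2),(0,1),(0,1),(0,2),(1,2),(0,4),(0,2),(0,2),(0,2),(0,4),(0,1),(0,4),(0,3),(0,3),(1,4),(0,4),(0,1),(0,1),(0,2),(0,1),(0,4),(0,2),(1,4),(0,1)],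
    [(0,4),(1,2),(0,4),(0,4),(1,2),(0,1),(0,1),(0,2),(0,3),(0,1),(0,1),(0,1),(0,3),(0,2),(3,4),(0,4),(0,2),(0,3),(0,3),(0,2),(0,2),(0,2)],
    [(1,2),(1,3),(0,1),(0,4),(0,4),(0,3),(0,4),(0,4),(0,3),(1,2),(0,1),(0,3),(0,4),(0,2),(1,1),(0,3),(0,1),(0,4),(0,3),(0,3),(0,3),(0,1),(0,2),(0,1)],
    [(0,2),(0,1),(0,4),(2,2),(1,4),(2,4),(0,4),(0,4),(0,4),(0,2),(1,3),(0,1),(0,2),(1,2),(0,4),(0,2),(0,1),(0,2),(0,3),(0,2),(0,3)],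
    [(0,3),(0,1),(0,3),(0,1),(0,4),(0,1),(0,1),(0,4),(0,2),(0,3),(1,3),(0,4),(3,4),(0,2),(0,1),(0,2),(0,3),(0,4),(0,4),(0,4),(0,1),(0,2)],
    [(1,1),(0,2),(0,2),(1,2),(0,3),(0,1),(1,2),(0,3),(0,2),(0,2),(1,4),(1,3),(1,2),(0,4),(3,1),(0,1),(0,1),(0,1),(0,3)]]

/-- A letter. -/
def mat16 : List (List (ℕ × ℕ)) := [
    [(0,4)],
    [(1,4)],
    [(2,4)],
    [(3,4)],
    [(4,4)],
    [(5,4)],
    [(6,4)],
    [(7,4)],
    [(8,4)],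
    [(9,4)],
    [(10,4)],
    [(11,4)],
    [(12,4)],
    [(13,4)],
    [(14,4)],
    [(15,4)],
    [(16,4)],
    [(17,4)],
    [(18,4)],
    [(19,4)],
    [(20,4)],
    [(21,4)],
    [(22,4)],
    [(23,4)],
    [(24,4)],
    [(25,4)],
    [(26,4)],
    [(27,4)]]

/-- A letter. -/
def mat17 : List (List (ℕ × ℕ)) := [
    [(0,4),(0,2),(0,3),(0,1),(1,1),(0,4),(0,2),(0,1),(0,3),(0,1),(0,3),(0,1),(0,1),(0,2),(0,1),(1,1),(0,4),(1,4),(1,3),(0,2),(0,1),(0,3),(0,4),(0,1)],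
    [(0,3),(0,3),(0,2),(0,4),(1,2),(0,2),(1,4),(0,4),(0,4),(1,2),(1,2),(1,4),(0,1),(0,4),(0,1),(1,1),(1,4),(0,3),(0,4),(0,4),(0,3)],
    [(0,1),(0,4),(0,2),(1,1),(1,1),(1,3),(0,4),(0,2),(0,1),(0,3),(0,4),(1,2),(0,2),(0,3),(0,3),(1,2),(1,1),(0,2),(0,3),(1,2),(0,3)],
    [(0,1),(0,1),(1,4),(0,3),(1,3),(2,4),(0,3),(0,2),(0,2),(0,1),(0,1),(0,3),(0,3),(0,2),(0,1),(0,1),(0,1),(0,4),(0,1),(0,2),(0,2),(0,1),(0,2),(0,4)],
    [(2,2),(0,2),(1,3),(0,2),(0,1),(0,4),(2,1),(0,3),(1,2),(0,3),(1,1),(0,4),(2,4),(0,1),(1,4),(0,3),(1,4)],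
    [(2,2),(1,1),(0,3),(0,1),(0,2),(1,4),(1,1),(1,4),(0,4),(0,2),(0,3),(0,2),(0,4),(0,4),(3,1),(0,3),(0,2),(0,3),(0,2)],
    [(1,4),(2,1),(0,1),(1,2),(0,2),(0,4),(0,1),(0,3),(0,1),(1,3),(0,1),(1,4),(0,2),(0,2),(0,2),(0,1),(0,3),(0,2),(0,1),(0,1),(0,4)],
    [(0,3),(0,4),(0,1),(0,3),(0,3),(0,1),(2,1),(1,1),(0,4),(0,1),(1,1),(0,1),(0,4),(1,1),(0,1),(0,3),(0,2),(0,4),(0,2),(1,1),(0,2),(0,3)],
    [(2,4),(0,2),(1,4),(0,1),(0,3),(0,1),(0,3),(0,1),(3,2),(0,1),(0,3),(0,3),(0,3),(0,2),(0,2),(0,3),(0,4),(1,4),(1,2),(0,4)],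
    [(0,3),(0,1),(0,3),(0,4),(0,4),(0,3),(0,3),(0,2),(0,3),(0,4),(0,4),(1,4),(0,2),(0,2),(0,1),(0,1),(0,2),(0,4),(1,1),(0,1),(0,4),(0,3),(1,3),(0,1),(0,1)],
    [(2,1),(0,1),(0,3),(0,4),(0,1),(0,4),(0,1),(1,3),(1,2),(0,4),(0,4),(0,4),(0,4),(0,3),(1,2),(0,3),(0,1),(0,1),(0,2),(1,3)],
    [(0,1),(1,1),(0,3),(1,1),(0,4),(0,4),(1,1),(0,2),(0,2),(0,2),(1,2),(1,4),(0,1),(0,4),(0,1),(0,2),(1,2),(0,1),(0,3),(0,2),(1,1)],
    [(0,4),(0,1),(0,1),(0,4),(1,4),(0,4),(0,4),(0,3),(0,1),(1,3),(0,1),(0,4),(0,4),(0,4),(0,1),(0,2),(0,3),(0,1),(0,1),(0,3),(1,2),(0,3),(0,2),(0,1),(0,4)],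
    [(3,4),(1,4),(0,3),(0,2),(0,2),(0,4),(0,3),(1,3),(0,4),(0,4),(0,1),(0,3),(0,3),(2,3),(0,1),(0,3),(0,4),(0,1),(0,4),(0,1)],
    [(0,1),(0,4),(4,3),(1,2),(0,4),(0,2),(0,2),(0,3),(0,1),(0,3),(1,4),(2,3),(1,2),(0,1),(0,3),(0,2),(0,2),(0,4)],
    [(2,2),(0,3),(0,3),(0,4),(0,2),(0,2),(1,3),(2,3),(0,1),(0,2),(0,3),(0,1),(0,3),(0,2),(0,4),(0,4),(0,2),(0,3),(0,4),(1,1),(0,2),(0,1)],
    [(0,1),(0,2),(1,2),(0,2),(0,4),(0,4),(0,4),(0,3),(2,1),(0,1),(0,1),(1,2),(0,3),(1,4),(1,2),(0,3),(0,4),(1,2),(2,1)],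
    [(0,3),(0,1),(0,4),(0,4),(0,3),(0,3),(0,4),(0,1),(0,2),(0,2),(0,2),(0,3),(0,1),(1,2),(2,4),(0,3),(0,1),(2,4),(0,3),(0,1),(0,1),(0,4),(0,4)],
    [(1,2),(1,3),(1,4),(0,2),(0,1),(0,2),(1,3),(0,2),(0,3),(1,1),(0,4),(1,3),(0,3),(0,2),(0,1),(0,2),(1,2),(0,3),(0,2),(0,2),(0,2)],
    [(1,2),(0,1),(0,2),(0,2),(1,3),(0,3),(0,4),(0,4),(0,3),(0,4),(0,4),(0,2),(1,2),(0,2),(0,2),(0,2),(0,2),(1,4),(0,2),(2,4),(0,3),(0,2)],
    [(0,3),(0,1),(0,1),(1,2),(0,4),(0,4),(0,4),(0,3),(2,1),(2,2),(1,4),(0,4),(0,4),(0,3),(0,3),(0,2),(0,2),(0,1),(0,1),(0,3),(1,4)],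
    [(0,1),(1,1),(0,1),(0,2),(1,1),(1,3),(0,1),(0,3),(0,3),(0,3),(0,2),(0,1),(0,4),(0,4),(0,1),(0,4),(0,4),(0,3),(0,3),(0,4),(0,2),(0,3),(0,2),(0,1),(0,4)],
    [(0,1),(1,2),(0,2),(0,4),(2,2),(0,2),(0,4),(0,4),(0,4),(0,4),(0,1),(1,3),(0,3),(0,2),(1,2),(1,1),(0,2),(1,4),(0,3),(0,1),(0,3)],
    [(1,1),(0,4),(1,1),(0,3),(1,2),(0,1),(0,1),(0,1),(0,2),(0,2),(0,2),(1,1),(0,2),(2,1),(0,1),(0,3),(0,3),(1,3),(0,1),(0,4),(0,1)],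
    [(1,2),(0,4),(1,4),(0,2),(1,4),(1,3),(0,4),(0,3),(0,2),(1,1),(0,2),(0,3),(0,2),(0,4),(0,2),(1,3),(2,3),(0,3)],
    [(1,4),(2,1),(3,2),(0,4),(1,4),(0,2),(1,3),(1,3),(0,3),(3,4),(0,2),(0,3),(0,2),(0,3),(0,4),(0,3)],
    [(0,2),(0,4),(1,4),(1,2),(0,2),(0,3),(1,4),(0,2),(0,2),(0,1),(0,2),(0,2),(0,3),(0,2),(0,3),(0,3),(1,1),(0,4),(0,3),(0,1),(0,3),(0,4),(0,3),(0,4)],
    [(1,2),(0,3),(1,3),(1,4),(0,2),(0,3),(0,3),(0,4),(1,1),(0,3),(0,3),(0,2),(0,3),(0,1),(0,3),(0,4),(0,4),(0,3),(0,1),(2,2),(0,1)]]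

/-- A letter. -/
def mat18 : List (List (ℕ × ℕ)) := [
    [(0,4),(0,1),(0,3),(0,1),(0,2),(0,1),(0,2),(0,1),(0,1),(0,2),(0,3),(0,1),(0,1),(0,3),(1,3),(0,1),(0,3),(0,3),(0,3),(0,2),(0,3),(0,2),(1,4),(0,2),(0,3),(0,2)],
    [(2,3),(0,4),(0,2),(1,1),(0,2),(0,4),(1,4),(2,2),(1,4),(0,2),(0,1),(0,4),(0,1),(0,4),(1,1),(0,3),(0,4),(1,1),(0,4)],
    [(0,3),(0,1),(1,4),(1,3),(0,2),(0,4),(0,1),(0,1),(0,2),(0,2),(2,2),(0,4),(0,2),(0,2),(0,1),(0,2),(0,1),(0,3),(1,3),(0,3),(1,4),(0,1)],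
    [(0,1),(0,2),(1,2),(0,2),(0,3),(0,3),(0,4),(0,1),(0,4),(0,2),(0,1),(0,2),(1,2),(0,2),(0,2),(0,4),(1,2),(1,2),(0,2),(0,4),(0,1),(0,2),(0,3),(0,3)],
    [(0,2),(0,4),(0,1),(0,3),(0,2),(0,3),(0,1),(0,3),(0,3),(0,3),(0,3),(0,4),(1,1),(1,4),(0,1),(0,4),(0,2),(2,3),(0,2),(0,1),(1,2),(0,1),(0,2)],
    [(0,2),(2,4),(1,3),(0,2),(0,4),(0,1),(0,3),(0,3),(0,1),(0,2),(0,1),(0,2),(0,1),(0,2),(1,3),(0,3),(0,4),(1,2),(0,4),(0,1),(0,1)],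
    [(0,2),(1,3),(1,2),(1,2),(1,1),(0,1),(0,2),(2,2),(0,2),(0,1),(1,3),(0,1),(0,1),(1,2),(0,2),(2,1),(1,3)],
    [(0,3),(2,4),(0,2),(1,1),(0,1),(0,2),(0,1),(0,2),(0,4),(0,2),(0,4),(1,4),(0,2),(0,2),(0,2),(0,2),(0,2),(1,3),(0,4),(0,2),(0,2),(1,3)],
    [(0,1),(2,1),(0,1),(0,4),(0,3),(0,4),(2,4),(0,3),(0,2),(0,2),(0,4),(0,3),(0,2),(0,3),(0,3),(0,2),(0,4),(1,2),(1,3),(1,4)],
    [(1,1),(1,2),(0,4),(0,1),(0,4),(0,3),(1,2),(0,1),(0,1),(0,4),(1,3),(2,2),(0,1),(0,4),(0,1),(0,2),(0,2),(0,4),(2,2),(0,2)],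
    [(0,2),(0,2),(0,1),(2,3),(0,2),(0,4),(0,2),(1,3),(0,4),(0,2),(0,4),(0,3),(1,4),(0,4),(0,3),(0,1),(0,1),(0,1),(0,2),(1,3),(0,3),(0,2),(0,3)],
    [(0,2),(1,4),(0,2),(1,4),(0,1),(0,4),(0,4),(2,1),(0,1),(1,2),(0,3),(0,1),(0,4),(0,3),(0,3),(0,4),(0,1),(0,3),(0,2),(0,3),(0,4),(1,4)],
    [(0,3),(1,4),(0,2),(0,1),(0,1),(0,3),(0,1),(0,1),(0,4),(0,3),(1,2),(0,2),(0,1),(0,3),(0,4),(1,2),(0,3),(0,4),(0,3),(0,3),(1,1),(0,3),(0,2)],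
    [(0,2),(1,4),(0,2),(1,4),(0,2),(0,3),(1,3),(0,2),(0,4),(0,2),(0,1),(0,1),(2,4),(0,3),(0,1),(0,4),(0,2),(0,3),(1,3),(0,3),(1,4)],
    [(0,1),(2,2),(1,2),(0,3),(0,4),(0,1),(0,3),(0,1),(0,2),(0,4),(1,3),(0,2),(2,2),(0,3),(0,4),(1,1),(0,3),(0,2),(0,1),(1,2)],
    [(2,1),(0,4),(0,1),(0,3),(0,4),(0,2),(0,1),(0,3),(2,3),(0,2),(0,4),(0,4),(0,2),(0,1),(1,4),(0,4),(0,2),(0,4),(1,1),(1,2),(0,2)],
    [(0,1),(0,2),(0,2),(0,1),(1,4),(1,1),(1,1),(0,2),(0,3),(0,2),(0,4),(0,3),(0,1),(0,1),(0,2),(0,2),(1,2),(0,3),(1,1),(0,1),(0,1),(0,3),(0,3)],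
    [(0,1),(0,1),(0,1),(0,2),(0,3),(0,3),(0,4),(1,4),(0,1),(0,3),(0,1),(0,4),(0,3),(0,3),(0,4),(0,3),(2,4),(0,4),(0,3),(0,1),(0,4),(0,2),(0,3),(0,1)],
    [(0,1),(1,4),(0,2),(0,1),(1,3),(0,1),(0,2),(0,4),(0,2),(1,4),(0,2),(0,1),(1,1),(0,1),(0,1),(0,3),(0,1),(0,2),(0,1),(0,1),(0,2),(0,1),(0,3),(0,2)],
    [(4,4),(0,2),(0,4),(0,1),(0,3),(0,1),(3,4),(0,4),(0,2),(0,2),(0,3),(0,3),(0,3),(1,2),(0,1),(0,3),(1,4),(0,1),(0,3)],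
    [(0,2),(0,2),(0,3),(0,1),(0,3),(0,3),(0,4),(0,1),(0,2),(0,1),(0,1),(0,1),(0,1),(0,4),(0,4),(0,3),(0,4),(0,4),(0,4),(0,3),(0,1),(0,4),(0,2),(0,3),(0,4)],
    [(0,1),(3,2),(0,2),(0,4),(3,3),(0,2),(0,1),(1,1),(0,3),(0,4),(0,3),(0,3),(0,4),(0,2),(0,3),(1,2),(0,3),(0,4),(1,1)],
    [(1,2),(0,1),(0,2),(0,2),(0,1),(0,2),(0,3),(0,4),(0,1),(0,1),(0,1),(0,4),(0,4),(0,1),(1,4),(1,4),(0,1),(0,1),(0,4),(0,2),(0,1),(0,2),(0,3),(1,2)],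
    [(23,4)],
    [(2,3),(1,4),(0,4),(1,1),(0,4),(0,3),(1,1),(0,1),(0,3),(0,2),(0,4),(0,3),(0,1),(0,3),(0,2),(0,4),(0,2),(1,4),(0,2),(0,1),(0,2)],
    [(0,4),(2,3),(1,3),(0,4),(0,3),(0,1),(0,3),(0,3),(1,4),(0,2),(0,4),(0,1),(0,3),(0,1),(0,3),(0,1),(0,1),(0,3),(0,1),(0,3),(0,2),(0,2),(1,2)],
    [(0,2),(0,4),(1,4),(0,3),(0,2),(0,3),(0,1),(1,2),(1,4),(0,1),(0,2),(0,2),(0,4),(0,4),(0,4),(0,3),(1,3),(0,2),(0,2),(0,4),(0,2),(0,2),(0,1),(0,1)],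
    [(0,3),(1,2),(2,4),(1,1),(0,3),(1,3),(0,2),(0,1),(0,3),(0,1),(1,4),(0,2),(0,3),(0,4),(0,2),(1,1),(0,3),(0,1),(0,2),(0,2),(0,1)]]

/-- A letter. -/
def mat19 : List (List (ℕ × ℕ)) := [
    [(0,4),(0,2),(0,4),(0,1),(1,2),(0,4),(0,4),(1,4),(0,2),(0,3),(0,3),(0,1),(0,3),(0,1),(0,4),(0,2),(0,3),(0,4),(0,3),(0,1),(0,2),(0,1),(0,4),(0,4),(0,3),(0,2)],
    [(0,3),(0,4),(0,3),(0,3),(0,3),(0,2),(0,1),(0,1),(2,1),(0,1),(0,4),(1,1),(0,4),(0,3),(0,4),(1,4),(0,3),(0,3),(0,3),(0,2),(0,3),(0,2),(0,2),(0,3)],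
    [(0,2),(1,1),(0,1),(0,2),(0,1),(0,3),(2,3),(0,3),(0,4),(0,2),(0,4),(1,3),(0,4),(0,1),(0,4),(0,1),(0,3),(0,1),(1,4),(0,3),(0,2),(0,4),(0,2)],
    [(0,1),(1,1),(0,2),(0,2),(1,1),(0,1),(0,3),(0,2),(0,2),(0,4),(0,3),(0,1),(0,2),(0,1),(0,4),(0,4),(0,2),(0,1),(1,3),(1,3),(0,4),(2,4)],
    [(0,2),(1,3),(1,1),(0,2),(0,1),(0,4),(0,4),(0,3),(0,1),(0,2),(0,1),(0,2),(0,2),(4,3),(0,3),(0,1),(0,4),(0,2),(0,1),(1,2),(0,4)],
    [(1,2),(0,2),(1,2),(0,2),(0,4),(0,4),(0,2),(1,2),(1,4),(0,3),(0,4),(0,4),(1,2),(0,2),(0,3),(1,2),(0,2),(0,4),(0,3),(0,4),(0,2),(0,4)],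
    [(0,4),(0,1),(1,1),(1,3),(0,2),(0,4),(0,1),(0,4),(0,1),(0,3),(0,4),(0,1),(0,3),(0,3),(0,2),(0,2),(0,2),(0,1),(1,1),(0,3),(2,3),(0,4),(0,3)],
    [(0,4),(0,2),(0,4),(0,2),(1,1),(1,2),(1,1),(0,1),(0,1),(1,4),(0,4),(0,2),(0,1),(0,2),(2,2),(0,2),(0,1),(0,1),(0,4),(0,2),(1,3)],
    [(0,2),(1,4),(0,1),(0,1),(0,3),(0,3),(0,3),(0,3),(1,3),(0,1),(0,3),(0,3),(0,2),(1,1),(1,3),(0,4),(0,4),(0,4),(0,1),(0,1),(1,3),(0,3)],
    [(0,4),(1,4),(0,3),(0,1),(0,4),(0,2),(1,3),(0,3),(0,4),(0,3),(0,1),(1,3),(0,4),(1,1),(1,3),(2,1),(0,2),(0,3),(0,3),(0,2),(0,3)],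
    [(0,3),(0,3),(0,4),(0,2),(0,1),(0,2),(0,3),(0,4),(1,1),(2,3),(1,3),(0,1),(1,4),(0,2),(0,4),(1,4),(1,2),(0,3),(0,2),(0,4)],
    [(1,3),(0,1),(0,1),(0,2),(1,2),(1,4),(0,4),(0,4),(0,4),(0,4),(0,4),(0,4),(0,1),(0,2),(0,1),(0,3),(0,2),(0,2),(0,4),(0,1),(0,4),(0,1),(0,3),(0,4),(0,4)],
    [(0,2),(0,3),(0,3),(1,3),(0,2),(1,1),(0,2),(0,1),(1,1),(0,1),(0,1),(0,2),(1,1),(1,4),(0,4),(0,2),(0,2),(0,3),(0,2),(0,4),(2,1)],
    [(0,1),(0,1),(0,3),(2,3),(0,2),(0,3),(0,3),(1,4),(0,4),(0,2),(0,4),(0,1),(1,2),(0,4),(0,2),(0,4),(0,2),(0,1),(0,1),(0,2),(0,4),(0,2),(0,2)],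
    [(0,1),(0,1),(0,3),(1,2),(0,2),(1,3),(1,2),(0,4),(0,1),(0,3),(0,1),(1,1),(0,4),(0,2),(2,3),(0,3),(0,2),(0,2),(0,1),(0,1),(0,2),(0,4)],
    [(0,1),(0,4),(0,1),(0,1),(0,2),(0,2),(1,1),(0,2),(0,3),(0,4),(0,4),(0,3),(0,2),(1,1),(0,3),(0,4),(0,2),(0,4),(0,1),(0,3),(1,3),(0,1),(0,1),(0,1)],
    [(0,1),(0,4),(0,1),(0,4),(0,1),(0,2),(1,2),(0,2),(0,3),(1,1),(0,3),(0,3),(1,3),(0,4),(0,3),(0,4),(0,4),(0,4),(1,1),(0,3),(0,4),(0,4),(0,3),(0,4)],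
    [(0,1),(0,4),(0,1),(0,1),(1,3),(0,3),(0,3),(4,4),(0,4),(0,2),(0,2),(0,4),(0,4),(0,1),(0,2),(0,1),(0,4),(0,2),(0,4),(1,4),(0,1),(0,1)],
    [(0,2),(1,3),(0,2),(0,2),(0,3),(0,1),(0,3),(1,1),(0,4),(0,4),(0,4),(4,2),(0,2),(0,1),(0,2),(1,1),(0,3),(0,3),(0,1),(0,4),(0,1)],
    [(0,3),(0,1),(0,4),(0,3),(1,4),(0,4),(0,1),(4,2),(0,2),(0,4),(0,3),(0,4),(0,4),(0,2),(0,2),(0,1),(1,4),(0,3),(1,3),(0,2)],
    [(2,2),(0,3),(0,1),(0,3),(2,2),(0,4),(1,1),(0,4),(1,4),(0,2),(0,3),(1,3),(1,2),(0,2),(0,2),(0,4),(0,1),(0,3),(0,3)],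
    [(0,4),(1,1),(0,4),(0,2),(0,2),(2,3),(0,1),(0,2),(0,2),(0,1),(1,1),(2,2),(0,4),(1,1),(0,4),(0,2),(0,4),(0,2),(0,4),(0,1),(0,4)],
    [(0,1),(0,4),(0,1),(1,1),(0,4),(0,4),(0,3),(0,3),(2,1),(1,4),(0,2),(0,1),(0,4),(0,1),(0,3),(1,4),(0,1),(0,2),(0,1),(0,3),(0,3),(0,2),(0,3)],
    [(0,1),(4,3),(1,4),(0,2),(0,4),(0,2),(0,3),(0,2),(0,1),(0,2),(0,3),(0,3),(1,1),(0,4),(0,3),(0,4),(1,3),(1,2),(0,1),(0,2)],
    [(1,4),(0,2),(1,2),(0,4),(1,4),(0,2),(0,2),(0,3),(0,2),(0,3),(0,1),(0,1),(0,4),(1,1),(0,1),(0,3),(0,3),(0,1),(0,4),(0,2),(0,4),(1,3),(0,3)],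
    [(2,4),(1,4),(1,2),(0,1),(2,1),(0,4),(0,2),(0,1),(0,1),(1,1),(0,1),(0,2),(1,1),(0,4),(0,3),(0,4),(0,2),(1,3),(0,4)],
    [(0,3),(0,1),(0,2),(0,1),(1,3),(1,1),(1,2),(0,2),(2,2),(0,2),(1,3),(0,3),(0,4),(0,1),(1,2),(0,4),(0,2),(0,3),(0,3),(0,4)],
    [(1,3),(0,2),(2,3),(2,3),(0,3),(0,4),(0,1),(0,3),(0,4),(0,4),(0,1),(0,1),(0,2),(0,4),(1,3),(0,4),(0,2),(0,4),(1,2),(0,3),(0,1)]]

/-- A letter. -/
def mat20 : List (List (ℕ × ℕ)) := [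
    [(0,4),(0,2),(0,2),(0,1),(2,4),(0,1),(0,2),(0,3),(0,2),(0,4),(1,2),(0,3),(0,3),(0,2),(0,3),(0,4),(1,4),(0,4),(0,2),(0,3),(0,1),(2,1)],
    [(0,1),(0,1),(0,2),(0,3),(1,2),(0,4),(1,2),(1,2),(0,2),(0,1),(0,3),(1,3),(0,3),(0,2),(0,2),(1,3),(1,4),(0,2),(0,2),(0,4)],
    [(0,1),(0,4),(0,2),(0,2),(1,4),(0,3),(0,1),(1,1),(0,3),(0,1),(0,2),(1,1),(1,2),(0,2),(0,1),(2,2),(1,4),(0,3),(0,2),(0,2),(0,3)],
    [(0,1),(0,1),(1,3),(0,3),(0,2),(0,3),(1,4),(0,2),(0,2),(1,3),(0,2),(0,2),(0,2),(0,2),(0,3),(1,3),(1,3),(0,1),(1,4),(1,4),(0,1)],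
    [(0,4),(0,3),(0,2),(0,1),(0,1),(4,3),(0,1),(0,4),(0,2),(0,4),(0,2),(0,1),(0,3),(1,1),(0,2),(0,1),(2,4),(0,2),(1,1),(0,2)],
    [(0,2),(0,3),(0,1),(0,4),(2,1),(0,2),(1,2),(0,1),(0,2),(1,4),(0,2),(1,3),(0,1),(0,4),(0,3),(0,1),(0,3),(0,3),(0,1),(0,4),(1,1),(0,1)],
    [(0,4),(2,3),(0,4),(0,4),(0,4),(0,3),(2,1),(0,3),(0,4),(0,2),(0,4),(1,4),(1,3),(1,2),(0,2),(1,1),(0,2),(0,3),(0,3),(0,4)],
    [(0,4),(0,4),(0,2),(1,1),(0,1),(0,1),(0,3),(0,1),(0,1),(0,3),(0,2),(0,3),(0,2),(1,3),(0,4),(0,4),(0,4),(1,2),(0,4),(0,2),(1,1),(0,4),(1,1)],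
    [(0,2),(0,2),(1,3),(0,1),(0,4),(0,3),(0,3),(1,3),(0,4),(0,2),(0,1),(0,2),(2,2),(0,4),(0,4),(1,3),(0,3),(0,1),(0,1),(1,2),(0,2),(0,4)],
    [(0,4),(0,1),(0,4),(2,1),(0,1),(0,3),(1,1),(0,1),(0,1),(0,3),(0,3),(0,3),(0,2),(1,3),(0,2),(0,4),(0,2),(3,3),(0,3),(0,4),(0,1)],
    [(0,2),(0,4),(1,3),(1,4),(1,3),(1,1),(0,2),(0,2),(0,2),(0,3),(0,2),(0,3),(1,3),(0,1),(0,1),(0,2),(0,3),(1,4),(0,4),(0,2),(0,2),(0,1)],
    [(0,4),(0,4),(0,4),(0,3),(1,2),(0,4),(0,4),(0,2),(0,2),(0,1),(0,2),(0,4),(0,2),(0,1),(2,4),(0,3),(1,1),(0,1),(0,4),(0,2),(0,1),(0,4),(0,2),(0,1)],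
    [(1,4),(0,1),(0,1),(0,3),(0,3),(0,2),(0,3),(1,3),(0,4),(1,1),(1,4),(0,1),(0,2),(1,2),(0,2),(1,4),(0,2),(0,3),(0,3),(1,2)],
    [(1,3),(1,1),(0,3),(0,2),(0,1),(0,4),(1,3),(1,2),(1,1),(1,2),(0,4),(0,2),(0,4),(0,3),(2,3),(0,1),(0,3),(0,2),(0,4),(0,2)],
    [(1,3),(1,1),(1,1),(0,4),(0,4),(0,2),(2,4),(0,1),(0,3),(0,4),(0,3),(0,1),(1,2),(0,4),(0,1),(0,2),(0,4),(0,1),(1,1),(0,4),(0,1)],
    [(0,3),(0,2),(1,2),(0,4),(1,2),(0,1),(0,2),(0,2),(0,4),(0,3),(0,3),(0,1),(0,2),(2,1),(2,3),(0,2),(0,3),(0,1),(0,2),(0,2),(1,1)],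
    [(1,3),(1,1),(0,3),(0,1),(0,1),(0,4),(0,4),(0,4),(0,4),(0,3),(0,2),(0,3),(2,3),(0,4),(0,1),(1,2),(0,4),(0,2),(0,3),(0,2),(0,1),(0,4),(0,4)],
    [(0,2),(0,2),(0,4),(0,3),(0,4),(1,1),(0,2),(0,1),(0,3),(0,3),(0,4),(0,2),(0,2),(0,2),(0,4),(0,3),(3,2),(0,4),(1,4),(0,3),(1,3),(0,1)],
    [(1,2),(1,3),(0,4),(1,4),(1,4),(0,2),(0,1),(0,1),(0,3),(0,3),(1,1),(0,1),(0,4),(1,4),(0,4),(0,1),(0,4),(0,3),(0,3),(1,2),(0,1)],
    [(1,1),(1,2),(0,2),(0,2),(0,4),(0,1),(0,2),(0,2),(0,3),(0,2),(0,3),(0,4),(0,3),(0,4),(0,4),(0,1),(0,1),(0,1),(0,2),(0,3),(0,3),(0,4),(0,1),(0,1),(0,1),(0,1)],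
    [(1,1),(0,1),(0,3),(1,3),(0,1),(1,3),(1,2),(0,3),(0,1),(0,3),(0,2),(0,1),(1,2),(2,1),(0,4),(0,3),(0,1),(0,2),(0,3),(0,2),(0,4)],
    [(0,4),(0,4),(0,2),(1,3),(0,2),(0,1),(1,3),(0,1),(0,4),(0,3),(0,3),(1,4),(0,2),(0,4),(0,3),(0,1),(0,1),(0,3),(1,4),(3,1)],
    [(0,2),(0,4),(0,2),(0,2),(0,3),(0,1),(0,2),(0,3),(0,3),(0,1),(0,2),(0,3),(0,3),(2,1),(0,3),(0,4),(0,3),(0,2),(1,4),(0,3),(1,1),(0,4),(0,4),(0,3)],
    [(1,2),(0,4),(0,4),(0,2),(0,1),(0,3),(0,3),(0,1),(0,4),(0,3),(0,1),(1,2),(0,3),(0,4),(0,1),(0,1),(0,3),(1,3),(1,4),(0,4),(0,1),(0,3),(0,4),(0,2)],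
    [(0,4),(0,1),(0,1),(1,4),(0,3),(0,4),(0,3),(0,3),(0,3),(0,2),(1,3),(0,2),(1,2),(0,1),(0,3),(0,2),(1,3),(1,1),(0,3),(0,1),(1,4),(0,2)],
    [(2,3),(3,4),(0,2),(0,2),(1,1),(0,3),(0,1),(0,3),(0,3),(0,4),(0,3),(0,1),(0,3),(0,4),(0,1),(2,2),(0,2),(0,2),(0,1),(0,2)],
    [(0,3),(0,2),(2,1),(0,3),(0,2),(0,4),(1,2),(1,4),(0,3),(0,3),(0,1),(1,3),(1,2),(3,1),(0,3),(2,2),(0,2)],
    [(2,3),(1,3),(1,4),(0,2),(1,1),(0,2),(1,2),(0,4),(0,4),(0,3),(1,4),(0,2),(0,1),(0,2),(0,4),(0,4),(0,2),(0,1),(1,1)]]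

/-- A letter. -/
def mat21 : List (List (ℕ × ℕ)) := [
    [(0,3),(0,2),(0,1),(0,4),(0,4),(0,1),(0,3),(0,2),(1,4),(0,2),(0,4),(0,2),(0,4),(0,1),(0,4),(0,2),(0,3),(0,4),(0,3),(0,2),(0,2),(1,3),(0,4),(1,4),(0,1)],
    [(0,4),(0,2),(0,1),(0,4),(1,3),(0,4),(0,3),(0,2),(0,1),(0,1),(0,4),(0,3),(0,4),(0,2),(0,2),(0,3),(1,4),(1,2),(0,1),(0,1),(0,1),(1,3),(0,2),(0,4)],
    [(2,4),(1,3),(0,1),(0,4),(1,4),(0,3),(0,1),(0,2),(0,3),(0,1),(0,2),(0,4),(0,2),(0,1),(0,3),(0,3),(0,2),(0,3),(0,3),(0,2),(0,4),(1,2)],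
    [(0,2),(0,2),(0,2),(0,1),(0,2),(0,2),(0,1),(0,2),(0,2),(0,1),(0,3),(0,3),(0,3),(0,2),(0,1),(0,2),(0,2),(1,2),(0,2),(0,3),(1,3),(1,1),(0,2),(0,4)],
    [(1,4),(2,2),(1,3),(0,1),(0,2),(0,1),(0,2),(1,4),(0,3),(0,4),(0,4),(0,2),(0,2),(0,1),(0,3),(0,2),(0,1),(0,1),(0,4)],
    [(0,2),(0,1),(0,3),(0,2),(0,2),(0,3),(0,4),(0,4),(0,2),(0,1),(0,1),(0,1),(0,4),(0,1),(0,3),(0,2),(0,1),(0,1),(0,4),(0,3),(0,3),(0,3),(0,2),(0,4),(0,3),(0,1),(1,1)],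
    [(0,2),(0,1),(0,3),(0,2),(1,4),(0,1),(0,3),(0,1),(0,4),(0,2),(0,1),(0,3),(0,1),(0,3),(1,2),(0,4),(0,2),(0,4),(0,2),(0,3),(2,4),(0,2),(0,1)],
    [(0,4),(1,3),(0,4),(0,2),(0,1),(0,2),(0,4),(0,2),(0,3),(0,1),(1,4),(0,3),(0,2),(0,1),(0,4),(0,1),(0,2),(0,1),(0,2),(0,2),(0,2),(0,2),(1,3),(0,2)],
    [(0,3),(0,4),(0,2),(0,3),(0,2),(0,4),(0,2),(0,3),(3,4),(1,1),(0,2),(1,4),(0,3),(0,4),(0,3),(0,3),(0,2),(0,2),(0,1),(0,1),(0,4),(0,2),(0,3)],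
    [(2,3),(1,2),(0,1),(0,1),(2,3),(0,3),(0,2),(1,2),(0,3),(0,4),(0,2),(0,3),(0,4),(0,3),(0,1),(2,3),(0,2),(0,4),(0,3),(0,3)],
    [(4,4),(0,3),(0,2),(0,1),(2,1),(1,3),(0,4),(0,2),(0,4),(1,1),(0,1),(0,1),(0,3),(0,3),(0,1),(0,2),(0,3),(0,4),(0,3),(0,1)],
    [(0,2),(0,1),(1,2),(0,1),(0,1),(0,3),(0,4),(1,3),(0,2),(0,4),(0,3),(0,4),(0,3),(2,2),(0,1),(0,2),(0,4),(0,3),(0,1),(0,4),(0,4),(0,1),(0,3),(0,2)],
    [(0,2),(1,1),(0,2),(0,4),(0,1),(0,4),(0,2),(0,2),(0,2),(0,4),(0,4),(0,4),(0,4),(0,4),(0,3),(0,1),(0,1),(0,4),(2,4),(0,4),(0,2),(0,2),(0,4),(0,3)],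
    [(1,1),(0,2),(1,1),(0,2),(0,4),(0,2),(0,3),(1,1),(0,2),(0,3),(0,3),(1,4),(1,2),(0,3),(0,4),(0,4),(0,4),(0,1),(0,2),(0,2),(1,1),(0,4)],
    [(0,2),(0,1),(0,3),(0,2),(0,4),(0,2),(1,4),(0,3),(0,3),(0,3),(0,3),(0,1),(1,4),(0,3),(1,1),(0,1),(2,1),(0,1),(0,1),(0,1),(1,1),(0,2)],
    [(0,4),(0,2),(0,4),(0,4),(1,1),(0,1),(0,4),(0,2),(0,2),(0,3),(0,1),(0,2),(0,4),(0,1),(1,1),(0,3),(1,1),(0,4),(0,3),(0,4),(0,3),(0,1),(0,1),(1,4)],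
    [(0,2),(0,1),(0,3),(0,2),(3,2),(0,3),(0,3),(0,1),(0,4),(0,2),(0,3),(0,1),(0,2),(0,4),(0,4),(0,3),(0,1),(0,1),(1,1),(0,1),(0,2),(0,4),(0,2),(0,3)],
    [(6,2),(0,3),(0,3),(0,1),(0,4),(0,3),(0,3),(0,4),(0,4),(0,2),(0,4),(0,1),(2,3),(0,3),(1,2),(0,1),(0,3),(0,4),(0,1)],
    [(0,2),(0,1),(1,2),(0,1),(0,1),(0,1),(0,2),(1,3),(0,4),(1,4),(0,1),(3,3),(0,2),(1,3),(0,1),(0,3),(0,2),(0,3),(0,2),(1,1)],
    [(8,2),(0,4),(1,3),(3,4),(0,4),(0,4),(0,3),(0,3),(0,2),(0,2),(2,3),(0,4),(1,1)],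
    [(0,3),(0,4),(0,1),(0,3),(0,3),(0,4),(0,3),(0,3),(3,1),(0,2),(0,4),(1,1),(0,1),(0,1),(0,1),(0,3),(0,4),(0,3),(0,2),(0,4),(0,4),(0,4),(0,1),(0,4)],
    [(0,3),(0,4),(0,3),(0,3),(0,2),(0,2),(0,4),(0,4),(0,3),(0,2),(0,3),(0,3),(0,2),(1,4),(0,1),(0,2),(0,2),(0,4),(0,3),(0,1),(0,2),(0,2),(0,3),(0,1),(0,4),(0,4),(0,3)],
    [(0,2),(0,1),(1,2),(0,3),(0,1),(3,3),(0,4),(0,3),(2,4),(0,3),(1,4),(0,3),(0,2),(0,1),(0,3),(0,4),(0,4),(0,2),(1,3),(0,1)],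
    [(0,1),(0,3),(0,2),(0,1),(0,1),(0,4),(0,3),(0,3),(2,4),(0,3),(0,1),(0,4),(0,2),(0,1),(0,1),(0,2),(1,3),(0,3),(1,3),(0,1),(0,3),(0,1),(0,1),(0,2)],
    [(4,4),(0,2),(0,2),(0,2),(2,2),(0,3),(0,4),(0,2),(0,4),(0,1),(0,1),(0,4),(0,2),(2,4),(0,1),(0,1),(1,2),(1,1)],
    [(0,2),(0,1),(0,1),(0,2),(1,1),(0,3),(0,2),(0,2),(1,4),(0,1),(0,4),(1,4),(0,2),(0,4),(0,3),(0,1),(0,3),(1,4),(0,4),(1,4),(0,4),(0,4)],
    [(4,1),(0,2),(0,3),(0,4),(2,3),(1,2),(0,1),(0,3),(0,1),(1,4),(0,4),(0,4),(0,2),(0,2),(0,4),(0,3),(0,2),(0,1),(0,1),(0,4)],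
    [(0,3),(0,4),(0,4),(0,3),(1,1),(0,1),(0,2),(0,3),(4,2),(1,1),(0,1),(0,3),(0,1),(0,1),(0,1),(0,1),(0,2),(0,2),(0,3),(2,1)]]

/-- The matrix of the involution. -/
def matWF : List (List (ℕ × ℕ)) := [
    [(0,3),(0,1),(0,2),(0,3),(0,3),(0,1),(0,4),(0,4),(0,1),(0,1),(0,2),(0,1),(0,4),(0,4),(0,3),(0,2),(0,1),(1,2),(0,4),(1,2),(0,4),(0,3),(0,4),(0,3),(1,1)],
    [(0,2),(0,2),(0,4),(0,2),(0,2),(0,2),(0,4),(1,4),(1,1),(0,3),(0,1),(0,3),(0,1),(0,2),(3,2),(0,1),(1,2),(1,2),(0,2),(0,1),(0,2)],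
    [(0,1),(0,2),(0,4),(0,3),(0,3),(0,4),(0,1),(1,4),(0,3),(0,2),(0,4),(0,4),(1,4),(1,1),(0,3),(2,3),(0,3),(0,1),(0,4),(0,3),(0,1),(1,1)],
    [(0,3),(0,2),(2,1),(0,4),(1,3),(0,3),(0,4),(0,3),(0,3),(0,4),(0,4),(0,1),(0,3),(1,4),(0,3),(0,4),(0,1),(0,1),(0,3),(0,4),(0,4),(0,2),(0,1),(0,4)],
    [(0,3),(1,2),(0,4),(0,4),(0,1),(0,3),(1,2),(0,1),(0,4),(0,2),(0,2),(0,3),(1,3),(1,4),(0,2),(0,3),(0,4),(0,3),(2,1),(1,4)],
    [(0,3),(0,3),(0,4),(0,4),(0,2),(0,1),(2,1),(0,2),(1,1),(0,4),(0,1),(0,4),(1,3),(0,4),(0,2),(0,3),(0,4),(0,1),(0,1),(1,3),(0,4),(0,4),(0,1)],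
    [(0,4),(0,4),(0,2),(2,2),(0,2),(0,2),(1,4),(1,4),(2,3),(0,3),(0,4),(0,4),(0,3),(0,1),(0,4),(0,4),(0,1),(0,2),(0,4),(1,1),(0,1)],
    [(0,1),(0,1),(1,2),(0,2),(0,1),(0,2),(0,3),(1,1),(0,3),(0,4),(1,2),(0,4),(0,2),(0,1),(0,1),(0,4),(2,4),(0,3),(0,3),(0,1),(0,1),(0,3),(0,4)],
    [(1,4),(0,4),(0,1),(0,2),(0,1),(0,3),(0,2),(0,3),(0,2),(0,3),(0,1),(0,4),(1,3),(0,2),(0,1),(2,4),(0,2),(0,1),(0,1),(0,1),(0,3),(0,2),(0,1)],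
    [(0,2),(0,4),(0,2),(0,3),(0,4),(0,2),(0,2),(0,2),(0,2),(1,4),(0,2),(0,4),(1,3),(0,3),(0,2),(0,1),(0,4),(1,3),(0,1),(0,1),(0,2),(0,4),(1,3),(0,2)],
    [(1,2),(0,4),(0,4),(0,2),(1,3),(1,2),(0,1),(0,3),(0,2),(0,1),(2,3),(0,3),(0,3),(0,1),(0,4),(0,2),(0,1),(0,3),(0,1),(0,4),(0,1),(1,1)],
    [(0,1),(2,4),(0,1),(1,2),(0,1),(0,4),(0,1),(0,2),(0,2),(0,1),(0,4),(0,3),(0,1),(0,3),(0,4),(2,4),(1,1),(0,2),(0,4),(0,3),(0,2)],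
    [(0,1),(1,3),(1,4),(0,2),(0,1),(1,1),(0,4),(0,2),(0,2),(0,3),(0,2),(0,3),(0,3),(0,3),(0,3),(0,1),(0,4),(0,4),(1,2),(0,4),(0,1),(0,2),(1,4)],
    [(0,1),(0,4),(0,2),(0,2),(0,1),(0,1),(3,3),(0,4),(0,4),(0,4),(0,4),(0,1),(0,4),(0,3),(0,1),(0,1),(0,3),(1,3),(0,1),(1,3),(1,4),(0,2)],
    [(1,1),(0,3),(0,2),(0,4),(0,1),(1,1),(2,2),(1,1),(0,4),(3,4),(0,2),(0,4),(1,2),(0,2),(0,4),(0,3),(0,2),(0,2),(0,2)],
    [(3,2),(0,4),(0,3),(0,2),(0,4),(0,1),(0,3),(0,2),(0,3),(6,2),(0,4),(2,3),(1,3),(0,4),(0,3),(0,1)],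
    [(0,2),(0,2),(0,2),(0,2),(0,4),(0,3),(0,2),(0,2),(0,1),(0,4),(0,4),(0,4),(1,2),(0,1),(1,3),(0,3),(0,1),(1,2),(0,3),(3,4),(0,4),(0,3)],
    [(2,3),(0,3),(0,2),(0,3),(0,4),(1,2),(0,2),(0,2),(0,3),(1,1),(0,3),(0,3),(0,1),(0,4),(0,1),(0,4),(0,1),(0,1),(0,3),(0,1),(0,4),(0,1),(0,1),(0,1)],
    [(0,3),(0,1),(0,3),(0,3),(1,2),(0,3),(0,1),(0,2),(1,3),(0,1),(0,1),(1,4),(0,1),(0,2),(0,4),(1,1),(0,1),(0,4),(1,3),(0,1),(0,2),(0,3),(0,2)],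
    [(0,2),(0,1),(0,1),(0,2),(1,4),(0,4),(0,3),(0,3),(0,1),(0,1),(0,3),(1,3),(0,3),(0,3),(0,3),(0,3),(0,2),(0,3),(0,1),(1,3),(0,3),(0,1),(0,3)],
    [(0,4),(1,2),(1,2),(0,4),(0,4),(0,4),(0,4),(0,4),(0,2),(1,1),(0,4),(0,1),(1,2),(3,3),(0,2),(0,2),(0,4),(0,1),(2,2)],
    [(0,2),(1,2),(1,4),(1,1),(0,4),(0,2),(0,3),(0,4),(0,4),(0,2),(3,3),(0,4),(2,2),(0,1),(0,3),(0,1),(0,3),(0,4),(0,1),(0,4)],
    [(0,2),(0,4),(0,3),(1,1),(0,2),(0,4),(0,4),(1,3),(0,4),(0,4),(0,3),(0,1),(0,4),(0,1),(0,2),(0,2),(1,2),(0,1),(0,4),(0,2),(0,1),(0,2),(0,1),(0,2)],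
    [(0,4),(0,3),(0,4),(0,1),(0,2),(0,4),(0,1),(0,1),(0,4),(1,2),(0,4),(0,3),(0,3),(0,1),(0,3),(1,2),(3,1),(2,4),(0,4),(0,4)],
    [(0,2),(0,3),(2,3),(0,3),(0,4),(0,4),(0,4),(0,3),(1,2),(1,2),(0,2),(0,3),(0,2),(0,3),(1,1),(2,3),(0,1),(0,4),(0,4),(0,2),(0,1)],
    [(0,3),(0,2),(0,3),(0,4),(0,3),(1,1),(0,1),(3,2),(0,4),(0,3),(0,2),(0,1),(2,2),(0,1),(0,3),(0,4),(0,3),(1,4),(0,4),(0,1)],
    [(4,3),(1,1),(0,3),(0,3),(0,3),(0,3),(0,2),(0,1),(0,1),(0,3),(0,4),(0,3),(0,2),(0,1),(0,2),(2,4),(0,3),(1,1),(0,2),(0,2)],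
    [(0,4),(1,2),(0,4),(0,4),(1,2),(0,1),(0,1),(0,2),(0,3),(0,1),(0,1),(0,1),(0,3),(0,2),(3,4),(0,4),(0,2),(0,3),(0,3),(0,2),(0,2),(0,2)]]

/-- The letters. -/
def letters : List (List (List (ℕ × ℕ))) := [mat0, mat1, mat2, mat3, mat4, mat5, mat6, mat7, mat8, mat9, mat10, mat11, mat12, mat13, mat14, mat15, mat16, mat17, mat18, mat19, mat20, mat21]

/-- The words of the letters from the fourth on. -/
def defW : List (List ℕ) := [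
  [0,2,0,2,2,1,2,2,0,2,0,2,2,1,2,2],
  [1,4,0,4,1,4,0,4,1],
  [0,3,3,3,4,2,2,2,1,4,0,3,3,3,4,2,2,2,1,4,0,3,3,3],
  [6,6,5,6,5,6,6],
  [6,6,6,5,5,6],
  [5],
  [6,5,5,6,6,6],
  [5,5],
  [5,6,6,6,6,5],
  [5,5,6,6,5,6,5,5,6,5,6,6],
  [6,6,5,6,6,5,6,5,5,6],
  [6,5,5,5,6,5,6,5,6,5,6,5],
  [5,5,5,6,5,5,5,6,5,5,5,6,5,5,5,6,5,5,5,6],
  [5,6,6,6,5,6,5,6,6,5,5,6,6,5,6,6,6,5,6,5],
  [5,6,5,5,6,6,6,6,6,5,5,6,5,5,6,5,6,6,6,6],
  [5,5,5,6,6,6,5,6,6,6,6,5,5,5,6,5,6,6,5,5,6,6],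
  [5,6,5,6,5,5,6,5,6,6,5,5,5,6,5,6,6,5,6,6],
  [6,6,6,6,6,6,6,5,6,5,5,6,6,5,5,6,5,6]]

/-- The action of the nine letters on the elementary subgroup. -/
def mjT : List (List ℕ) := [[1,32,16,42,4,22], [1,38,62,50,52,4], [1,56,52,44,62,14], [1,42,50,32,38,22], [1,28,4,22,16,32], [1,2,26,8,14,32], [1,22,4,28,16,52], [1,8,26,2,14,42], [1,22,14,28,26,52]]

/-- The squares of the nine letters. -/
def sqJ : List ℕ := [11328,12480,16,704,0,5632,10240,30720,27648]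

/-- The conjugates of the later letters by each letter. -/
def cjT : List (List ℕ) := [[18890,31404,18376,5360,14880,17472,23680,32512], [28372,9928,24080,6880,23360,26496,18688], [18920,16,32480,3904,31104,28928], [28368,32,20032,29312,29952], [10784,13376,13440,18688], [17472,17536,17664], [20608,17664], [17664], []]

/-- Part of: Squares and actions of the coset representatives. -/
def sqT_0 : List (ℕ × List ℕ) := [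
  (0,[1,2,4,8,16,32]),
  (11328,[1,32,16,42,4,22]),
  (12480,[1,38,62,50,52,4]),
  (3464,[1,4,52,16,62,44]),
  (16,[1,56,52,44,62,14]),
  (24088,[1,14,62,26,52,50]),
  (0,[1,2,16,8,4,52]),
  (10240,[1,52,4,62,16,22]),
  (704,[1,42,50,32,38,22]),
  (2368,[1,22,38,28,50,62]),
  (10432,[1,14,8,26,2,50]),
  (10824,[1,50,2,38,8,4]),
  (16176,[1,16,2,4,8,56]),
  (16632,[1,56,8,44,2,26]),
  (18400,[1,42,38,32,50,2]),
  (14880,[1,2,50,8,38,62]),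
  (0,[1,28,4,22,16,32]),
  (32416,[1,32,16,42,4,8]),
  (28352,[1,56,62,44,52,4]),
  (19368,[1,4,52,16,62,50]),
  (16,[1,38,52,50,62,14]),
  (26680,[1,14,62,26,52,44]),
  (24064,[1,28,16,22,4,52]),
  (1248,[1,52,4,62,16,8]),
  (27648,[1,42,44,32,56,8]),
  (22880,[1,8,56,2,44,62]),
  (6144,[1,14,22,26,28,44]),
  (28328,[1,44,28,56,22,4]),
  (20976,[1,16,28,4,22,38]),
  (24088,[1,38,22,50,28,26]),
  (30496,[1,42,56,32,44,28]),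
  (512,[1,28,44,22,56,62]),
  (5632,[1,2,26,8,14,32]),
  (64,[1,32,14,42,26,22]),
  (0,[1,56,62,44,52,26]),
  (23368,[1,26,52,14,62,50]),
  (26832,[1,38,52,50,62,16]),
  (17624,[1,16,62,4,52,44]),
  (11264,[1,2,14,8,26,52]),
  (15872,[1,52,26,62,14,22]),
  (5312,[1,42,44,32,56,22]),
  (30016,[1,22,56,28,44,62]),
  (9216,[1,16,8,4,2,44]),
  (4232,[1,44,2,56,8,26]),
  (15344,[1,14,2,26,8,38]),
  (23096,[1,38,8,50,2,4]),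
  (15328,[1,42,56,32,44,2]),
  (11296,[1,2,44,8,56,62]),
  (15360,[1,28,26,22,14,32]),
  (17568,[1,32,14,42,26,8]),
  (29696,[1,38,62,50,52,26]),
  (2920,[1,26,52,14,62,44]),
  (32464,[1,56,52,44,62,16]),
  (25848,[1,16,62,4,52,50]),
  (25600,[1,28,14,22,26,52]),
  (14560,[1,52,26,62,14,8]),
  (20480,[1,42,50,32,38,8]),
  (3936,[1,8,38,2,50,62]),
  (16064,[1,16,22,4,28,50]),
  (32360,[1,50,28,38,22,26]),
  (32560,[1,14,28,26,22,56]),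
  (21208,[1,56,22,44,28,4]),
  (8480,[1,42,38,32,50,28]),
  (15872,[1,28,50,22,38,62]),
  (10240,[1,22,4,28,16,52]),
  (16448,[1,52,16,62,4,2]),
  (15296,[1,38,42,50,32,4]),
  (11912,[1,4,32,16,42,44]),
  (19216,[1,56,32,44,42,14]),
  (17688,[1,14,42,26,32,50]),
  (10240,[1,22,16,28,4,32]),
  (27648,[1,32,4,42,16,2]),
  (25792,[1,62,50,52,38,2]),
  (5952,[1,2,38,8,50,42]),
  (18880,[1,14,28,26,22,50]),
  (13128,[1,50,22,38,28,4]),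
  (8752,[1,16,22,4,28,56]),
  (18936,[1,56,28,44,22,26]),
  (8672,[1,62,38,52,50,22]),
  (3104,[1,22,50,28,38,42]),
  (7168,[1,8,4,2,16,52]),
  (6816,[1,52,16,62,4,28]),
  (9664,[1,56,42,44,32,4]),
  (10408,[1,4,32,16,42,50]),
  (14096,[1,38,32,50,42,14]),
  (10040,[1,14,42,26,32,44]),
  (16896,[1,8,16,2,4,32]),
  (18656,[1,32,4,42,16,28]),
  (512,[1,62,44,52,56,28]),
  (29536,[1,28,56,22,44,42]),
  (14592,[1,14,2,26,8,44]),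
  (14248,[1,44,8,56,2,4]),
  (3312,[1,16,8,4,2,38]),
  (16152,[1,38,2,50,8,26]),
  (6432,[1,62,56,52,44,8]),
  (0,[1,8,44,2,56,42]),
  (31232,[1,22,26,28,14,52]),
  (10304,[1,52,14,62,26,2]),
  (2816,[1,56,42,44,32,26]),
  (27720,[1,26,32,14,42,50]),
  (14288,[1,38,32,50,42,16]),
  (24536,[1,16,42,4,32,44]),
  (16384,[1,22,14,28,26,32]),
  (15872,[1,32,26,42,14,2]),
  (2752,[1,62,44,52,56,2]),
  (4928,[1,2,56,8,44,42]),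
  (17664,[1,16,28,4,22,44]),
  (7560,[1,44,22,56,28,26]),
  (13040,[1,14,22,26,28,38]),
  (21304,[1,38,28,50,22,4]),
  (9696,[1,62,56,52,44,22]),
  (25120,[1,22,44,28,56,42]),
  (22528,[1,8,26,2,14,52]),
  (22688,[1,52,14,62,26,28]),
  (16128,[1,38,42,50,32,26]),
  (31848,[1,26,32,14,42,44]),
  (24016,[1,56,32,44,42,16]),
  (11256,[1,16,42,4,32,50]),
  (0,[1,8,14,2,26,32]),
  (3296,[1,32,26,42,14,28]),
  (31232,[1,62,50,52,38,28]),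
  (24928,[1,28,38,22,50,42]),
  (8128,[1,16,2,4,8,50]),
  (13160,[1,50,8,38,2,26]),
  (13872,[1,14,8,26,2,56]),
  (13272,[1,56,2,44,8,4]),
  (2848,[1,62,38,52,50,8]),
  (30720,[1,8,50,2,38,42])]

/-- Part of: Squares and actions of the coset representatives. -/
def sqT_1 : List (ℕ × List ℕ) := [
  (30720,[1,8,26,2,14,42]),
  (8256,[1,42,14,32,26,28]),
  (27584,[1,56,52,44,62,26]),
  (20104,[1,26,62,14,52,50]),
  (17680,[1,38,62,50,52,16]),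
  (21272,[1,16,52,4,62,44]),
  (9728,[1,8,14,2,26,62]),
  (31232,[1,62,26,52,14,28]),
  (13504,[1,32,44,42,56,28]),
  (19264,[1,28,56,22,44,52]),
  (6592,[1,16,2,4,8,44]),
  (28488,[1,44,8,56,2,26]),
  (11312,[1,14,8,26,2,38]),
  (25592,[1,38,2,50,8,4]),
  (12256,[1,32,56,42,44,8]),
  (9760,[1,8,44,2,56,52]),
  (28672,[1,22,26,28,14,42]),
  (31392,[1,42,14,32,26,2]),
  (18880,[1,38,52,50,62,26]),
  (18600,[1,26,62,14,52,44]),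
  (1296,[1,56,62,44,52,16]),
  (12600,[1,16,52,4,62,50]),
  (28672,[1,22,14,28,26,62]),
  (24288,[1,62,26,52,14,2]),
  (28160,[1,32,50,42,38,2]),
  (12128,[1,2,38,8,50,52]),
  (21760,[1,16,28,4,22,50]),
  (27560,[1,50,22,38,28,26]),
  (16112,[1,14,22,26,28,56]),
  (5400,[1,56,28,44,22,4]),
  (11040,[1,32,38,42,50,22]),
  (10752,[1,22,50,28,38,52]),
  (10752,[1,8,4,2,16,42]),
  (29760,[1,42,16,32,4,28]),
  (23296,[1,38,52,50,62,4]),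
  (12360,[1,4,62,16,52,44]),
  (1488,[1,56,62,44,52,14]),
  (18904,[1,14,52,26,62,50]),
  (29184,[1,8,16,2,4,62]),
  (10240,[1,62,4,52,16,28]),
  (23232,[1,32,50,42,38,28]),
  (29504,[1,28,38,22,50,52]),
  (5376,[1,14,2,26,8,50]),
  (32136,[1,50,8,38,2,4]),
  (240,[1,16,8,4,2,56]),
  (31032,[1,56,2,44,8,26]),
  (6112,[1,32,38,42,50,8]),
  (18464,[1,8,50,2,38,52]),
  (13312,[1,22,4,28,16,42]),
  (1184,[1,42,16,32,4,2]),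
  (21248,[1,56,52,44,62,4]),
  (8296,[1,4,62,16,52,50]),
  (21456,[1,38,62,50,52,14]),
  (15864,[1,14,52,26,62,44]),
  (3584,[1,22,16,28,4,62]),
  (6880,[1,62,4,52,16,2]),
  (5632,[1,32,44,42,56,2]),
  (352,[1,2,56,8,44,52]),
  (29632,[1,14,28,26,22,44]),
  (21352,[1,44,22,56,28,4]),
  (14384,[1,16,22,4,28,38]),
  (6616,[1,38,28,50,22,26]),
  (1312,[1,32,56,42,44,22]),
  (20992,[1,22,44,28,56,52]),
  (0,[1,28,26,22,14,62]),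
  (13376,[1,62,14,52,26,8]),
  (3264,[1,56,32,44,42,26]),
  (10632,[1,26,42,14,32,50]),
  (18960,[1,38,42,50,32,16]),
  (9240,[1,16,32,4,42,44]),
  (30208,[1,28,14,22,26,42]),
  (28160,[1,42,26,32,14,8]),
  (704,[1,52,44,62,56,8]),
  (11584,[1,8,56,2,44,32]),
  (5312,[1,16,22,4,28,44]),
  (12872,[1,44,28,56,22,26]),
  (30000,[1,14,28,26,22,38]),
  (1784,[1,38,22,50,28,4]),
  (12768,[1,52,56,62,44,28]),
  (16416,[1,28,44,22,56,32]),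
  (15360,[1,2,26,8,14,62]),
  (26272,[1,62,14,52,26,22]),
  (28352,[1,38,32,50,42,26]),
  (28584,[1,26,42,14,32,44]),
  (30224,[1,56,42,44,32,16]),
  (4664,[1,16,32,4,42,50]),
  (5120,[1,2,14,8,26,42]),
  (17120,[1,42,26,32,14,22]),
  (20480,[1,52,50,62,38,22]),
  (32096,[1,22,38,28,50,32]),
  (6144,[1,16,8,4,2,50]),
  (30376,[1,50,2,38,8,26]),
  (10224,[1,14,2,26,8,56]),
  (6168,[1,56,8,44,2,4]),
  (15648,[1,52,38,62,50,2]),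
  (30720,[1,2,50,8,38,32]),
  (5632,[1,28,4,22,16,62]),
  (9280,[1,62,16,52,4,8]),
  (15360,[1,38,32,50,42,4]),
  (17224,[1,4,42,16,32,44]),
  (7888,[1,56,42,44,32,14]),
  (16088,[1,14,32,26,42,50]),
  (26112,[1,28,16,22,4,42]),
  (30720,[1,42,4,32,16,8]),
  (5312,[1,52,50,62,38,8]),
  (27968,[1,8,38,2,50,32]),
  (6144,[1,14,22,26,28,50]),
  (13448,[1,50,28,38,22,4]),
  (19952,[1,16,28,4,22,56]),
  (7224,[1,56,22,44,28,26]),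
  (29152,[1,52,38,62,50,28]),
  (22048,[1,28,50,22,38,32]),
  (0,[1,2,4,8,16,62]),
  (24736,[1,62,16,52,4,22]),
  (29696,[1,56,32,44,42,4]),
  (4968,[1,4,42,16,32,50]),
  (13520,[1,38,42,50,32,14]),
  (7928,[1,14,32,26,42,44]),
  (4608,[1,2,16,8,4,42]),
  (32480,[1,42,4,32,16,22]),
  (27648,[1,52,44,62,56,22]),
  (5984,[1,22,56,28,44,32]),
  (16064,[1,14,8,26,2,44]),
  (23144,[1,44,2,56,8,4]),
  (13616,[1,16,2,4,8,38]),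
  (5336,[1,38,8,50,2,26]),
  (22304,[1,52,56,62,44,2]),
  (17408,[1,2,44,8,56,32])]

/-- Part of: Squares and actions of the coset representatives. -/
def sqT_2 : List (ℕ × List ℕ) := [
  (27648,[1,22,14,28,26,52]),
  (5696,[1,52,26,62,14,2]),
  (10432,[1,44,42,56,32,14]),
  (14216,[1,14,32,26,42,38]),
  (2064,[1,50,32,38,42,4]),
  (24600,[1,4,42,16,32,56]),
  (16384,[1,22,26,28,14,32]),
  (5632,[1,32,14,42,26,2]),
  (9920,[1,62,56,52,44,2]),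
  (5952,[1,2,44,8,56,42]),
  (30912,[1,4,28,16,22,56]),
  (13384,[1,56,22,44,28,14]),
  (12080,[1,26,22,14,28,50]),
  (2808,[1,50,28,38,22,16]),
  (8160,[1,62,44,52,56,22]),
  (28704,[1,22,56,28,44,42]),
  (6144,[1,8,14,2,26,52]),
  (12448,[1,52,26,62,14,28]),
  (704,[1,50,42,38,32,14]),
  (1448,[1,14,32,26,42,56]),
  (16400,[1,44,32,56,42,4]),
  (7736,[1,4,42,16,32,38]),
  (22016,[1,8,26,2,14,32]),
  (29408,[1,32,14,42,26,28]),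
  (15360,[1,62,38,52,50,28]),
  (3936,[1,28,50,22,38,42]),
  (15360,[1,4,2,16,8,38]),
  (14504,[1,38,8,50,2,14]),
  (13808,[1,26,8,14,2,44]),
  (23576,[1,44,2,56,8,16]),
  (23328,[1,62,50,52,38,8]),
  (0,[1,8,38,2,50,42]),
  (15872,[1,22,16,28,4,52]),
  (32320,[1,52,4,62,16,2]),
  (24576,[1,50,42,38,32,16]),
  (9544,[1,16,32,4,42,56]),
  (6352,[1,44,32,56,42,26]),
  (16088,[1,26,42,14,32,38]),
  (10240,[1,22,4,28,16,32]),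
  (17408,[1,32,16,42,4,2]),
  (18624,[1,62,38,52,50,2]),
  (4928,[1,2,50,8,38,42]),
  (12288,[1,26,28,14,22,38]),
  (30344,[1,38,22,50,28,16]),
  (28656,[1,4,22,16,28,44]),
  (26680,[1,44,28,56,22,14]),
  (7136,[1,62,50,52,38,22]),
  (7712,[1,22,38,28,50,42]),
  (23552,[1,8,16,2,4,52]),
  (29344,[1,52,4,62,16,28]),
  (23552,[1,44,42,56,32,16]),
  (15720,[1,16,32,4,42,38]),
  (31440,[1,50,32,38,42,26]),
  (27384,[1,26,42,14,32,56]),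
  (5120,[1,8,4,2,16,32]),
  (14048,[1,32,16,42,4,28]),
  (17408,[1,62,56,52,44,28]),
  (7520,[1,28,44,22,56,42]),
  (25280,[1,26,2,14,8,56]),
  (27752,[1,56,8,44,2,16]),
  (25392,[1,4,8,16,2,50]),
  (5336,[1,50,2,38,8,14]),
  (18720,[1,62,44,52,56,8]),
  (30720,[1,8,56,2,44,42]),
  (0,[1,2,14,8,26,32]),
  (5696,[1,32,26,42,14,22]),
  (20416,[1,44,62,56,52,14]),
  (30856,[1,14,52,26,62,38]),
  (1808,[1,50,52,38,62,4]),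
  (16152,[1,4,62,16,52,56]),
  (1024,[1,2,26,8,14,52]),
  (5632,[1,52,14,62,26,22]),
  (11456,[1,42,56,32,44,22]),
  (19776,[1,22,44,28,56,62]),
  (24000,[1,4,8,16,2,56]),
  (26952,[1,56,2,44,8,14]),
  (24112,[1,26,2,14,8,50]),
  (28664,[1,50,8,38,2,16]),
  (15840,[1,42,44,32,56,2]),
  (10784,[1,2,56,8,44,62]),
  (26624,[1,28,14,22,26,32]),
  (4256,[1,32,26,42,14,8]),
  (3520,[1,50,62,38,52,14]),
  (8872,[1,14,52,26,62,56]),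
  (6928,[1,44,52,56,62,4]),
  (15672,[1,4,62,16,52,38]),
  (3584,[1,28,26,22,14,52]),
  (21216,[1,52,14,62,26,8]),
  (5632,[1,42,38,32,50,8]),
  (18784,[1,8,50,2,38,62]),
  (28928,[1,4,22,16,28,38]),
  (3496,[1,38,28,50,22,14]),
  (11504,[1,26,28,14,22,44]),
  (31000,[1,44,22,56,28,16]),
  (22816,[1,42,50,32,38,28]),
  (17920,[1,28,38,22,50,62]),
  (5632,[1,2,16,8,4,32]),
  (14912,[1,32,4,42,16,22]),
  (1792,[1,50,62,38,52,16]),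
  (32328,[1,16,52,4,62,56]),
  (976,[1,44,52,56,62,26]),
  (25048,[1,26,62,14,52,38]),
  (10240,[1,2,4,8,16,52]),
  (0,[1,52,16,62,4,22]),
  (15040,[1,42,38,32,50,22]),
  (12608,[1,22,50,28,38,62]),
  (5376,[1,26,8,14,2,38]),
  (16264,[1,38,2,50,8,16]),
  (2800,[1,4,2,16,8,44]),
  (3384,[1,44,8,56,2,14]),
  (16864,[1,42,50,32,38,2]),
  (15392,[1,2,38,8,50,62]),
  (21504,[1,28,16,22,4,32]),
  (10912,[1,32,4,42,16,8]),
  (21248,[1,44,62,56,52,16]),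
  (3688,[1,16,52,4,62,38]),
  (13776,[1,50,52,38,62,26]),
  (18936,[1,26,62,14,52,56]),
  (13312,[1,28,4,22,16,52]),
  (28384,[1,52,16,62,4,8]),
  (10752,[1,42,56,32,44,8]),
  (8032,[1,8,44,2,56,62]),
  (12224,[1,26,22,14,28,56]),
  (19816,[1,56,28,44,22,16]),
  (28208,[1,4,28,16,22,50]),
  (12760,[1,50,22,38,28,14]),
  (3872,[1,42,44,32,56,28]),
  (31232,[1,28,56,22,44,62])]

/-- Part of: Squares and actions of the coset representatives. -/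
def sqT_3 : List (ℕ × List ℕ) := [
  (20480,[1,28,16,22,4,62]),
  (19008,[1,62,4,52,16,8]),
  (8128,[1,50,32,38,42,16]),
  (9352,[1,16,42,4,32,56]),
  (13584,[1,44,42,56,32,26]),
  (10520,[1,26,32,14,42,38]),
  (13824,[1,28,4,22,16,42]),
  (0,[1,42,16,32,4,8]),
  (31936,[1,52,38,62,50,8]),
  (11584,[1,8,50,2,38,32]),
  (3520,[1,26,22,14,28,38]),
  (2376,[1,38,28,50,22,16]),
  (27696,[1,4,28,16,22,44]),
  (17912,[1,44,22,56,28,14]),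
  (4064,[1,52,50,62,38,28]),
  (32,[1,28,38,22,50,32]),
  (1024,[1,2,16,8,4,62]),
  (19616,[1,62,4,52,16,22]),
  (25024,[1,44,32,56,42,16]),
  (32424,[1,16,42,4,32,38]),
  (5392,[1,50,42,38,32,26]),
  (11064,[1,26,32,14,42,56]),
  (0,[1,2,4,8,16,42]),
  (17632,[1,42,16,32,4,22]),
  (31232,[1,52,56,62,44,22]),
  (10592,[1,22,44,28,56,32]),
  (7424,[1,26,8,14,2,56]),
  (28072,[1,56,2,44,8,16]),
  (8944,[1,4,2,16,8,50]),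
  (21272,[1,50,8,38,2,14]),
  (22304,[1,52,44,62,56,2]),
  (27648,[1,2,56,8,44,32]),
  (17920,[1,28,14,22,26,62]),
  (23104,[1,62,26,52,14,8]),
  (22272,[1,44,32,56,42,14]),
  (7752,[1,14,42,26,32,38]),
  (3536,[1,50,42,38,32,4]),
  (30680,[1,4,32,16,42,56]),
  (9728,[1,28,26,22,14,42]),
  (5632,[1,42,14,32,26,8]),
  (27328,[1,52,56,62,44,8]),
  (27968,[1,8,44,2,56,32]),
  (17664,[1,4,22,16,28,56]),
  (25480,[1,56,28,44,22,14]),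
  (1264,[1,26,28,14,22,50]),
  (10040,[1,50,22,38,28,16]),
  (20448,[1,52,44,62,56,28]),
  (5664,[1,28,56,22,44,32]),
  (14336,[1,2,14,8,26,62]),
  (19104,[1,62,26,52,14,22]),
  (16128,[1,50,32,38,42,14]),
  (28264,[1,14,42,26,32,56]),
  (2000,[1,44,42,56,32,4]),
  (24568,[1,4,32,16,42,38]),
  (1536,[1,2,26,8,14,42]),
  (30944,[1,42,14,32,26,22]),
  (17920,[1,52,38,62,50,22]),
  (17248,[1,22,50,28,38,32]),
  (17344,[1,4,8,16,2,38]),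
  (4456,[1,38,2,50,8,14]),
  (23600,[1,26,2,14,8,44]),
  (7128,[1,44,8,56,2,16]),
  (15648,[1,52,50,62,38,2]),
  (20480,[1,2,38,8,50,32]),
  (27648,[1,8,16,2,4,42]),
  (12864,[1,42,4,32,16,28]),
  (5312,[1,50,52,38,62,16]),
  (12168,[1,16,62,4,52,56]),
  (32272,[1,44,62,56,52,26]),
  (6680,[1,26,52,14,62,38]),
  (2560,[1,8,4,2,16,62]),
  (20480,[1,62,16,52,4,28]),
  (9920,[1,32,38,42,50,28]),
  (3904,[1,28,50,22,38,52]),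
  (17600,[1,26,2,14,8,38]),
  (4168,[1,38,8,50,2,16]),
  (22832,[1,4,8,16,2,44]),
  (19704,[1,44,2,56,8,14]),
  (21984,[1,32,50,42,38,8]),
  (2592,[1,8,38,2,50,52]),
  (9216,[1,22,16,28,4,42]),
  (5280,[1,42,4,32,16,2]),
  (704,[1,44,52,56,62,16]),
  (7592,[1,16,62,4,52,38]),
  (2576,[1,50,62,38,52,26]),
  (25656,[1,26,52,14,62,56]),
  (8192,[1,22,4,28,16,62]),
  (13536,[1,62,16,52,4,2]),
  (0,[1,32,56,42,44,2]),
  (5984,[1,2,44,8,56,52]),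
  (15360,[1,26,28,14,22,56]),
  (7336,[1,56,22,44,28,16]),
  (32752,[1,4,22,16,28,50]),
  (6680,[1,50,28,38,22,14]),
  (11552,[1,32,44,42,56,22]),
  (31232,[1,22,56,28,44,52]),
  (15872,[1,8,14,2,26,42]),
  (26176,[1,42,26,32,14,28]),
  (23552,[1,44,52,56,62,14]),
  (328,[1,14,62,26,52,38]),
  (21200,[1,50,62,38,52,4]),
  (17624,[1,4,52,16,62,56]),
  (24064,[1,8,26,2,14,62]),
  (512,[1,62,14,52,26,28]),
  (18624,[1,32,56,42,44,28]),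
  (14144,[1,28,44,22,56,52]),
  (3072,[1,4,2,16,8,56]),
  (28296,[1,56,8,44,2,14]),
  (9712,[1,26,8,14,2,50]),
  (11832,[1,50,2,38,8,16]),
  (28128,[1,32,44,42,56,8]),
  (25632,[1,8,56,2,44,52]),
  (24576,[1,22,14,28,26,42]),
  (27296,[1,42,26,32,14,2]),
  (23552,[1,50,52,38,62,14]),
  (6504,[1,14,62,26,52,56]),
  (3280,[1,44,62,56,52,4]),
  (4344,[1,4,52,16,62,38]),
  (24064,[1,22,26,28,14,62]),
  (28896,[1,62,14,52,26,2]),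
  (30720,[1,32,38,42,50,2]),
  (14688,[1,2,50,8,38,52]),
  (25280,[1,4,28,16,22,38]),
  (29800,[1,38,22,50,28,14]),
  (5424,[1,26,22,14,28,44]),
  (21208,[1,44,28,56,22,16]),
  (800,[1,32,50,42,38,22]),
  (512,[1,22,38,28,50,52])]

/-- Squares and actions of the coset representatives. -/
def sqT : List (ℕ × List ℕ) := sqT_0 ++ sqT_1 ++ sqT_2 ++ sqT_3

/-- A separating row. -/
def sepRow : ℕ := 0

/-- The fusing words. -/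
def fusW : List (List ℕ) := [[6], [2], [0,6,3,5], [0,3,3], [0,6,2], [1,1,0,5,3,6,1]]

/-- Part of: The fusion forest of the involutions. -/
def edges_0 : List (ℕ × ℕ × ℕ × ℕ) := [
  (15360,0,40,0),
  (15872,0,40,0),
  (5872,15360,25,0),
  (10992,5872,100,32),
  (7922,15360,25,1),
  (27378,7922,100,2),
  (22258,7922,100,4),
  (8946,7922,100,6),
  (5360,15872,25,0),
  (10480,5360,100,32),
  (7410,15872,25,1),
  (26866,7410,100,2),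
  (21746,7410,100,4),
  (8434,7410,100,6),
  (2576,5872,0,0),
  (13840,2576,100,2),
  (28208,5872,1,0),
  (21040,28208,100,2),
  (8752,5872,2,0),
  (7728,8752,100,2),
  (30768,5872,3,0),
  (17456,30768,100,2),
  (240,5872,4,0),
  (15600,240,100,32),
  (14064,5872,6,0),
  (2800,14064,100,32),
  (9968,5872,8,0),
  (6896,9968,100,32),
  (24346,5872,20,0),
  (21274,24346,100,2),
  (28442,24346,100,8),
  (25370,24346,100,10),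
  (1514,5872,20,1),
  (2538,1514,100,2),
  (13802,1514,100,8),
  (14826,1514,100,10),
  (6106,7922,0,0),
  (10202,6106,100,2),
  (7130,6106,100,8),
  (11226,6106,100,10),
  (4658,7922,1,0),
  (23090,4658,100,2),
  (26162,4658,100,4),
  (11826,4658,100,6),
  (9442,7922,2,0),
  (27874,9442,100,2),
  (20706,9442,100,8),
  (6370,9442,100,10),
  (1778,7922,3,0),
  (29426,1778,100,2),
  (20210,1778,100,4),
  (15090,1778,100,6),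
  (11762,7922,6,0),
  (19954,11762,100,2),
  (29170,11762,100,8),
  (4594,11762,100,10),
  (27178,7922,20,0),
  (20010,27178,100,2),
  (29226,27178,100,4),
  (22058,27178,100,6),
  (27856,7922,20,1),
  (20688,27856,100,4),
  (14890,27378,20,0),
  (7722,14890,100,2),
  (8746,14890,100,4),
  (1578,14890,100,6),
  (10256,27378,20,1),
  (5136,10256,100,2),
  (2064,5360,0,0),
  (13328,2064,100,2),
  (27696,5360,1,0),
  (20528,27696,100,2),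
  (8240,5360,2,0),
  (7216,8240,100,2),
  (31280,5360,3,0),
  (17968,31280,100,2),
  (752,5360,4,0),
  (16112,752,100,32),
  (13552,5360,6,0),
  (2288,13552,100,32),
  (9456,5360,8,0),
  (6384,9456,100,32),
  (23834,5360,20,0),
  (20762,23834,100,2),
  (27930,23834,100,8),
  (24858,23834,100,10),
  (2026,5360,20,1),
  (3050,2026,100,2),
  (14314,2026,100,8),
  (15338,2026,100,10),
  (5594,7410,0,0),
  (9690,5594,100,2),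
  (6618,5594,100,8),
  (10714,5594,100,10),
  (4146,7410,1,0),
  (22578,4146,100,2),
  (25650,4146,100,4),
  (11314,4146,100,6),
  (9954,7410,2,0),
  (28386,9954,100,2)]

/-- Part of: The fusion forest of the involutions. -/
def edges_1 : List (ℕ × ℕ × ℕ × ℕ) := [
  (21218,9954,100,8),
  (6882,9954,100,10),
  (1266,7410,3,0),
  (28914,1266,100,2),
  (19698,1266,100,4),
  (14578,1266,100,6),
  (12274,7410,6,0),
  (20466,12274,100,2),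
  (29682,12274,100,8),
  (5106,12274,100,10),
  (26666,7410,20,0),
  (19498,26666,100,2),
  (28714,26666,100,4),
  (21546,26666,100,6),
  (28368,7410,20,1),
  (21200,28368,100,4),
  (14378,26866,20,0),
  (7210,14378,100,2),
  (8234,14378,100,4),
  (1066,14378,100,6),
  (10768,26866,20,1),
  (5648,10768,100,2),
  (8208,2576,1,0),
  (7184,8208,100,2),
  (27152,2576,2,0),
  (22032,27152,100,2),
  (2256,2576,3,0),
  (13520,2256,100,4),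
  (15888,2576,6,0),
  (528,15888,100,2),
  (3864,2576,20,0),
  (30488,3864,100,2),
  (19224,3864,100,4),
  (13080,3864,100,6),
  (22818,2576,20,1),
  (14626,22818,100,2),
  (1314,22818,100,4),
  (25890,22818,100,6),
  (32464,28208,0,0),
  (17104,32464,100,4),
  (1264,28208,2,0),
  (14576,1264,100,32),
  (24112,28208,8,0),
  (25136,24112,100,2),
  (5914,28208,20,0),
  (6938,5914,100,2),
  (10010,5914,100,8),
  (11034,5914,100,10),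
  (27434,28208,20,1),
  (23338,27434,100,2),
  (26410,27434,100,8),
  (22314,27434,100,10),
  (13008,8752,0,0),
  (3792,13008,100,4),
  (4848,8752,1,0),
  (12016,4848,100,32),
  (8432,8752,3,0),
  (7408,8432,100,32),
  (2096,8752,4,0),
  (13360,2096,100,2),
  (1584,8752,8,0),
  (14896,1584,100,2),
  (26832,30768,0,0),
  (21712,26832,100,4),
  (18480,30768,8,0),
  (29744,18480,100,2),
  (27114,30768,20,1),
  (26090,27114,100,2),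
  (23018,27114,100,8),
  (21994,27114,100,10),
  (12528,240,8,0),
  (3312,12528,100,32),
  (21466,240,20,0),
  (25562,21466,100,2),
  (24538,21466,100,8),
  (28634,21466,100,10),
  (1834,240,20,1),
  (14122,1834,100,2),
  (2858,1834,100,8),
  (15146,1834,100,10),
  (31704,14064,25,1),
  (16344,31704,100,2),
  (984,31704,100,4),
  (18392,31704,100,6),
  (10022,6896,22,0),
  (3878,10022,100,2),
  (22834,24346,0,0),
  (1330,22834,100,2),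
  (14642,22834,100,8),
  (25906,22834,100,10),
  (26858,24346,2,0),
  (28906,26858,100,2),
  (19690,26858,100,4),
  (21738,26858,100,6),
  (16922,24346,6,0),
  (23066,16922,100,2),
  (26138,16922,100,4),
  (32282,16922,100,6),
  (31744,24346,20,0),
  (19456,21274,20,0)]

/-- Part of: The fusion forest of the involutions. -/
def edges_2 : List (ℕ × ℕ × ℕ × ℕ) := [
  (28672,28442,20,0),
  (16384,25370,20,0),
  (8482,1514,0,0),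
  (16674,8482,100,2),
  (32034,8482,100,4),
  (7458,8482,100,6),
  (22234,1514,2,0),
  (29402,22234,100,2),
  (20186,22234,100,4),
  (27354,22234,100,6),
  (8426,1514,6,0),
  (14570,8426,100,2),
  (1258,8426,100,4),
  (7402,8426,100,6),
  (11670,2538,25,0),
  (14742,11670,100,32),
  (18278,13802,25,0),
  (28518,18278,100,32),
  (14336,6106,20,0),
  (13312,10202,20,0),
  (2048,7130,20,0),
  (1024,11226,20,0),
  (18978,4658,2,0),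
  (15906,18978,100,2),
  (546,18978,100,8),
  (30242,18978,100,10),
  (13874,4658,3,0),
  (32306,13874,100,2),
  (16946,13874,100,4),
  (2610,13874,100,6),
  (18128,4658,20,1),
  (31440,18128,100,4),
  (6038,4658,25,0),
  (918,6038,100,32),
  (32102,11826,25,0),
  (21862,32102,100,32),
  (32738,9442,6,0),
  (9186,32738,100,2),
  (8162,32738,100,4),
  (17378,32738,100,6),
  (10466,9442,8,0),
  (24802,10466,100,2),
  (23778,10466,100,8),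
  (5346,10466,100,10),
  (13618,9442,20,0),
  (26930,13618,100,2),
  (21810,13618,100,8),
  (2354,13618,100,10),
  (8690,27874,20,1),
  (16882,8690,100,2),
  (32242,8690,100,8),
  (7666,8690,100,10),
  (24592,1778,20,1),
  (23568,24592,100,2),
  (9424,29426,20,1),
  (6352,9424,100,4),
  (26470,29426,25,0),
  (20326,26470,100,32),
  (3478,20210,25,0),
  (6550,3478,100,32),
  (26594,11762,2,0),
  (15330,26594,100,2),
  (2018,26594,100,4),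
  (23522,26594,100,6),
  (12834,11762,20,1),
  (17954,12834,100,2),
  (31266,12834,100,8),
  (3618,12834,100,10),
  (1080,27178,20,0),
  (21560,1080,100,2),
  (26680,1080,100,4),
  (14392,1080,100,6),
  (15096,20010,20,0),
  (22264,15096,100,2),
  (27384,15096,100,4),
  (1784,15096,100,6),
  (31808,7722,24,0),
  (21568,31808,100,2),
  (18960,10256,1,0),
  (30224,18960,100,2),
  (8720,2064,1,0),
  (7696,8720,100,2),
  (26640,2064,2,0),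
  (21520,26640,100,2),
  (2768,2064,3,0),
  (14032,2768,100,4),
  (15376,2064,6,0),
  (16,15376,100,2),
  (3352,2064,20,0),
  (29976,3352,100,2),
  (18712,3352,100,4),
  (12568,3352,100,6),
  (23330,2064,20,1),
  (15138,23330,100,2),
  (1826,23330,100,4),
  (26402,23330,100,6),
  (31952,27696,0,0),
  (16592,31952,100,4),
  (1776,27696,2,0),
  (15088,1776,100,32)]

/-- Part of: The fusion forest of the involutions. -/
def edges_3 : List (ℕ × ℕ × ℕ × ℕ) := [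
  (23600,27696,8,0),
  (24624,23600,100,2),
  (5402,27696,20,0),
  (6426,5402,100,2),
  (9498,5402,100,8),
  (10522,5402,100,10),
  (26922,27696,20,1),
  (22826,26922,100,2),
  (25898,26922,100,8),
  (21802,26922,100,10),
  (12496,8240,0,0),
  (3280,12496,100,4),
  (4336,8240,1,0),
  (11504,4336,100,32),
  (8944,8240,3,0),
  (7920,8944,100,32),
  (2608,8240,4,0),
  (13872,2608,100,2),
  (1072,8240,8,0),
  (14384,1072,100,2),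
  (27344,31280,0,0),
  (22224,27344,100,4),
  (18992,31280,8,0),
  (30256,18992,100,2),
  (27626,31280,20,1),
  (26602,27626,100,2),
  (23530,27626,100,8),
  (22506,27626,100,10),
  (13040,752,8,0),
  (3824,13040,100,32),
  (20954,752,20,0),
  (25050,20954,100,2),
  (24026,20954,100,8),
  (28122,20954,100,10),
  (1322,752,20,1),
  (13610,1322,100,2),
  (2346,1322,100,8),
  (14634,1322,100,10),
  (31192,13552,25,1),
  (15832,31192,100,2),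
  (472,31192,100,4),
  (17880,31192,100,6),
  (9510,6384,22,0),
  (3366,9510,100,2),
  (23346,23834,0,0),
  (1842,23346,100,2),
  (15154,23346,100,8),
  (26418,23346,100,10),
  (27370,23834,2,0),
  (29418,27370,100,2),
  (20202,27370,100,4),
  (22250,27370,100,6),
  (16410,23834,6,0),
  (22554,16410,100,2),
  (25626,16410,100,4),
  (31770,16410,100,6),
  (32256,23834,20,0),
  (19968,20762,20,0),
  (29184,27930,20,0),
  (16896,24858,20,0),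
  (8994,2026,0,0),
  (17186,8994,100,2),
  (32546,8994,100,4),
  (7970,8994,100,6),
  (21722,2026,2,0),
  (28890,21722,100,2),
  (19674,21722,100,4),
  (26842,21722,100,6),
  (8938,2026,6,0),
  (15082,8938,100,2),
  (1770,8938,100,4),
  (7914,8938,100,6),
  (12182,3050,25,0),
  (15254,12182,100,32),
  (17766,14314,25,0),
  (28006,17766,100,32),
  (14848,5594,20,0),
  (13824,9690,20,0),
  (2560,6618,20,0),
  (1536,10714,20,0),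
  (18466,4146,2,0),
  (15394,18466,100,2),
  (34,18466,100,8),
  (29730,18466,100,10),
  (13362,4146,3,0),
  (31794,13362,100,2),
  (16434,13362,100,4),
  (2098,13362,100,6),
  (17616,4146,20,1),
  (30928,17616,100,4),
  (5526,4146,25,0),
  (406,5526,100,32),
  (32614,11314,25,0),
  (22374,32614,100,32),
  (32226,9954,6,0),
  (8674,32226,100,2),
  (7650,32226,100,4),
  (16866,32226,100,6),
  (10978,9954,8,0),
  (25314,10978,100,2)]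

/-- Part of: The fusion forest of the involutions. -/
def edges_4 : List (ℕ × ℕ × ℕ × ℕ) := [
  (24290,10978,100,8),
  (5858,10978,100,10),
  (14130,9954,20,0),
  (27442,14130,100,2),
  (22322,14130,100,8),
  (2866,14130,100,10),
  (9202,28386,20,1),
  (17394,9202,100,2),
  (32754,9202,100,8),
  (8178,9202,100,10),
  (25104,1266,20,1),
  (24080,25104,100,2),
  (9936,28914,20,1),
  (6864,9936,100,4),
  (25958,28914,25,0),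
  (19814,25958,100,32),
  (3990,19698,25,0),
  (7062,3990,100,32),
  (26082,12274,2,0),
  (14818,26082,100,2),
  (1506,26082,100,4),
  (23010,26082,100,6),
  (12322,12274,20,1),
  (17442,12322,100,2),
  (30754,12322,100,8),
  (3106,12322,100,10),
  (1592,26666,20,0),
  (22072,1592,100,2),
  (27192,1592,100,4),
  (14904,1592,100,6),
  (14584,19498,20,0),
  (21752,14584,100,2),
  (26872,14584,100,4),
  (1272,14584,100,6),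
  (32320,7210,24,0),
  (22080,32320,100,2),
  (18448,10768,1,0),
  (29712,18448,100,2),
  (31760,8208,2,0),
  (16400,31760,100,2),
  (8912,8208,3,0),
  (7888,8912,100,4),
  (20952,27152,20,0),
  (5592,20952,100,2),
  (10712,20952,100,4),
  (28120,20952,100,6),
  (11312,2256,0,0),
  (4144,11312,100,2),
  (6424,2256,20,0),
  (24856,6424,100,2),
  (23832,6424,100,4),
  (9496,6424,100,6),
  (11832,3864,0,0),
  (32312,11832,100,2),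
  (16952,11832,100,4),
  (4664,11832,100,6),
  (4344,3864,2,0),
  (31992,4344,100,2),
  (16632,4344,100,4),
  (11512,4344,100,6),
  (1562,30488,20,0),
  (7706,1562,100,2),
  (8730,1562,100,4),
  (14874,1562,100,6),
  (2966,30488,25,0),
  (8086,2966,100,32),
  (24934,19224,25,0),
  (18790,24934,100,32),
  (4096,5914,20,0),
  (8192,6938,20,0),
  (7168,10010,20,0),
  (11264,11034,20,0),
  (24422,27434,25,0),
  (30566,24422,100,32),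
  (13718,22314,25,0),
  (8598,13718,100,32),
  (11994,27114,2,0),
  (2778,11994,100,2),
  (14042,11994,100,4),
  (4826,11994,100,6),
  (23744,3312,25,1),
  (24768,23744,100,2),
  (25600,21466,20,0),
  (26624,25562,20,0),
  (21504,24538,20,0),
  (22528,28634,20,0),
  (10038,10022,1,0),
  (13110,10038,100,2),
  (6454,10022,2,0),
  (3382,6454,100,2),
  (25094,10022,3,0),
  (18950,25094,100,4),
  (19750,10022,5,0),
  (25894,19750,100,2),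
  (31014,10022,7,0),
  (20774,31014,100,2),
  (29478,10022,8,0),
  (23334,29478,100,2),
  (21302,11670,0,0),
  (18230,21302,100,2)]

/-- Part of: The fusion forest of the involutions. -/
def edges_5 : List (ℕ × ℕ × ℕ × ℕ) := [
  (28230,11670,1,0),
  (17990,28230,100,2),
  (24646,11670,2,0),
  (18502,24646,100,2),
  (15478,11670,3,0),
  (10358,15478,100,2),
  (13206,11670,4,0),
  (10134,13206,100,32),
  (15766,11670,5,0),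
  (10646,15766,100,32),
  (1830,18278,0,0),
  (12070,1830,100,2),
  (28790,18278,1,0),
  (25718,28790,100,2),
  (12918,18278,2,0),
  (9846,12918,100,2),
  (13382,18278,3,0),
  (7238,13382,100,2),
  (17254,18278,8,0),
  (27494,17254,100,32),
  (9728,16946,25,0),
  (11574,6038,0,0),
  (14646,11574,100,2),
  (11846,6038,2,0),
  (1606,11846,100,2),
  (22134,6038,3,0),
  (17014,22134,100,2),
  (1942,6038,5,0),
  (5014,1942,100,32),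
  (630,32102,1,0),
  (5750,630,100,2),
  (31862,32102,2,0),
  (26742,31862,100,2),
  (24134,32102,3,0),
  (30278,24134,100,2),
  (20838,32102,8,0),
  (31078,20838,100,32),
  (4903,23778,21,0),
  (22311,4903,100,2),
  (15143,4903,100,4),
  (32551,4903,100,6),
  (6262,26470,1,0),
  (3190,6262,100,2),
  (20086,26470,2,0),
  (23158,20086,100,2),
  (30790,26470,3,0),
  (20550,30790,100,2),
  (23350,3478,0,0),
  (20278,23350,100,2),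
  (28480,31808,1,0),
  (31552,28480,100,4),
  (12096,31808,2,0),
  (15168,12096,100,4),
  (24128,31808,3,0),
  (30272,24128,100,2),
  (18496,31808,4,0),
  (24640,18496,100,2),
  (14400,31808,5,0),
  (4160,14400,100,2),
  (32272,8720,2,0),
  (16912,32272,100,2),
  (8400,8720,3,0),
  (7376,8400,100,4),
  (21464,26640,20,0),
  (6104,21464,100,2),
  (11224,21464,100,4),
  (28632,21464,100,6),
  (11824,2768,0,0),
  (4656,11824,100,2),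
  (6936,2768,20,0),
  (25368,6936,100,2),
  (24344,6936,100,4),
  (10008,6936,100,6),
  (11320,3352,0,0),
  (31800,11320,100,2),
  (16440,11320,100,4),
  (4152,11320,100,6),
  (4856,3352,2,0),
  (32504,4856,100,2),
  (17144,4856,100,4),
  (12024,4856,100,6),
  (1050,29976,20,0),
  (7194,1050,100,2),
  (8218,1050,100,4),
  (14362,1050,100,6),
  (2454,29976,25,0),
  (7574,2454,100,32),
  (25446,18712,25,0),
  (19302,25446,100,32),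
  (4608,5402,20,0),
  (8704,6426,20,0),
  (7680,9498,20,0),
  (11776,10522,20,0),
  (23910,26922,25,0),
  (30054,23910,100,32),
  (14230,21802,25,0),
  (9110,14230,100,32),
  (11482,27626,2,0),
  (2266,11482,100,2),
  (13530,11482,100,4)]

/-- Part of: The fusion forest of the involutions. -/
def edges_6 : List (ℕ × ℕ × ℕ × ℕ) := [
  (4314,11482,100,6),
  (24256,3824,25,1),
  (25280,24256,100,2),
  (26112,20954,20,0),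
  (27136,25050,20,0),
  (22016,24026,20,0),
  (23040,28122,20,0),
  (9526,9510,1,0),
  (12598,9526,100,2),
  (6966,9510,2,0),
  (3894,6966,100,2),
  (24582,9510,3,0),
  (18438,24582,100,4),
  (20262,9510,5,0),
  (26406,20262,100,2),
  (31526,9510,7,0),
  (21286,31526,100,2),
  (28966,9510,8,0),
  (22822,28966,100,2),
  (20790,12182,0,0),
  (17718,20790,100,2),
  (27718,12182,1,0),
  (17478,27718,100,2),
  (25158,12182,2,0),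
  (19014,25158,100,2),
  (15990,12182,3,0),
  (10870,15990,100,2),
  (12694,12182,4,0),
  (9622,12694,100,32),
  (16278,12182,5,0),
  (11158,16278,100,32),
  (1318,17766,0,0),
  (11558,1318,100,2),
  (29302,17766,1,0),
  (26230,29302,100,2),
  (12406,17766,2,0),
  (9334,12406,100,2),
  (13894,17766,3,0),
  (7750,13894,100,2),
  (16742,17766,8,0),
  (26982,16742,100,32),
  (9216,16434,25,0),
  (12086,5526,0,0),
  (15158,12086,100,2),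
  (11334,5526,2,0),
  (1094,11334,100,2),
  (21622,5526,3,0),
  (16502,21622,100,2),
  (1430,5526,5,0),
  (4502,1430,100,32),
  (118,32614,1,0),
  (5238,118,100,2),
  (32374,32614,2,0),
  (27254,32374,100,2),
  (23622,32614,3,0),
  (29766,23622,100,2),
  (21350,32614,8,0),
  (31590,21350,100,32),
  (4391,24290,21,0),
  (21799,4391,100,2),
  (14631,4391,100,4),
  (32039,4391,100,6),
  (6774,25958,1,0),
  (3702,6774,100,2),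
  (19574,25958,2,0),
  (22646,19574,100,2),
  (31302,25958,3,0),
  (21062,31302,100,2),
  (22838,3990,0,0),
  (19766,22838,100,2),
  (27968,32320,1,0),
  (31040,27968,100,4),
  (11584,32320,2,0),
  (14656,11584,100,4),
  (23616,32320,3,0),
  (29760,23616,100,2),
  (19008,32320,4,0),
  (25152,19008,100,2),
  (14912,32320,5,0),
  (4672,14912,100,2),
  (22886,24934,8,0),
  (29030,22886,100,32),
  (4166,24422,3,0),
  (14406,4166,100,2),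
  (192,23744,0,0),
  (15552,192,100,2),
  (5824,23744,2,0),
  (10944,5824,100,2),
  (9408,23744,6,0),
  (6336,9408,100,2),
  (19136,23744,20,0),
  (30400,19136,100,2),
  (25088,23744,20,1),
  (24064,24768,20,1),
  (6656,24768,25,0),
  (6438,10038,2,0),
  (12582,6438,100,2),
  (21206,10038,3,0),
  (18134,21206,100,4),
  (4918,10038,6,0)]

/-- Part of: The fusion forest of the involutions. -/
def edges_7 : List (ℕ × ℕ × ℕ × ℕ) := [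
  (1846,4918,100,2),
  (25910,10038,7,0),
  (28982,25910,100,2),
  (18214,6454,1,0),
  (28454,18214,100,2),
  (27862,6454,3,0),
  (30934,27862,100,4),
  (8774,25094,0,0),
  (2630,8774,100,2),
  (3286,25094,1,0),
  (6358,3286,100,4),
  (15366,25094,4,0),
  (5126,15366,100,4),
  (25606,25094,5,0),
  (19462,25606,100,4),
  (23046,25094,8,0),
  (29190,23046,100,4),
  (31030,31014,1,0),
  (27958,31030,100,2),
  (4390,31014,8,0),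
  (14630,4390,100,2),
  (9942,21302,3,0),
  (13014,9942,100,4),
  (1542,28230,0,0),
  (11782,1542,100,4),
  (13526,15478,0,0),
  (8406,13526,100,4),
  (20992,13206,25,1),
  (12992,10646,25,1),
  (3776,12992,100,2),
  (22230,12918,0,0),
  (17110,22230,100,4),
  (23558,13382,0,0),
  (29702,23558,100,4),
  (18944,9728,0,0),
  (3584,9728,2,0),
  (10758,11846,0,0),
  (518,10758,100,4),
  (2774,630,0,0),
  (7894,2774,100,4),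
  (21351,4903,0,0),
  (16231,21351,100,2),
  (31591,21351,100,4),
  (5991,21351,100,6),
  (20767,4903,1,0),
  (17695,20767,100,2),
  (5407,20767,100,4),
  (287,20767,100,6),
  (23679,4903,2,0),
  (18559,23679,100,2),
  (12415,23679,100,4),
  (9343,23679,100,6),
  (24519,4903,3,0),
  (10183,24519,100,2),
  (30663,24519,100,4),
  (4039,24519,100,6),
  (11559,4903,7,0),
  (26919,11559,100,2),
  (1319,11559,100,4),
  (16679,11559,100,6),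
  (31958,6262,0,0),
  (26838,31958,100,4),
  (4102,30790,0,0),
  (14342,4102,100,4),
  (32064,28480,0,0),
  (26944,32064,100,4),
  (11072,28480,6,0),
  (16192,11072,100,4),
  (20800,12096,0,0),
  (17728,20800,100,4),
  (12352,12096,1,0),
  (6208,12352,100,2),
  (17216,12096,6,0),
  (22336,17216,100,4),
  (1344,24128,1,0),
  (4416,1344,100,4),
  (27200,24128,4,0),
  (16960,27200,100,2),
  (9792,24128,5,0),
  (3648,9792,100,2),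
  (1600,18496,3,0),
  (11840,1600,100,2),
  (23398,25446,8,0),
  (29542,23398,100,32),
  (4678,23910,3,0),
  (14918,4678,100,2),
  (704,24256,0,0),
  (16064,704,100,2),
  (5312,24256,2,0),
  (10432,5312,100,2),
  (9920,24256,6,0),
  (6848,9920,100,2),
  (18624,24256,20,0),
  (29888,18624,100,2),
  (24576,24256,20,1),
  (23552,25280,20,1),
  (6144,25280,25,0),
  (6950,9526,2,0),
  (13094,6950,100,2),
  (20694,9526,3,0)]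

/-- Part of: The fusion forest of the involutions. -/
def edges_8 : List (ℕ × ℕ × ℕ × ℕ) := [
  (17622,20694,100,4),
  (4406,9526,6,0),
  (1334,4406,100,2),
  (26422,9526,7,0),
  (29494,26422,100,2),
  (17702,6966,1,0),
  (27942,17702,100,2),
  (28374,6966,3,0),
  (31446,28374,100,4),
  (8262,24582,0,0),
  (2118,8262,100,2),
  (3798,24582,1,0),
  (6870,3798,100,4),
  (15878,24582,4,0),
  (5638,15878,100,4),
  (26118,24582,5,0),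
  (19974,26118,100,4),
  (22534,24582,8,0),
  (28678,22534,100,4),
  (31542,31526,1,0),
  (28470,31542,100,2),
  (4902,31526,8,0),
  (15142,4902,100,2),
  (9430,20790,3,0),
  (12502,9430,100,4),
  (1030,27718,0,0),
  (11270,1030,100,4),
  (14038,15990,0,0),
  (8918,14038,100,4),
  (20480,12694,25,1),
  (12480,11158,25,1),
  (3264,12480,100,2),
  (21718,12406,0,0),
  (16598,21718,100,4),
  (24070,13894,0,0),
  (30214,24070,100,4),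
  (18432,9216,0,0),
  (3072,9216,2,0),
  (10246,11334,0,0),
  (6,10246,100,4),
  (2262,118,0,0),
  (7382,2262,100,4),
  (20839,4391,0,0),
  (15719,20839,100,2),
  (31079,20839,100,4),
  (5479,20839,100,6),
  (21279,4391,1,0),
  (18207,21279,100,2),
  (5919,21279,100,4),
  (799,21279,100,6),
  (24191,4391,2,0),
  (19071,24191,100,2),
  (12927,24191,100,4),
  (9855,24191,100,6),
  (24007,4391,3,0),
  (9671,24007,100,2),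
  (30151,24007,100,4),
  (3527,24007,100,6),
  (12071,4391,7,0),
  (27431,12071,100,2),
  (1831,12071,100,4),
  (17191,12071,100,6),
  (32470,6774,0,0),
  (27350,32470,100,4),
  (4614,31302,0,0),
  (14854,4614,100,4),
  (32576,27968,0,0),
  (27456,32576,100,4),
  (10560,27968,6,0),
  (15680,10560,100,4),
  (21312,11584,0,0),
  (18240,21312,100,4),
  (12864,11584,1,0),
  (6720,12864,100,2),
  (16704,11584,6,0),
  (21824,16704,100,4),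
  (1856,23616,1,0),
  (4928,1856,100,4),
  (26688,23616,4,0),
  (16448,26688,100,2),
  (9280,23616,5,0),
  (3136,9280,100,2),
  (1088,19008,3,0),
  (11328,1088,100,2),
  (28160,22886,25,1),
  (20672,192,6,0),
  (27840,20672,100,2),
  (10240,192,20,0),
  (5120,15552,20,0),
  (18112,5824,6,0),
  (31424,18112,100,2),
  (17920,19136,20,0),
  (31232,30400,20,0),
  (30208,24064,6,0),
  (12800,6656,2,0),
  (31327,21351,1,0),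
  (28255,31327,100,2),
  (10847,31327,100,4),
  (15967,31327,100,6),
  (2879,21351,2,0)]

/-- Part of: The fusion forest of the involutions. -/
def edges_9 : List (ℕ × ℕ × ℕ × ℕ) := [
  (7999,2879,100,2),
  (29503,2879,100,4),
  (26431,2879,100,6),
  (31111,21351,3,0),
  (10631,31111,100,2),
  (20871,31111,100,4),
  (391,31111,100,6),
  (28551,21351,4,0),
  (16263,28551,100,2),
  (18311,28551,100,4),
  (6023,28551,100,6),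
  (10599,21351,7,0),
  (17767,10599,100,2),
  (359,10599,100,4),
  (28007,10599,100,6),
  (25215,20767,0,0),
  (30335,25215,100,2),
  (3711,25215,100,4),
  (6783,25215,100,6),
  (13631,20767,4,0),
  (8511,13631,100,2),
  (19775,13631,100,4),
  (22847,13631,100,6),
  (16159,20767,5,0),
  (11039,16159,100,2),
  (31519,16159,100,4),
  (28447,16159,100,6),
  (17503,23679,4,0),
  (20575,17503,100,2),
  (5215,17503,100,4),
  (95,17503,100,6),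
  (18887,24519,7,0),
  (12743,18887,100,2),
  (25031,18887,100,4),
  (6599,18887,100,6),
  (5440,32064,4,0),
  (320,5440,100,4),
  (27648,23398,25,1),
  (21184,704,6,0),
  (28352,21184,100,2),
  (10752,704,20,0),
  (5632,16064,20,0),
  (17600,5312,6,0),
  (30912,17600,100,2),
  (17408,18624,20,0),
  (30720,29888,20,0),
  (29696,23552,6,0),
  (12288,6144,2,0),
  (30815,20839,1,0),
  (27743,30815,100,2),
  (10335,30815,100,4),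
  (15455,30815,100,6),
  (2367,20839,2,0),
  (7487,2367,100,2),
  (28991,2367,100,4),
  (25919,2367,100,6),
  (31623,20839,3,0),
  (11143,31623,100,2),
  (21383,31623,100,4),
  (903,31623,100,6),
  (28039,20839,4,0),
  (15751,28039,100,2),
  (17799,28039,100,4),
  (5511,28039,100,6),
  (11111,20839,7,0),
  (18279,11111,100,2),
  (871,11111,100,4),
  (28519,11111,100,6),
  (24703,21279,0,0),
  (29823,24703,100,2),
  (3199,24703,100,4),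
  (6271,24703,100,6),
  (14143,21279,4,0),
  (9023,14143,100,2),
  (20287,14143,100,4),
  (23359,14143,100,6),
  (15647,21279,5,0),
  (10527,15647,100,2),
  (31007,15647,100,4),
  (27935,15647,100,6),
  (18015,24191,4,0),
  (21087,18015,100,2),
  (5727,18015,100,4),
  (607,18015,100,6),
  (19399,24007,7,0),
  (13255,19399,100,2),
  (25543,19399,100,4),
  (7111,19399,100,6),
  (5952,32576,4,0),
  (832,5952,100,4)]

/-- The fusion forest of the involutions. -/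
def edges : List (ℕ × ℕ × ℕ × ℕ) := edges_0 ++ edges_1 ++ edges_2 ++ edges_3 ++ edges_4 ++ edges_5 ++ edges_6 ++ edges_7 ++ edges_8 ++ edges_9

/-- Part of: The separating rows of the elementary subgroup. -/
def erowT_0 : List ℕ := [
  1,
  4,
  123003155837691824261751335801090881065694435024596565716003385050195566839369899929109123247283447983461048221931735501992195342846781343822609027514021881253668084906079559941230842530549130618024630906703610921228822638567784982780436490348389950748459270148,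
  492012622921183738203200780809283222515049275895932716367710999615763483395781041500146166706421521240104290286224819170817975731163077432468364803634977768451607703151173258661881064781478009703989826410435162346788052376839009562816304592539136432700859088897,
  246006311532189128904455807851673461549850793155802107303421226242462345206833448230673087978808357967584089197322702611766797365996208130642683037444841320861277792643053774120713007137019820999593303526474050558184854142706814920356782242376188121767726809092,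
  369009467226686433560496308758700642029085548831153915582343706430698890044516895082953392822176574537947154303940298976278705361066398445077393081770106259599282611837606817785295316267200786491210032040579986217813242682885909570839418248157083526758517440513,
  123003155751775112486322408890747484535092546901878719612874414586873071049626589696039546305848646006182831652952501585790891436422829726666876764902037072622264621725215908629806467629803551342334584155436102671973079779938648883610774003812069164603337080836,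
  492012623007100449945289635555227347675251905064623462613090286253140306041656920769106494085612283946063209910533298780185782558788579940817805138191600774662726691866727320447951929768777778248641541362829301003010360075844845755483623400699433800187257028609,
  246006311532189128917791836717433170098371970523959274737281037752415657595258038822911225966569941585157871717934168632403013632543140683206254050972716964285761070142027757757920287381845005082767505156288475837267655167211780585754865342097807176584000438276,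
  369009467226686433547160279892940933482371740396570007346531324579756539488637170994300264450212368156125495834759999995582252038150034568609649448780171814007470012539598440944870436871042704926011129781076205167710955734552742812985058674786793167659967971329,
  28638903925142975643508710578041947382267032616438248377554526679193586095283336680614947047424615618640227796631890459565287569966058176712410641753513292504445282476575746093617538982754488726037446721074562947153999220259761720669857749473943355394,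
  114555615700571902550747070924042417634686919742720595863342892794934162206876310268466615974745206682442853724847177611783250159708557428218801704386955743195913721343455651201548511009033254926511355794205136915187927576456782183423445264685049315331,
  369009467169408625723546386351415592254759528358204558231239506281305088860301607962924424013151737403384248823479767317863913848384243262934098103860178298808409633134689010089572215964786619256522409053581796117695440560913007870053878998715998140864258899969,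
  246006311446272417149030924236864591657609990108716027991719593403637047508950170851429339748875649552151510709531360964373457259347450463108755073939749126768817412498548625167460281460252956570796503573153639061003176790341239951715950858497768146597452972036,
  57277807856953965710582166874913597797671163089657843970911150066915018893172633663950125263954512522401536151277347107808523916719572861317416050977586310807484638651113245426468273260732490765106407657804535175607755040352139461764494070210524872704,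
  85916711768760912483673614627170767219282789269501000269986269407207418029058845614144541876149785092408265047767198590075555647676374781735852752182730887750838590751201558837906370088747272810679728349525872861721912445102341638599132523407916138496,
  123003155723136208567847447684776182509116999476176325301149594054138897556310927320896017616436190251711807410259769013693563693372300462388474810610477515061628774173295895976291968773124907651253844416286763480958025306117332564971328375482498818809463308292,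
  492012622892544834271389790739104730032853260037137971936085714019246510214042362030802598143544641920775732574656534683304783504749729842030613564760949803222174943726258987381368988956260352107008676793305024094346112671442790848160137279557872259402030907393,
  492012623007100449951957649983449647672429630050066106293677489328665513575970092520737572104222276174025194376928526253452800711227144301492649293212012150992089075187482997769847814910603243163430308884214336491685632545681644634039049032740414298019944464387,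
  123003155751775112512994466619161865446810536194718278347822360227199441219253523264685452264401277347201822601575007530736336607124095921001555256567458181051585017142828052291800006789972842300984836711795658593367056843013581886836729405665896484578248359938,
  246006311560828032822930769054539727392309344071350498157069094993331953135190428687295866911269646398866262846196572000906311651623708339733009870876130423977452426203438093997732965355787293625531822248452687897450930016685947528772946991273491020706410921988,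
  369009467198047529642021347555834376188434366848757973054619397458260964758074370836671596321286809433657175195212448341749689683175382559950049155949496754840395781253927941304892686853166181830103827703777125054546472888670385834526863792696546732312505614337,
  369009467226686433553828294330478342033353718992822365783468769010720894609380493767728684055936726131338327674833901284676309193330445324260444850262665600206725252428667472534170789207333198914804690159849362760306674457181532031980928335846862902064125575171,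
  246006311532189128911123822279895761547389991927706916300343593321451302474514716049482806360845583609944972838820602021580707027276581990338672089819560491156507826194785320845602415632240496753730146106249454440355886661671393655310555985764876188125098934274,
  123003155809052920323272331298032534309418567374912239138422984245607107679245261495448857084516830307300161621998478636296107472604376104194155302592143333050850216377511044594907481928130215622560758336594892468825392151912726286205953243390672370657853964289,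
  492012622949822642108339713147942297900925884592010753959665586474985548602668659262942447143177319076376044926337918537974505010928011467357851442271109179817892317835657564800489865506218753807131654565344811998413610130955896415900421433907312971020922519556,
  369009467226686433547160279896045969666250210693270338295368214341187023303235039901022011415428442176169993523980655757855769080208713114876371673501451029468403285583807421311433922707363504829626718717911797332981973340411049687036886586967109203759095349251,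
  246006311532189128917791836714328133914493500227258943788444147990985173780660169916188242349346502042443071516108414634179320933738956077739961510970973262699295137761967195386050586899536662873803079304857852916929567638256817775549318365979838777830567575554,
  85916711768760912480568578441484927988756712599322763387940939554088965283499559269543744962123627484209873930561058211023918863852174442645148749709541289572478940454459763826689103772603737813039393145134267378746294325172579982132150921708158582784,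
  57277807856953965713687203058792068094203169689664781313343426693775395245736608369478719936239439638055200943031408831589954431788792806426938683065274912978497375501113409029862572193705497920955414768812717340895847706030259846004947199263135236096,
  246006311532189128897787793417241089184193180003192849348144198209781527787206191131942552661968105944507463321016297015432709588744456800705612563041979703336499442096542666139368819448970910098471452491683993294850791708591589135963864291131186858227742539778,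
  369009467226686433567164323193133014396550530916915621863544294241811390106058608392024910570588349888016041759432373040208789616179625128208083663602719455475841321772841477265338175675130668453202936018318974657933149972217725885435829885603202943575302078467,
  123003155837691824241747292507108872520718480244341896106330972818949259119925468692735584636749697701894060009131259084306817527101362609721253272637176163271834139384378810375644389883457409418370649742882961651158713929565108646200554859606338970435081732099,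
  492012622921183738189864751938865959689625971722160286119633728021064117971358041772411692406718597773022284066959639517620032124855553116962999142746957152111085905618551683516655842162810002616440443296926231336484796325366060476604861917026048644373045837826,
  57277807856953965709029648782251415075555045238331129088751695979279703230151806385647844303431429322344128245199771155212159463562250072315402595933551674542358520166945892101793147455745679892995250046822029148242429268295620377460846433729733722113,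
  85916711768760912485226132719832949941398907120827715152145723494848045072007840563433718718738325939699319172036550625972544991019517153136442189682336360833402330580277870572252207190870355057251322707742447216778596689427599251443913257820312567812,
  123003155809052920323272331299585052402080750096607546117645424780425349505385647451541532227596903604440085810454858719716433192418725330986769922849402964969603785356875095006513272987054154064992391126171245349128038060596036763098675935339517806991678373892,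
  492012622949822642108339713146389779808263701869894636108319276059565215382809752037512538957842890413851792123099797082557520496948694019861439105602200740486757082845731955121501080980920998514912041358024209580140073384936350616638778116171393234341485084673,
  492012623007100449945289635555227347674890431278077135122310752740318071100413888965687313531921407851204001050694453388831001440685851124409971198363621795570971543381142193073284363554599371145319598606842149097649505625230315508417456127264443844343795548161,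
  123003155751775112486322408890747484535454020688845857975777817980251772978411920816609548185736874553177436842500587141093787843550377104120272878455107924124938138961592149866206439833378747504685922598475806496980456949223562382253078399476755636101757009924,
  123003155809052920343276374598224615223597357895510340178729871369256717621408234113972158185853108694763244352191479123265584622722833760107734662387525192597958513595671498234789817974257441798312079132055203082275671879841072683975078409098582708065033781250,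
  492012622949822642121675742012149488355338984091445682707035061303904517629942109199653085963124458288097629597426774515844244577469275727182133744717854893900208293940488670629344016428392352032570557824155643273242259015156561829882494425709797527274150428675,
  369009467226686433553828294324268269663789409465343471641100938305922433507672889033918869545524135669182888428422552507483661122407474223039067321288455177116694039613972441356626724994247945477567141205470750663317116852890712838459606334503442466465946533888,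
  246006311532189128911123822278343243455450756779440913000300933583752186641899880719569327889037474673016157373392555765346045751206931370378892576257398056762287919315929842548118537651503394211187633558678474434891718135034959820521020654801716414790429048832,
  246006311560828032816262754623212391210891675002745358211270647086427253313412522330595545853383554453261907154587056498732990745211427526926752088503542377040595967179170915679961057549003481511750118290530925394293263741294880707361226574916872144364945539072,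
  369009467198047529648689361987161712369852035917783923872541715245744943770482687486614707911391101834868307120933514018837607365897274005074009773304363466770455298561440725793823033453986037311621818129711378491665467341742176653229770815780934426760931442688,
  246006311474911321080841914307043084138721584607282654730091647228631587753033723808001582706632354774337210648126874813024100337322317246027794309278667345451272393147372184381151358015721064630659270609680258925396524983174595919340296057889634293831740424195,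
  369009467283964241384110202303331019442022126313246627353720715103517797127773375033116701852121165579838839997462551140843773833748771645150401682739927321954458614096528230997224962469597880496777044738962314288759978554647680071593563022921990404904633499650,
  492012622892544834278057805167327030029308037448730501065349670883835245635077901864507071211014679614158171430649237229464058932122907076116283300847209253296981668913721704101699466011040101270377108145756191478189667545645277076447530366261607109057568571394,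
  123003155723136208594519505420953153881254112084196015087438129261516649710998600153016419098982110674195299066080127204539610743657240915915057903173399949287813831919391602234909130713357535270171551440900637676854589292156065860810507487162615563069348118531,
  123003155837691824268419350238628289616314939833881785790096212687486295937486341638648055392937883368361603819231852934385807335092881809315945552910222902361028888995633903854094276067105689533751945064396433312983418101409680327463691497422477594092420202498,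
  492012622921183738196532766371745813964428771086647496293716149644685901146408868178563435023844426372921763733462315693599458335600293442499957946842665875932202193685992294848696448185782020475026689872968247691995192802056254905880924836778995787288914427907,
  57277807850285951279254830693134454941846398257720861808742627338390567550945345473429031069442495866328316613276539403184468813448411901227045105420626470187719541947159875466288537298562761797390691881311325992452627197178965057798306871316699938820,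
  85916711775428926915000950808949910075107554101437982432154792135737180751214301475652531952727326434754780516945280248125226670363992721053902642162150182995259917620214254942640826584744374334241132059209007367724514161376451378774234615361153531905,
  246006311446272417162366953102624300206131167476789033251174226470730820750844025992351045380434406302780124220173472232510613264835891230726469822524177062151077798530674586321500999557793978187054976905529788174810102325423908311006412888358005980859587362819,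
  369009467169408625710210357485655883706238350990131552971784873214234127821490552418166519916627220704644274256495504682252207829507799216722492442847413577381406101689883365979398556242909718333626194747005825257950288831995846762174055865994879316183790649346,
  492012622892544834278057805171984584306571638041144577893640581942998292937060878024221985048811093252831338411889387257837218990510660329503147990016571522710147644216178279736240507975936614327692897976842482642094725846408236734926724691812489240189096427523,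
  123003155723136208594519505416295599605797880425776008329318517741943843432190900790130542061208928180034051569476993075464478590350536308109497278663757472802262062878788663977266381669535057630352736812445649366972107100540182677733633244167229200805134336002,
  246006311560828032836266797921851954031685335227798037720992656397809515932952974272621584754649130299925019003161188726569605715038179683272077022520034233570347780371162224414466039647732702250145194599995168674700298828339974514458611940886170207708805857280,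
  369009467198047529628685318688522149547251006758737174292648406394749627924678847771666426352074081317551593370714973253529062561113952612544631065002800053352298288083150044127686481041124358274268532769237850479275694245120485407384230659000473486456877219840,
  123003155809052920349944389034209505683363048916589350297183723088139052148305366957173623164557406898351535295626896521841204548658807345155413658138155665063826770487614609696228111793358312953134817980008122933291482343699043814820689550156052878876104196099,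
  492012622949822642115007727576164597897380662003939931786628639244033144935584531480109699581238006960866307570793976174966790802802373465278485806016124590802012687171359296149873719743627378232071328281834956042732572626329148872811167856053664921912841601026,
  246006311560828032822930769054539727392670817858149312171122950434488068268953528701077619920093511187475285543532484399679674244793951277196147253824874503344127501661564609155840109849737308046354389355035955290009737321368018898711917613209135508506152009732,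
  369009467198047529642021347555834376188072893062379969912689411897661316611853570140040664638660297097183615866625441428652691829116106120749260112376445224999872636012934709192363329452822685362858261819200082771444369786123100738973802749566251260461147226113]

/-- The separating rows of the elementary subgroup. -/
def erowT : List ℕ := erowT_0

end CfsgLib.RuStandard
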