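import Cfsg.Agent.Lib.Tails.RuWitness
import Cfsg.Agent.Lib.RuStandard.ModelData
import Cfsg.Agent.Lib.LyGTwo.SparseEq
import Mathlib.GroupTheory.Abelianization.Defs

/-!
# The fourfold cover of the Rudvalis group in dimension 28 over the field with five elements

The unit `i` of the Gaussian integers acts as the scalar two modulo the prime `i - 2`.
-/

set_option autoImplicit false
set_option maxRecDepth 20000
set_option maxHeartbeats 1000000

namespace CfsgLib.RuStandard

open Cfsg Cfsg.Spor CfsgLib.RuLattice CfsgLib.LyGTwo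
open scoped commutatorElement

/-- The even index. -/
def evn (j : Fin 28) : Fin 56 := ⟨2 * j.val, by omega⟩

/-- The odd index. -/
def odd' (j : Fin 28) : Fin 56 := ⟨2 * j.val + 1, by omega⟩

/-- The reduction of the lattice modulo `i - 2`. -/
def fHom : ruLattice →+ (Fin 28 → ZMod 5) :=
  AddMonoidHom.mk' (fun v j => ((crd (evn j) v + 2 * crd (odd' j) v : ℤ) : ZMod 5)) fun v w => by
    funext j
    simp only [map_add, Pi.add_apply]
    push_cast
    ring

theorem fHom_apply (v : ruLattice) (j : Fin 28) :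
    fHom v j = ((crd (evn j) v + 2 * crd (odd' j) v : ℤ) : ZMod 5) := rfl

theorem closI_facts :
    ((List.range 28).all fun j => (closI.getD (2 * j) [] == (List.replicate 56 (0 : ℤ)).set (2 * j + 1) 1) &&
      (closI.getD (2 * j + 1) [] == (List.replicate 56 (0 : ℤ)).set (2 * j) (-1))) = true := by
  decide +kernel

theorem rowVec_set {k : ℕ} (hk : k < 56) (a : ℤ) :
    rowVec ((List.replicate 56 0).set k a) = a • bLat ⟨k, hk⟩ := by
  rw [rowVec_eq (by simp), Finset.sum_eq_single ⟨k, hk⟩]
  · rw [List.getD_eq_getElem _ _ (by simpa using hk), List.getElem_set_self]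
  · intro i _ hi
    have hne : ¬ k = i.val := fun h => hi (Fin.ext h.symm)
    rw [List.getD_eq_getElem _ _ (by simp), List.getElem_set_ne hne, List.getElem_replicate, zero_smul]
  · simp

theorem ruI_even (j : Fin 28) : ruI (bLat (evn j)) = bLat (odd' j) := by
  have h := List.all_eq_true.1 closI_facts j.val (List.mem_range.2 j.isLt)
  simp only [Bool.and_eq_true, beq_iff_eq] at h
  rw [ruI_bLat]
  show rowVec (closI.getD (2 * j.val) []) = _
  rw [h.1, rowVec_set (by omega), one_smul]
  rfl

theorem ruI_odd (j : Fin 28) : ruI (bLat (odd' j)) = -bLat (evn j) := by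
  have h := List.all_eq_true.1 closI_facts j.val (List.mem_range.2 j.isLt)
  simp only [Bool.and_eq_true, beq_iff_eq] at h
  rw [ruI_bLat]
  show rowVec (closI.getD (2 * j.val + 1) []) = _
  rw [h.2, rowVec_set (by omega), neg_one_zsmul]
  rfl

theorem fin_cases_pairs (i : Fin 56) : (∃ j, i = evn j) ∨ ∃ j, i = odd' j := by
  rcases Nat.even_or_odd' i.val with ⟨k, h | h⟩
  · exact Or.inl ⟨⟨k, by omega⟩, Fin.ext h⟩
  · exact Or.inr ⟨⟨k, by omega⟩, Fin.ext h⟩

/-- Additive maps of the lattice agree if they agree on the basis. -/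
theorem hom_ext' {N : Type*} [AddCommGroup N] {f g : ruLattice →+ N}
    (he : ∀ j, f (bLat (evn j)) = g (bLat (evn j))) (ho : ∀ j, f (bLat (odd' j)) = g (bLat (odd' j)))
    (v : ruLattice) : f v = g v := by
  rw [lat_expand v, map_sum, map_sum]
  refine Finset.sum_congr rfl fun i _ => ?_
  rw [map_zsmul, map_zsmul]
  rcases fin_cases_pairs i with ⟨j, rfl⟩ | ⟨j, rfl⟩
  · rw [he]
  · rw [ho]

theorem fHom_even (j : Fin 28) : fHom (bLat (evn j)) = Pi.single j 1 := by
  funext k
  rw [fHom_apply, crd_bLat, crd_bLat, Pi.single_apply]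
  have h1 : (evn k = evn j) ↔ k = j := by simp [evn, Fin.ext_iff]
  have h2 : ¬ odd' k = evn j := by simp [odd', evn, Fin.ext_iff]; omega
  rw [if_neg h2]
  by_cases h : k = j
  · rw [if_pos (h1.2 h), if_pos h]; simp
  · rw [if_neg fun e => h (h1.1 e), if_neg h]; simp

theorem fHom_ruI (v : ruLattice) : fHom (ruI v) = (2 : ZMod 5) • fHom v := by
  refine hom_ext' (f := fHom.comp ruIHom) (g := AddMonoidHom.mk' (fun v => (2 : ZMod 5) • fHom v)
    fun a b => by rw [map_add, smul_add]) (fun j => ?_) (fun j => ?_) v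
  · show fHom (ruI (bLat (evn j))) = (2 : ZMod 5) • fHom (bLat (evn j))
    rw [ruI_even, fHom_even]
    funext k
    rw [fHom_apply, crd_bLat, crd_bLat, Pi.smul_apply, Pi.single_apply]
    have h1 : (odd' k = odd' j) ↔ k = j := by simp [odd', Fin.ext_iff]
    have h2 : ¬ evn k = odd' j := by simp [odd', evn, Fin.ext_iff]; omega
    rw [if_neg h2]
    by_cases h : k = j
    · rw [if_pos (h1.2 h), if_pos h]; simp
    · rw [if_neg fun e => h (h1.1 e), if_neg h]; simp
  · show fHom (ruI (bLat (odd' j))) = (2 : ZMod 5) • fHom (bLat (odd' j))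
    rw [ruI_odd, map_neg, fHom_even]
    funext k
    rw [Pi.smul_apply, fHom_apply, crd_bLat, crd_bLat, Pi.neg_apply, Pi.single_apply]
    have h1 : (odd' k = odd' j) ↔ k = j := by simp [odd', Fin.ext_iff]
    have h2 : ¬ evn k = odd' j := by simp [odd', evn, Fin.ext_iff]; omega
    rw [if_neg h2]
    by_cases h : k = j
    · rw [if_pos (h1.2 h), if_pos h, smul_eq_mul]; push_cast; decide +revert
    · rw [if_neg fun e => h (h1.1 e), if_neg h]; simp

/-- The matrix of an automorphism modulo `i - 2`. -/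
def redMat (g : fourRu) : Matrix (Fin 28) (Fin 28) (ZMod 5) := Matrix.of fun j => fHom (g.1 (bLat (evn j)))

/-- An automorphism as an additive map. -/
def autHom (g : fourRu) : ruLattice →+ ruLattice := AddMonoidHom.mk' g.1 g.2.1

theorem fHom_aut (g : fourRu) (v : ruLattice) : fHom (g.1 v) = Matrix.vecMul (fHom v) (redMat g) := by
  refine hom_ext' (f := fHom.comp (autHom g)) (g := AddMonoidHom.mk'
    (fun v => Matrix.vecMul (fHom v) (redMat g)) fun a b => by rw [map_add, Matrix.add_vecMul])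
    (fun j => ?_) (fun j => ?_) v
  · show fHom (g.1 (bLat (evn j))) = Matrix.vecMul (fHom (bLat (evn j))) (redMat g)
    rw [fHom_even, Matrix.single_one_vecMul]
    rfl
  · show fHom (g.1 (bLat (odd' j))) = Matrix.vecMul (fHom (bLat (odd' j))) (redMat g)
    rw [← ruI_even, g.2.2.1, fHom_ruI, fHom_ruI, fHom_even, Matrix.smul_vecMul,
      Matrix.single_one_vecMul]
    rfl

theorem redMat_one : redMat 1 = 1 := by
  ext j k
  show fHom (bLat (evn j)) k = _
  rw [fHom_even, Pi.single_apply, Matrix.one_apply]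
  simp only [eq_comm]

theorem redMat_mul (g h : fourRu) : redMat (g * h) = redMat h * redMat g := by
  ext j k
  show fHom (g.1 (h.1 (bLat (evn j)))) k = _
  rw [fHom_aut]
  rfl

/-- The representation. -/
def rep5 : fourRu →* Matrix (Fin 28) (Fin 28) (ZMod 5) where
  toFun g := redMat g⁻¹
  map_one' := by rw [inv_one, redMat_one]
  map_mul' g h := by rw [mul_inv_rev, redMat_mul]

theorem redMat_scal : redMat scal = (2 : ZMod 5) • (1 : Matrix (Fin 28) (Fin 28) (ZMod 5)) := by
  ext j k
  show fHom (ruI (bLat (evn j))) k = _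
  rw [fHom_ruI, fHom_even, Pi.smul_apply, Pi.single_apply, Matrix.smul_apply, Matrix.one_apply]
  simp only [eq_comm]

theorem rep5_scal_pow (k : ℕ) : rep5 (scal ^ k) = (3 : ZMod 5) ^ k • (1 : Matrix (Fin 28) (Fin 28) (ZMod 5)) := by
  have h : rep5 scal = (3 : ZMod 5) • (1 : Matrix (Fin 28) (Fin 28) (ZMod 5)) := by
    have e : scal⁻¹ = scal * scal * scal := inv_eq_of_mul_eq_one_right (by
      rw [← scal_pow_four, pow_succ' scal 3, pow_three, mul_assoc scal scal scal])
    show redMat scal⁻¹ = _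
    rw [e, redMat_mul, redMat_mul, redMat_scal, smul_mul_assoc, one_mul, smul_mul_assoc, one_mul, smul_smul, smul_smul]
    congr 1
  rw [map_pow, h, smul_pow, one_pow]

theorem ker_pow {k : ℕ} (h : rep5 (scal ^ k) = 1) : scal ^ k = 1 := by
  rw [rep5_scal_pow] at h
  have h0 := congrFun (congrFun h 0) 0
  rw [Matrix.smul_apply, Matrix.one_apply_eq, smul_eq_mul, mul_one, ← Nat.div_add_mod k 4, pow_add, pow_mul,
    show (3 : ZMod 5) ^ 4 = 1 from by decide, one_pow, one_mul] at h0
  have h1 : ∀ r < 4, (3 : ZMod 5) ^ r = 1 → r = 0 := by decide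
  have h2 := h1 _ (Nat.mod_lt _ (by norm_num)) h0
  rw [← pow_mod_orderOf, orderOf_scal, h2, pow_zero]

theorem fourRu_finite : Finite fourRu := Nat.finite_of_card_ne_zero (by rw [cards.2.2]; norm_num)

theorem mem_kerSub {g : fourRu} (hg : g ∈ kerSub) : ∃ k < 4, g = scal ^ k := by
  have := fourRu_finite
  rw [cards.2.1, ← mem_powers_iff_mem_zpowers] at hg
  obtain ⟨k, rfl⟩ := hg
  exact ⟨k % 4, Nat.mod_lt _ (by norm_num), by
    show scal ^ k = _
    rw [← pow_mod_orderOf, orderOf_scal]⟩

theorem exists_central_comm : ∃ X Y : fourRu, ⁅X, Y⁆ ∈ kerSub ∧ ⁅X, Y⁆ ≠ 1 := by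
  obtain ⟨X, Y, e, hXY⟩ := CfsgLib.Schur.Tails.RuWit.exists_noncomm
  refine ⟨X, Y, ?_, fun h => hXY (commutatorElement_eq_one_iff_mul_comm.1 h)⟩
  rw [← QuotientGroup.ker_mk' kerSub, MonoidHom.mem_ker, map_commutatorElement,
    commutatorElement_eq_one_iff_mul_comm, ← map_mul, ← map_mul]
  exact e

theorem kerSub_central {z : fourRu} (hz : z ∈ kerSub) (g : fourRu) : g * z = z * g := by
  rw [← center_eq] at hz
  exact Subgroup.mem_center_iff.1 hz g

theorem rep5_injective : Function.Injective rep5 := by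
  have hker : ∀ z ∈ kerSub, rep5 z = 1 → z = 1 := fun z hz h => by
    obtain ⟨k, -, rfl⟩ := mem_kerSub hz
    exact ker_pow h
  let f := rep5.toHomUnits
  have hf : ∀ g, g ∈ f.ker → rep5 g = 1 := fun g hg => congrArg Units.val (hg : f g = 1)
  refine fun a b hab => ?_
  suffices f.ker = ⊥ by
    have h : a⁻¹ * b ∈ f.ker := Units.ext (by
      show rep5 (a⁻¹ * b) = 1
      rw [map_mul, ← hab, ← map_mul, inv_mul_cancel, map_one])
    rw [this, Subgroup.mem_bot] at h
    exact inv_mul_eq_one.1 h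
  have hle : f.ker ≤ kerSub → f.ker = ⊥ := fun h => (Subgroup.eq_bot_iff_forall _).2 fun g hg =>
    hker g (h hg) (hf g hg)
  refine hle ?_
  have hmap : (f.ker.map (QuotientGroup.mk' kerSub)).Normal :=
    Subgroup.Normal.map inferInstance _ (QuotientGroup.mk'_surjective _)
  have := act_simple
  rcases IsSimpleGroup.eq_bot_or_eq_top_of_normal _ hmap with h | h
  · rw [Subgroup.map_eq_bot_iff, QuotientGroup.ker_mk'] at h
    exact h
  exfalso
  obtain ⟨X, Y, hc, hne⟩ := exists_central_comm
  refine hne (hker _ hc ?_)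
  have hdec : ∀ A : fourRu, ∃ n, rep5 n = 1 ∧ ∃ z ∈ kerSub, A = n * z := fun A => by
    obtain ⟨n, hn, e⟩ := (h.ge (Subgroup.mem_top (QuotientGroup.mk' kerSub A)))
    exact ⟨n, hf n hn, n⁻¹ * A, QuotientGroup.eq.1 e, by rw [mul_inv_cancel_left]⟩
  obtain ⟨n, hn, z, hz, rfl⟩ := hdec X
  obtain ⟨m, hm, w, hw, rfl⟩ := hdec Y
  have hi : ∀ a : fourRu, rep5 a * rep5 a⁻¹ = 1 := fun a => by rw [← map_mul, mul_inv_cancel, map_one]
  have hi' : ∀ a : fourRu, rep5 a = 1 → rep5 a⁻¹ = 1 := fun a ha => by rw [← hi a, ha, one_mul]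
  rw [commutatorElement_def, mul_inv_rev, mul_inv_rev]
  simp only [map_mul, hn, hm, hi' n hn, hi' m hm, one_mul, mul_one]
  simp only [← map_mul]
  rw [show z * w = w * z from (kerSub_central hw z), mul_inv_cancel_right, mul_inv_cancel, map_one]

/-! ## The double cover inside -/

/-- The double cover: the derived subgroup. -/
abbrev Dbl : Type := ↥(commutator fourRu)

theorem sq_mem : scal ^ 2 ∈ commutator fourRu := by
  obtain ⟨X, Y, hc, hne⟩ := exists_central_comm
  have hm : ⁅X, Y⁆ ∈ commutator fourRu :=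
    Subgroup.commutator_mem_commutator (Subgroup.mem_top _) (Subgroup.mem_top _)
  obtain ⟨k, hk, e⟩ := mem_kerSub hc
  rw [e] at hm hne
  have hm2 := (commutator fourRu).mul_mem hm hm
  rw [← pow_add, ← pow_mod_orderOf, orderOf_scal] at hm2
  have hp := (commutator fourRu).pow_mem hm 2
  interval_cases k
  · exact absurd (pow_zero scal) hne
  · exact hm2
  · exact hm
  · exact hm2

theorem surj_mod (g : fourRu) : ∃ s ∈ commutator fourRu, ∃ k, g = s * scal ^ k := by
  have hperf : commutator Act = ⊤ := by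
    have := act_simple
    refine (IsSimpleGroup.eq_bot_or_eq_top_of_normal (commutator Act) inferInstance).resolve_left fun h => ?_
    have hc := (commutator_eq_bot_iff_center_eq_top _).1 h
    exact act_noncomm fun x y => (Subgroup.mem_center_iff.1 (hc.ge (Subgroup.mem_top y)) x)
  have hmap : (commutator fourRu).map (QuotientGroup.mk' kerSub) = ⊤ := by
    rw [commutator_def, Subgroup.map_commutator,
      Subgroup.map_top_of_surjective _ (QuotientGroup.mk'_surjective _), ← commutator_def]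
    exact hperf
  obtain ⟨s, hs, e⟩ := hmap.ge (Subgroup.mem_top (QuotientGroup.mk' kerSub g))
  obtain ⟨k, -, hk⟩ := mem_kerSub (QuotientGroup.eq.1 e)
  exact ⟨s, hs, k, by rw [← hk, mul_inv_cancel_left]⟩

end CfsgLib.RuStandard
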