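import Cfsg.Agent.Lib.Tails.RuThm
import Cfsg.Agent.Lib.RuStandard.Rep
import Mathlib.GroupTheory.IsPerfect

/-!
# A double cover of the Rudvalis group is the derived subgroup of the fourfold cover
-/

set_option autoImplicit false
set_option maxRecDepth 20000

namespace CfsgLib.RuStandard

open Cfsg Cfsg.Spor CfsgLib.RuLattice CfsgLib.Schur.Tails.RigidCert CfsgLib.Schur.Tails.RigidCert.Ru
open Subgroup CfsgLib.Schur.Tails
open scoped commutatorElement

/-- The map of the double cover to the simple group. -/
noncomputable def dblMap : Dbl →* Act := (QuotientGroup.mk' kerSub).comp (commutator fourRu).subtype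

theorem dblMap_stem : Cfsg.IsStemExtension dblMap := by
  let π : fourRu →* Act := QuotientGroup.mk' kerSub
  have hπ : Function.Surjective π := QuotientGroup.mk'_surjective _
  have hc : π.ker ≤ center fourRu := by
    rw [show π.ker = kerSub from QuotientGroup.ker_mk' _, center_eq]
  refine ⟨fun g => ?_, fun x hx => mem_center_iff.2 fun y =>
    Subtype.ext (mem_center_iff.1 (hc (show π x.1 = 1 from hx)) y.1),
    le_top.trans (derived_perfect act_perfect hπ hc).ge⟩
  obtain ⟨y, hy, e⟩ := (commutator_mul_ker act_perfect hπ).ge (mem_top g)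
  exact ⟨⟨y, hy⟩, e⟩

theorem card_ker_dblMap : Nat.card dblMap.ker = 2 := by
  have := finite_act
  have := fourRu_finite
  have hd := (bound dblMap dblMap_stem).2
  have hne : dblMap.ker ≠ ⊥ := fun hb => by
    have hz : (⟨scal ^ 2, sq_mem⟩ : Dbl) ∈ dblMap.ker :=
      (QuotientGroup.eq_one_iff _).2 (pow_mem scal_mem_ker 2)
    rw [hb, mem_bot, Subtype.ext_iff] at hz
    exact scal_sq_ne hz
  have hlt : 1 < Nat.card dblMap.ker := (Subgroup.one_lt_card_iff_ne_bot _).2 hne
  have := Nat.le_of_dvd (by norm_num) hd
  omega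

theorem card_dbl : Nat.card Dbl = 291852288000 := by
  have h := card_eq_card_quotient_mul_card_subgroup dblMap.ker
  rw [Nat.card_congr (QuotientGroup.quotientKerEquivOfSurjective _ dblMap_stem.1).toEquiv, cards.1,
    card_ker_dblMap] at h
  rw [h]

/-- A perfect group with central kernel of order two over the simple group is the double cover. -/
theorem iso_of_map {A : Type} [Group A] [Finite A] (hA : Group.IsPerfect A) (σ : A →* Act)
    (hs : Function.Surjective σ) (hc : σ.ker ≤ center A) (h2 : Nat.card σ.ker = 2) :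
    Nonempty (A ≃* Dbl) := by
  have := finite_act
  have := fourRu_finite
  have hcardA : Nat.card A = Nat.card Dbl := by
    rw [card_eq_card_quotient_mul_card_subgroup σ.ker,
      card_eq_card_quotient_mul_card_subgroup dblMap.ker,
      Nat.card_congr (QuotientGroup.quotientKerEquivOfSurjective _ hs).toEquiv,
      Nat.card_congr (QuotientGroup.quotientKerEquivOfSurjective _ dblMap_stem.1).toEquiv,
      card_ker_dblMap, h2]
  let E : Subgroup (A × Dbl) := (σ.comp (MonoidHom.fst A Dbl)).eqLocus (dblMap.comp (MonoidHom.snd A Dbl))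
  have hE : ∀ p, p ∈ E ↔ σ p.1 = dblMap p.2 := fun p => Iff.rfl
  let f : E →* A := (MonoidHom.fst A Dbl).comp E.subtype
  let g : E →* Dbl := (MonoidHom.snd A Dbl).comp E.subtype
  have hf : Function.Surjective f := fun a => by
    obtain ⟨d, hd⟩ := dblMap_stem.1 (σ a)
    exact ⟨⟨(a, d), hd.symm⟩, rfl⟩
  have hg : Function.Surjective g := fun d => by
    obtain ⟨a, ha⟩ := hs (dblMap d)
    exact ⟨⟨(a, d), ha⟩, rfl⟩
  let τ : E →* Act := σ.comp f
  have hτ : Function.Surjective τ := hs.comp hf
  have hτc : τ.ker ≤ center E := fun p hp => mem_center_iff.2 fun q => Subtype.ext (Prod.ext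
    (mem_center_iff.1 (hc (show σ p.1.1 = 1 from hp)) q.1.1)
    (mem_center_iff.1 (dblMap_stem.2.1 (show dblMap p.1.2 = 1 from ((hE p.1).1 p.2).symm.trans hp)) q.1.2))
  let D : Subgroup E := commutator E
  let τD : ↥D →* Act := τ.comp D.subtype
  have hperf := derived_perfect act_perfect hτ hτc
  have hst : Cfsg.IsStemExtension τD := by
    refine ⟨fun x => ?_, fun x hx => mem_center_iff.2 fun y =>
      Subtype.ext (mem_center_iff.1 (hτc (show τ x.1 = 1 from hx)) y.1), le_top.trans hperf.ge⟩
    obtain ⟨y, hy, e⟩ := (commutator_mul_ker act_perfect hτ).ge (mem_top x)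
    exact ⟨⟨y, hy⟩, e⟩
  have hcD : Nat.card ↥D ≤ Nat.card Dbl := by
    rw [card_eq_card_quotient_mul_card_subgroup τD.ker,
      card_eq_card_quotient_mul_card_subgroup dblMap.ker,
      Nat.card_congr (QuotientGroup.quotientKerEquivOfSurjective _ hst.1).toEquiv,
      Nat.card_congr (QuotientGroup.quotientKerEquivOfSurjective _ dblMap_stem.1).toEquiv,
      card_ker_dblMap]
    exact Nat.mul_le_mul le_rfl (Nat.le_of_dvd (by norm_num) (bound τD hst).2)
  have hfD : Function.Surjective (f.comp D.subtype) := fun a => by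
    have h : (_root_.commutator E).map f = ⊤ := commutator_mul_ker (Group.isPerfect_def.1 hA) hf
    obtain ⟨y, hy, e⟩ := h.ge (mem_top a)
    exact ⟨⟨y, hy⟩, e⟩
  have hgD : Function.Surjective (g.comp D.subtype) := fun a => by
    have hp : commutator Dbl = ⊤ :=
      derived_perfect act_perfect (σ := QuotientGroup.mk' kerSub) (QuotientGroup.mk'_surjective _)
        (by rw [QuotientGroup.ker_mk', center_eq])
    have h : (_root_.commutator E).map g = ⊤ := commutator_mul_ker hp hg
    obtain ⟨y, hy, e⟩ := h.ge (mem_top a)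
    exact ⟨⟨y, hy⟩, e⟩
  have b1 : Function.Bijective (f.comp D.subtype) :=
    hfD.bijective_of_nat_card_le (hcD.trans hcardA.ge)
  have b2 : Function.Bijective (g.comp D.subtype) := hgD.bijective_of_nat_card_le hcD
  exact ⟨(MulEquiv.ofBijective _ b1).symm.trans (MulEquiv.ofBijective _ b2)⟩

/-- Uniqueness of the double cover. -/
theorem iso_dbl.{v} {A : Type v} [Group A] [Finite A] (hA : Group.IsPerfect A)
    (h2 : Nat.card (center A) = 2) (hR : Cfsg.Spor.IsoRu (A ⧸ center A)) : Nonempty (A ≃* Dbl) := by
  obtain ⟨e⟩ := hR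
  let emb : A →* Equiv.Perm (Fin (Nat.card A)) :=
    (Equiv.permCongrHom (Finite.equivFin A)).toMonoidHom.comp (MulAction.toPermHom A A)
  have hemb : Function.Injective emb :=
    (Equiv.permCongrHom (Finite.equivFin A)).injective.comp (MulAction.toPerm_injective (α := A) (β := A))
  let c : A ≃* emb.range := MonoidHom.ofInjective hemb
  let σ : emb.range →* Act :=
    (ruEquiv.toMonoidHom.comp e.toMonoidHom).comp ((QuotientGroup.mk' (center A)).comp c.symm.toMonoidHom)
  have hs : Function.Surjective σ :=
    (ruEquiv.surjective.comp e.surjective).comp ((QuotientGroup.mk'_surjective _).comp c.symm.surjective)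
  have hk : ∀ x, x ∈ σ.ker ↔ c.symm x ∈ center A := fun x => by
    rw [MonoidHom.mem_ker]
    simp [σ, QuotientGroup.eq_one_iff]
  have hp : Group.IsPerfect emb.range := by
    rw [Group.isPerfect_def] at hA ⊢
    have h : (_root_.commutator emb.range).map c.symm.toMonoidHom = ⊤ := commutator_mul_ker hA c.symm.surjective
    exact Subgroup.map_injective c.symm.injective
      (h.trans (Subgroup.map_top_of_surjective c.symm.toMonoidHom c.symm.surjective).symm)
  have hker : σ.ker ≤ center emb.range := fun x hx => mem_center_iff.2 fun y => c.symm.injective (by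
    rw [map_mul, map_mul]; exact mem_center_iff.1 ((hk x).1 hx) _)
  have h2' : Nat.card σ.ker = 2 := by
    rw [← h2]
    exact Nat.card_congr (c.symm.toEquiv.subtypeEquiv hk)
  obtain ⟨i⟩ := iso_of_map hp σ hs hker h2'
  exact ⟨c.trans i⟩

end CfsgLib.RuStandard
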