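import Cfsg.Agent.Lib.RuStandard.ModelDefs

/-!
# The relations of the model
-/

set_option autoImplicit false
set_option Elab.async false
set_option maxRecDepth 100000

namespace CfsgLib.RuStandard

theorem def_ok : chkDef = true := by decide +kernel

theorem e_ok : chkE = true := by decide +kernel

theorem mj_ok : chkMJ = true := by decide +kernel

theorem sqJ_ok : chkSQJ = true := by decide +kernel

theorem cj_ok : chkCJ = true := by decide +kernel

theorem mq_ok : chkMQ = true := by decide +kernel

theorem rows_ok : chkRows = true := by decide +kernel

theorem four_ok : chkFour = true := by decide +kernel

theorem self_ok : chkSelf = true := by decide +kernel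

theorem cover_ok : chkCover = true := by decide +kernel

theorem ord_ok : chkOrd edges 0 = true := by decide +kernel

theorem root_ok : sqP (sqP 16909) = 15360 ∧ sqP (sqP 10073) = 15872 := by decide +kernel

theorem x_central : ((List.range 9).all fun j => Nat.beq (xorRows (mjT.getD j []) 30) 30) = true := by decide +kernel

end CfsgLib.RuStandard
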