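import Cfsg.Agent.Lib.RuStandard.ModelDefs

/-!
# The edges of the fusion forest (A)
-/

set_option autoImplicit false
set_option Elab.async false
set_option maxRecDepth 100000

namespace CfsgLib.RuStandard

theorem edge_ok_0 : edges_0.all chkEdge = true := by decide +kernel

theorem edge_ok_1 : edges_1.all chkEdge = true := by decide +kernel

theorem edge_ok_2 : edges_2.all chkEdge = true := by decide +kernel

theorem edge_ok_3 : edges_3.all chkEdge = true := by decide +kernel

theorem edge_ok_4 : edges_4.all chkEdge = true := by decide +kernel

end CfsgLib.RuStandard
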