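import Cfsg.Agent.Lib.RuStandard.ModelDefs

/-!
# The edges of the fusion forest (B)
-/

set_option autoImplicit false
set_option Elab.async false
set_option maxRecDepth 100000

namespace CfsgLib.RuStandard

theorem edge_ok_5 : edges_5.all chkEdge = true := by decide +kernel

theorem edge_ok_6 : edges_6.all chkEdge = true := by decide +kernel

theorem edge_ok_7 : edges_7.all chkEdge = true := by decide +kernel

theorem edge_ok_8 : edges_8.all chkEdge = true := by decide +kernel

theorem edge_ok_9 : edges_9.all chkEdge = true := by decide +kernel

end CfsgLib.RuStandard
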