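import Cfsg.Agent.Lib.RuStandard.ModelDefs

/-!
# The squares of the coset representatives (B)
-/

set_option autoImplicit false
set_option Elab.async false
set_option maxRecDepth 100000

namespace CfsgLib.RuStandard

theorem sq_ok_4 : chkSQ ((((List.range 512).zip sqT).drop 256).take 64) = true := by decide +kernel

theorem sq_ok_5 : chkSQ ((((List.range 512).zip sqT).drop 320).take 64) = true := by decide +kernel

theorem sq_ok_6 : chkSQ ((((List.range 512).zip sqT).drop 384).take 64) = true := by decide +kernel

theorem sq_ok_7 : chkSQ ((((List.range 512).zip sqT).drop 448).take 64) = true := by decide +kernel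

theorem sep_ok_B : chkSep 256 256 = true := by decide +kernel

end CfsgLib.RuStandard
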