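import Cfsg.Agent.Lib.RuStandard.Rep
import Cfsg.Agent.Lib.RuStandard.ModelCheckBase
import Cfsg.Agent.Lib.RuStandard.ModelCheckSqA
import Cfsg.Agent.Lib.RuStandard.ModelCheckSqB
import Cfsg.Agent.Lib.RuStandard.ModelCheckEdgeA
import Cfsg.Agent.Lib.RuStandard.ModelCheckEdgeB

/-!
# A subgroup of order `2 ^ 15` of the double cover of the Rudvalis group
-/

set_option autoImplicit false
set_option maxRecDepth 20000
set_option maxHeartbeats 1000000
set_option Elab.async false

namespace CfsgLib.RuStandard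

open Cfsg Cfsg.Spor CfsgLib.RuLattice CfsgLib.LyGTwo

/-! ## The letters in the double cover -/

/-- The letters and the involution. -/
def lettersW : List (List (List (ℕ × ℕ))) := letters ++ [matWF]

theorem letters_ok : letters.all (SF.okGen 28) = true ∧ lettersW.all (SF.okGen 28) = true ∧
    SF.beqL (SF.idP 28) ((SF.idL 28).map SF.pk) = true := by decide +kernel

theorem base_words : SF.sameW 28 lettersW lettersW (List.replicate 29 0) [16] = true ∧
    SF.sameW 28 lettersW lettersW [1, 0] [] = true ∧ SF.sameW 28 lettersW lettersW [22, 22] [] = true ∧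
    SF.sameW 28 lettersW lettersW [22, 0, 22] [2] = true ∧ SF.sameW 28 lettersW lettersW [22, 1, 22] [3] = true := by
  decide +kernel

theorem central_entries : ((List.finRange 28).all fun j : Fin 28 => (List.finRange 28).all fun k : Fin 28 =>
    decide (SF.genMat 28 (lettersW.getD 16 []) j k = if j = k then (4 : ZMod 5) else 0)) = true := by
  decide +kernel

/-- The matrix modulo `i - 2` of a table. -/
def tabMat (N : List (List ℤ)) : Matrix (Fin 28) (Fin 28) (ZMod 5) :=
  Matrix.of fun j k => (((N.getD (2 * j.val) []).getD (2 * k.val) 0 +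
    2 * (N.getD (2 * j.val) []).getD (2 * k.val + 1) 0 : ℤ) : ZMod 5)

theorem tab_entries : ([(matU, 0), (matUinv, 1), (matW, 22)].all fun e => (List.finRange 28).all fun j : Fin 28 =>
    (List.finRange 28).all fun k : Fin 28 =>
      decide (tabMat e.1 j k = SF.genMat 28 (lettersW.getD e.2 []) j k)) = true := by
  decide +kernel

theorem tab_eq {N : List (List ℤ)} {i : ℕ} (h : (N, i) ∈ [(matU, 0), (matUinv, 1), (matW, 22)]) :
    tabMat N = SF.genMat 28 (lettersW.getD i []) := by
  ext j k
  exact decide_eq_true_iff.1 (List.all_eq_true.1 (List.all_eq_true.1 (List.all_eq_true.1 tab_entries _ h) j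
    (List.mem_finRange j)) k (List.mem_finRange k))

theorem exists_rep {N N' : List (List ℤ)} (h : autOK N N' = true) : ∃ g : fourRu, rep5 g = tabMat N := by
  obtain ⟨g, hg⟩ := exists_aut h
  simp only [autOK, Bool.and_eq_true, decide_eq_true_eq, List.all_eq_true] at h
  obtain ⟨⟨⟨⟨⟨⟨⟨hN, -⟩, hr⟩, -⟩, -⟩, -⟩, -⟩, -⟩ := h
  refine ⟨g⁻¹, ?_⟩
  show redMat g⁻¹⁻¹ = _
  rw [inv_inv]
  ext j k
  show fHom (g.1 (bLat (evn j))) k = _
  rw [hg, linM_bLat]
  have hlen : (N.getD (evn j).val []).length = 56 := by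
    rw [List.getD_eq_getElem _ _ (show (evn j).val < N.length by rw [hN]; exact (evn j).isLt)]
    exact hr _ (List.getElem_mem _)
  rw [fHom_apply, crd_rowVec hlen, crd_rowVec hlen]
  rfl

theorem wordMat_nil {n : ℕ} (G : List (List (List (ℕ × ℕ)))) : SF.wordMat n G [] = 1 := rfl

theorem wordMat_one {n : ℕ} (G : List (List (List (ℕ × ℕ)))) (a : ℕ) :
    SF.wordMat n G [a] = SF.genMat n (G.getD a []) := by simp [SF.wordMat]

theorem sound_W {w w' : List ℕ} (h : SF.sameW 28 lettersW lettersW w w' = true) :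
    SF.wordMat 28 lettersW w = SF.wordMat 28 lettersW w' :=
  SF.sameW_sound letters_ok.2.1 letters_ok.2.1 (SF.eq_of_beqL letters_ok.2.2) h

theorem lettersW_low {k : ℕ} (hk : k < 22) : lettersW.getD k [] = letters.getD k [] := by
  have hl : letters.length = 22 := rfl
  rw [List.getD_eq_getElem?_getD, List.getD_eq_getElem?_getD, lettersW,
    List.getElem?_append_left (by omega)]

/-- A letter is the image of an element of the double cover. -/
def Realised (k : ℕ) : Prop := ∃ g : Dbl, rep5 g.1 = SF.genMat 28 (letters.getD k [])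

theorem realised_base : ∀ k < 4, Realised k := by
  obtain ⟨U, hU⟩ := exists_rep matU_ok
  obtain ⟨W, hW⟩ := exists_rep matW_ok
  rw [tab_eq (i := 0) (by simp)] at hU
  rw [tab_eq (i := 22) (by simp)] at hW
  obtain ⟨b1, b2, b3, b4, b5⟩ := base_words
  have hUm : U ∈ commutator fourRu := by
    have h29 : U ^ 29 = scal ^ 2 := rep5_injective (by
      have h := sound_W b1
      rw [wordMat_one, SF.wordMat, List.map_replicate, List.prod_replicate, ← hU, ← map_pow] at h
      rw [h, rep5_scal_pow]
      ext j k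
      rw [decide_eq_true_iff.1 (List.all_eq_true.1 (List.all_eq_true.1 central_entries j (List.mem_finRange j)) k
        (List.mem_finRange k)), Matrix.smul_apply, Matrix.one_apply]
      split_ifs
      · decide
      · simp)
    obtain ⟨s, hs, i, rfl⟩ := surj_mod U
    have hcomm : Commute s (scal ^ i) := kerSub_central (kerSub.pow_mem scal_mem_ker i) s
    rw [hcomm.mul_pow, ← pow_mul] at h29
    have hm : scal ^ (i * 29) ∈ commutator fourRu := by
      rw [eq_inv_mul_of_mul_eq h29]
      exact mul_mem (inv_mem (pow_mem hs 29)) sq_mem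
    refine mul_mem hs ?_
    rwa [← pow_mod_orderOf, orderOf_scal, show i * 29 % 4 = i % 4 by omega, ← orderOf_scal, pow_mod_orderOf] at hm
  have hUi : rep5 U⁻¹ = SF.genMat 28 (lettersW.getD 1 []) := by
    have h := sound_W b2
    rw [wordMat_nil, SF.wordMat] at h
    simp only [List.map_cons, List.map_nil, List.prod_cons, List.prod_nil, mul_one, ← hU] at h
    calc rep5 U⁻¹ = SF.genMat 28 (lettersW.getD 1 []) * rep5 U * rep5 U⁻¹ := by rw [h, one_mul]
      _ = _ := by rw [mul_assoc, ← map_mul, mul_inv_cancel, map_one, mul_one]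
  have hWW : W⁻¹ = W := inv_eq_of_mul_eq_one_right (rep5_injective (by
    have h := sound_W b3
    rw [wordMat_nil, SF.wordMat] at h
    simp only [List.map_cons, List.map_nil, List.prod_cons, List.prod_nil, mul_one, ← hW] at h
    rw [map_mul, map_one, h]))
  have hconj : ∀ g ∈ commutator fourRu, W * g * W ∈ commutator fourRu := fun g hg => by
    have h := (inferInstance : (commutator fourRu).Normal).conj_mem g hg W
    rwa [hWW] at h
  intro k hk
  interval_cases k
  · exact ⟨⟨U, hUm⟩, by rw [hU, lettersW_low (by norm_num)]⟩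
  · exact ⟨⟨U⁻¹, inv_mem hUm⟩, by rw [hUi, lettersW_low (by norm_num)]⟩
  · refine ⟨⟨W * U * W, hconj U hUm⟩, ?_⟩
    have h := sound_W b4
    rw [wordMat_one, lettersW_low (k := 2) (by norm_num), SF.wordMat] at h
    simp only [List.map_cons, List.map_nil, List.prod_cons, List.prod_nil, mul_one, ← hW, ← hU] at h
    rw [← h, map_mul, map_mul, mul_assoc]
  · refine ⟨⟨W * U⁻¹ * W, hconj _ (inv_mem hUm)⟩, ?_⟩
    have h := sound_W b5
    rw [wordMat_one, lettersW_low (k := 3) (by norm_num), SF.wordMat] at h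
    simp only [List.map_cons, List.map_nil, List.prod_cons, List.prod_nil, mul_one, ← hW, ← hUi] at h
    rw [← h, map_mul, map_mul, mul_assoc]

theorem sound {w w' : List ℕ} (h : eqW w w' = true) : SF.wordMat 28 letters w = SF.wordMat 28 letters w' :=
  SF.sameW_sound letters_ok.1 letters_ok.1 (SF.eq_of_beqL letters_ok.2.2) h

theorem realised (k : ℕ) (hk : k < 22) : Realised k := by
  induction k using Nat.strong_induction_on with
  | _ k ih =>
    by_cases h4 : k < 4
    · exact realised_base k h4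
    · have h := List.all_eq_true.1 def_ok (k - 4) (List.mem_range.2 (by omega))
      simp only [Bool.and_eq_true, List.all_eq_true, Nat.blt_eq] at h
      obtain ⟨hlt, he⟩ := h
      rw [show k - 4 + 4 = k by omega] at hlt he
      have hw : ∀ w : List ℕ, (∀ g ∈ w, g < k) → ∃ g : Dbl, rep5 g.1 = SF.wordMat 28 letters w := by
        intro w
        induction w with
        | nil => exact fun _ => ⟨1, by rw [Subgroup.coe_one, map_one, wordMat_nil]⟩
        | cons a w iw =>
          intro hm
          have ha := hm a List.mem_cons_self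
          obtain ⟨g, hg⟩ := ih a ha (by omega)
          obtain ⟨r, hr⟩ := iw fun b hb => hm b (List.mem_cons_of_mem _ hb)
          exact ⟨g * r, by rw [Subgroup.coe_mul, map_mul, hg, hr]; rfl⟩
      obtain ⟨g, hg⟩ := hw _ hlt
      exact ⟨g, by rw [hg, sound he, wordMat_one]⟩

/-- The elements of the letters. -/
noncomputable def gam (k : ℕ) : Dbl := if h : k < 22 then (realised k h).choose else 1

/-- The element of a word. -/
noncomputable def ev (w : List ℕ) : Dbl := (w.map gam).prod

theorem ev_nil : ev [] = 1 := rfl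

theorem ev_cons (a : ℕ) (w : List ℕ) : ev (a :: w) = gam a * ev w := rfl

theorem ev_append (w w' : List ℕ) : ev (w ++ w') = ev w * ev w' := by
  rw [ev, List.map_append, List.prod_append]; rfl

theorem ev_one (a : ℕ) : ev [a] = gam a := by rw [ev_cons, ev_nil, mul_one]

theorem rep_ev : ∀ {w : List ℕ}, (∀ g ∈ w, g < 22) → rep5 (ev w).1 = SF.wordMat 28 letters w
  | [], _ => by rw [ev_nil, Subgroup.coe_one, map_one, wordMat_nil]
  | a :: w, h => by
    rw [ev_cons, Subgroup.coe_mul, map_mul, gam, dif_pos (h a List.mem_cons_self),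
      (realised a (h a List.mem_cons_self)).choose_spec, rep_ev fun g hg => h g (List.mem_cons_of_mem _ hg)]
    rfl

theorem ev_eq {w w' : List ℕ} (h : eqW w w' = true) : ev w = ev w' := by
  have hs := sound h
  simp only [eqW, SF.sameW, Bool.and_eq_true, List.all_eq_true, Nat.blt_eq] at h
  rw [show letters.length = 22 from rfl] at h
  exact Subtype.ext (rep5_injective (by rw [rep_ev h.1.1, rep_ev h.1.2, hs]))

theorem row_eq {w w' : List ℕ} (hw : ∀ g ∈ w, g < 22) (hw' : ∀ g ∈ w', g < 22) (h : ev w = ev w') :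
    rowW w = rowW w' := by
  have hm : SF.wordMat 28 letters w = SF.wordMat 28 letters w' := by rw [← rep_ev hw, ← rep_ev hw', h]
  have hok : ∀ g, g < 22 → SF.okGen 28 (letters.getD g []) = true := fun g hg => by
    rw [List.getD_eq_getElem _ _ (show g < letters.length from hg)]
    exact List.all_eq_true.1 letters_ok.1 _ (List.getElem_mem _)
  obtain ⟨e1, e2, e3, e4⟩ := SF.eval_spec letters (SF.eq_of_beqL letters_ok.2.2) w fun g hg => hok g (hw g hg)
  obtain ⟨d1, d2, d3, d4⟩ := SF.eval_spec letters (SF.eq_of_beqL letters_ok.2.2) w' fun g hg => hok g (hw' g hg)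
  have ht : SF.toMat 28 (SF.evalL 28 letters w) = SF.toMat 28 (SF.evalL 28 letters w') := by rw [e4, d4]; exact hm
  have hl : SF.evalL 28 letters w = SF.evalL 28 letters w' := by
    refine List.ext_getElem (e3.trans d3.symm) fun i h1 h2 => ?_
    obtain ⟨l1, b1⟩ := e2 _ (List.getElem_mem h1)
    obtain ⟨l2, b2⟩ := d2 _ (List.getElem_mem h2)
    refine List.ext_getElem (l1.trans l2.symm) fun j g1 g2 => ?_
    have := congrFun (congrFun ht ⟨i, by omega⟩) ⟨j, by omega⟩
    simp only [SF.toMat, Matrix.of_apply] at this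
    rw [List.getD_eq_getElem _ [] h1, List.getD_eq_getElem _ [] h2, List.getD_eq_getElem _ 0 g1,
      List.getD_eq_getElem _ 0 g2, ZMod.natCast_eq_natCast_iff'] at this
    have := b1 _ (List.getElem_mem g1)
    have := b2 _ (List.getElem_mem g2)
    omega
  rw [rowW, rowW, e1, d1, hl]

/-! ## Words at bits -/

theorem beqT {a b : ℕ} (h : a = b) : Nat.beq a b = true := by rw [Nat.beq_eq]; exact h

theorem beqF {a b : ℕ} (h : ¬ a = b) : Nat.beq a b = false := by
  rw [← Bool.not_eq_true, Nat.beq_eq]; exact h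

theorem bitsW_mem : ∀ {n b a k : ℕ}, k ∈ bitsW b n a → b ≤ k ∧ k < b + n
  | 0, b, a, k, h => by simp [bitsW] at h
  | n + 1, b, a, k, h => by
    rw [bitsW, List.mem_append] at h
    rcases h with h | h
    · cases hb : Nat.beq (a % 2) 1 <;> simp [hb] at h
      omega
    · have := bitsW_mem h; omega

theorem ev_bits (b n a : ℕ) :
    ev (bitsW b (n + 1) a) = (if a % 2 = 1 then gam b else 1) * ev (bitsW (b + 1) n (a / 2)) := by
  rw [bitsW, ev_append]
  congr 1
  by_cases h : a % 2 = 1
  · rw [if_pos h, beqT h, cond_true, ev_one]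
  · have := beqF h
    rw [if_neg h, this, cond_false, ev_nil]

theorem bitsW_zero : ∀ n b : ℕ, bitsW b n 0 = []
  | 0, b => rfl
  | n + 1, b => by rw [bitsW]; simp [bitsW_zero n, show Nat.beq 0 1 = false from rfl]

theorem bitsW_pow : ∀ {n d : ℕ} (b : ℕ), d < n → bitsW b n (2 ^ d) = [b + d]
  | n + 1, 0, b, _ => by rw [bitsW]; simp [bitsW_zero]
  | n + 1, d + 1, b, h => by
    rw [bitsW, show 2 ^ (d + 1) % 2 = 0 by rw [pow_succ]; omega, show 2 ^ (d + 1) / 2 = 2 ^ d by rw [pow_succ]; omega,
      bitsW_pow (b + 1) (by omega)]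
    simp [add_assoc, add_comm 1 d, show Nat.beq 0 1 = false from rfl]

theorem bitsW_high : ∀ {n : ℕ} (k b a : ℕ), a % 2 ^ k = 0 → bitsW b (k + n) a = bitsW (b + k) n (a / 2 ^ k)
  | n, 0, b, a, _ => by simp
  | n, k + 1, b, a, h => by
    have h2 : a % 2 = 0 ∧ a / 2 % 2 ^ k = 0 := by
      rw [pow_succ'] at h
      constructor
      · have := Nat.mod_mod_of_dvd a (show 2 ∣ 2 * 2 ^ k from dvd_mul_right 2 _)
        rw [h] at this
        omega
      · rw [← Nat.mod_mul_right_div_self, h]
    rw [show k + 1 + n = k + n + 1 by omega, bitsW, h2.1]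
    simp only [show Nat.beq 0 1 = false from rfl, cond_false, List.nil_append]
    rw [bitsW_high k (b + 1) (a / 2) h2.2, Nat.div_div_eq_div_mul, ← pow_succ', show b + 1 + k = b + (k + 1) by omega]

/-! ## The elementary subgroup -/

/-- The elements of the elementary subgroup. -/
noncomputable def evE (v : ℕ) : Dbl := ev (wE v)

theorem e_gens {i : ℕ} (hi : i < 6) :
    gam (16 + i) * gam (16 + i) = 1 ∧ ∀ k < 6, Commute (gam (16 + i)) (gam (16 + k)) := by
  have h := List.all_eq_true.1 e_ok i (List.mem_range.2 hi)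
  simp only [Bool.and_eq_true, List.all_eq_true, List.mem_range] at h
  refine ⟨by simpa only [ev_cons, ev_nil, mul_one] using ev_eq h.1, fun k hk => ?_⟩
  have := ev_eq (h.2 k hk)
  simp only [ev_cons, ev_nil, mul_one] at this
  exact this

theorem bits_xor : ∀ {n b : ℕ}, 16 ≤ b → b + n ≤ 22 → ∀ a c : ℕ,
    ev (bitsW b n (a ^^^ c)) = ev (bitsW b n a) * ev (bitsW b n c)
  | 0, b, _, _, a, c => by simp [bitsW, ev_nil]
  | n + 1, b, hb, hn, a, c => by
    obtain ⟨hsq, hcm⟩ := e_gens (show b - 16 < 6 by omega)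
    rw [show 16 + (b - 16) = b by omega] at hsq hcm
    have hrest : Commute (gam b) (ev (bitsW (b + 1) n (a / 2))) := by
      refine Commute.list_prod_right _ _ fun x hx => ?_
      obtain ⟨k, hk, rfl⟩ := List.mem_map.1 hx
      have hk' := bitsW_mem hk
      have := hcm (k - 16) (by omega)
      rwa [show 16 + (k - 16) = k by omega] at this
    have ih := bits_xor (n := n) (b := b + 1) (by omega) (by omega) (a / 2) (c / 2)
    rw [ev_bits, ev_bits, ev_bits, Nat.xor_div_two, ih]
    have hm : (a ^^^ c) % 2 = (a % 2 + c % 2) % 2 := by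
      rcases Nat.mod_two_eq_zero_or_one a with ha | ha <;> rcases Nat.mod_two_eq_zero_or_one c with hc | hc <;>
        simp [Nat.xor_mod_two_eq, ha, hc] <;> omega
    rcases Nat.mod_two_eq_zero_or_one a with ha | ha <;> rcases Nat.mod_two_eq_zero_or_one c with hc | hc <;>
      simp only [hm, ha, hc, zero_ne_one, if_false, if_true, Nat.reduceAdd, Nat.reduceMod, one_mul,
        mul_assoc]
    · rw [← mul_assoc (ev (bitsW (b + 1) n (a / 2))), ← hrest.eq, mul_assoc]
    · rw [← mul_assoc (ev (bitsW (b + 1) n (a / 2))), ← hrest.eq, mul_assoc, ← mul_assoc, hsq, one_mul]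

theorem evE_xor (a c : ℕ) : evE (a ^^^ c) = evE a * evE c := bits_xor (le_refl 16) (le_refl 22) a c

theorem evE_zero : evE 0 = 1 := by rw [evE, wE, bitsW_zero, ev_nil]

theorem evE_self (a : ℕ) : evE a * evE a = 1 := by rw [← evE_xor, Nat.xor_self, evE_zero]

theorem evE_inv (a : ℕ) : (evE a)⁻¹ = evE a := inv_eq_of_mul_eq_one_right (evE_self a)

theorem evE_comm (a c : ℕ) : evE a * evE c = evE c * evE a := by rw [← evE_xor, ← evE_xor, Nat.xor_comm]

theorem evE_pow {i : ℕ} (hi : i < 6) : evE (2 ^ i) = gam (16 + i) := by rw [evE, wE, bitsW_pow _ hi, ev_one]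

theorem wE_lt (v : ℕ) : ∀ g ∈ wE v, g < 22 := fun g hg => by have := bitsW_mem hg; omega

theorem wR_lt (q : ℕ) : ∀ g ∈ wR q, g < 22 := fun g hg => by have := bitsW_mem hg; omega

/-- Moving a letter across the elementary subgroup. -/
theorem conj_bits (g : Dbl) : ∀ (rows : List ℕ) (b : ℕ),
    (∀ i < rows.length, gam (b + i) * g = g * evE (rows.getD i 0)) →
      ∀ v, ev (bitsW b rows.length v) * g = g * evE (xorRows rows v)
  | [], b, _, v => by simp [bitsW, ev_nil, xorRows, evE_zero]
  | r :: rows, b, h, v => by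
    rw [List.length_cons, ev_bits, xorRows, evE_xor, mul_assoc,
      conj_bits g rows (b + 1) (fun i hi => by
        have := h (i + 1) (by simp; omega)
        rwa [← add_assoc, add_right_comm, List.getD_cons_succ] at this) (v / 2), ← mul_assoc]
    by_cases hv : v % 2 = 1
    · rw [if_pos hv, beqT hv, cond_true]
      have h0 := h 0 (by simp)
      rw [add_zero, List.getD_cons_zero] at h0
      rw [h0, mul_assoc]
    · have := beqF hv
      rw [if_neg hv, this, cond_false, evE_zero, one_mul, one_mul]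

theorem mj_conj {j : ℕ} (hj : j < 9) (v : ℕ) :
    evE v * gam (7 + j) = gam (7 + j) * evE (xorRows (mjT.getD j []) v) := by
  have h := List.all_eq_true.1 mj_ok j (List.mem_range.2 hj)
  simp only [Bool.and_eq_true, List.all_eq_true, List.mem_range, Nat.beq_eq] at h
  have := conj_bits (gam (7 + j)) (mjT.getD j []) 16 (fun i hi => by
    have := ev_eq (h.2 i (h.1 ▸ hi)).2
    simpa only [ev_cons, ev_nil, mul_one, evE] using this) v
  rwa [h.1] at this

theorem mqF_conj : ∀ {n j : ℕ}, j + n ≤ 9 → ∀ a v,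
    evE v * ev (bitsW (7 + j) n a) = ev (bitsW (7 + j) n a) * evE (mqF j n a v)
  | 0, j, _, a, v => by simp [bitsW, ev_nil, mqF]
  | n + 1, j, h, a, v => by
    rw [ev_bits, mqF, ← mul_assoc]
    by_cases ha : a % 2 = 1
    · rw [if_pos ha, beqT ha, cond_true, mj_conj (by omega), mul_assoc, add_assoc,
        mqF_conj (n := n) (j := j + 1) (by omega), ← mul_assoc]
    · have := beqF ha
      rw [if_neg ha, this, cond_false, mul_one, one_mul, add_assoc, mqF_conj (n := n) (j := j + 1) (by omega)]

/-- The table entry of a coset representative. -/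
def rowOf (q : ℕ) : ℕ × List ℕ := sqT.getD q (0, [])

theorem zip_mem {q : ℕ} (hq : q < 512) : (q, rowOf q) ∈ (List.range 512).zip sqT := by
  have hl : sqT.length = 512 := by
    have h := mq_ok
    simp only [chkMQ, Bool.and_eq_true, Nat.beq_eq] at h
    exact h.1
  refine List.mem_iff_getElem.2 ⟨q, by simp [hl, hq], ?_⟩
  rw [List.getElem_zip, List.getElem_range, rowOf, List.getD_eq_getElem _ _ (by omega)]

theorem mq_facts {q : ℕ} (hq : q < 512) : (rowOf q).2.length = 6 ∧ (rowOf q).1 < 32768 ∧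
    ∀ i < 6, mqF 0 9 q (2 ^ i) = (rowOf q).2.getD i 0 := by
  have h := mq_ok
  simp only [chkMQ, Bool.and_eq_true, List.all_eq_true] at h
  have := h.2 _ (zip_mem hq)
  simp only [Nat.beq_eq, Nat.blt_eq, List.mem_range] at this
  exact ⟨this.1.1, this.1.2, this.2⟩

/-- The action of a coset representative. -/
def mqV (q v : ℕ) : ℕ := xorRows (rowOf q).2 v

theorem rep_conj {q : ℕ} (hq : q < 512) (v : ℕ) : evE v * ev (wR q) = ev (wR q) * evE (mqV q v) := by
  obtain ⟨hl, -, he⟩ := mq_facts hq
  have := conj_bits (ev (wR q)) (rowOf q).2 16 (fun i hi => by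
    rw [← evE_pow (hl ▸ hi), ← he i (hl ▸ hi)]
    exact mqF_conj (n := 9) (j := 0) (le_refl 9) q (2 ^ i)) v
  rwa [hl] at this

/-! ## The chain -/

theorem exists_double {G : Type*} [Group G] [Finite G] (H : Subgroup G) (g : G) (hg : g * g ∈ H)
    (hc : ∀ h ∈ H, g⁻¹ * h * g ∈ H) (hn : g ∉ H) :
    ∃ K : Subgroup G, Nat.card K = 2 * Nat.card H ∧ ∀ x, x ∈ K ↔ x ∈ H ∨ g⁻¹ * x ∈ H := by
  let K : Subgroup G :=
    { carrier := {x | x ∈ H ∨ g⁻¹ * x ∈ H}
      one_mem' := Or.inl H.one_mem
      mul_mem' := by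
        rintro x y (hx | hx) (hy | hy)
        · exact Or.inl (mul_mem hx hy)
        · refine Or.inr ?_
          rw [show g⁻¹ * (x * y) = g⁻¹ * x * g * (g⁻¹ * y) by group]
          exact mul_mem (hc x hx) hy
        · refine Or.inr ?_
          rw [← mul_assoc]
          exact mul_mem hx hy
        · refine Or.inl ?_
          rw [show x * y = g * g * (g⁻¹ * (g⁻¹ * x) * g) * (g⁻¹ * y) by group]
          exact mul_mem (mul_mem hg (hc _ hx)) hy
      inv_mem' := by
        rintro x (hx | hx)
        · exact Or.inl (inv_mem hx)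
        · refine Or.inr ?_
          rw [show g⁻¹ * x⁻¹ = g⁻¹ * (g⁻¹ * x)⁻¹ * g * (g * g)⁻¹ by group]
          exact mul_mem (hc _ (inv_mem hx)) (inv_mem hg) }
  refine ⟨K, ?_, fun x => Iff.rfl⟩
  let f : Bool × H → K := fun e => ⟨bif e.1 then g * e.2.1 else e.2.1, by
    cases e.1
    · exact Or.inl e.2.2
    · exact Or.inr (by rw [cond_true, inv_mul_cancel_left]; exact e.2.2)⟩
  have hf : Function.Bijective f := by
    refine ⟨?_, fun x => ?_⟩
    · rintro ⟨a, h⟩ ⟨a', h'⟩ e
      have e' := congrArg Subtype.val e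
      cases a <;> cases a' <;> simp only [f, cond_true, cond_false] at e'
      · rw [Subtype.ext e']
      · refine absurd ?_ hn
        rw [eq_mul_inv_of_mul_eq e'.symm]
        exact mul_mem h.2 (inv_mem h'.2)
      · refine absurd ?_ hn
        rw [eq_mul_inv_of_mul_eq e']
        exact mul_mem h'.2 (inv_mem h.2)
      · rw [Subtype.ext (mul_left_cancel e')]
    · rcases x.2 with h | h
      · exact ⟨(false, ⟨x.1, h⟩), rfl⟩
      · exact ⟨(true, ⟨g⁻¹ * x.1, h⟩), Subtype.ext (mul_inv_cancel_left g x.1)⟩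
  rw [← Nat.card_eq_of_bijective f hf, Nat.card_prod, Nat.card_eq_fintype_card, Fintype.card_bool]

/-- The elementary subgroup. -/
noncomputable def eSub : Subgroup Dbl where
  carrier := {x | ∃ v < 64, x = evE v}
  one_mem' := ⟨0, by norm_num, evE_zero.symm⟩
  mul_mem' := by
    rintro _ _ ⟨a, ha, rfl⟩ ⟨c, hc, rfl⟩
    exact ⟨a ^^^ c, Nat.xor_lt_two_pow (n := 6) ha hc, (evE_xor a c).symm⟩
  inv_mem' := by
    rintro _ ⟨a, ha, rfl⟩
    exact ⟨a, ha, evE_inv a⟩

theorem rows_facts : erowT.length = 64 ∧ (∀ v < 64, rowW (wE v) = erowT.getD v 0) ∧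
    ∀ v < 64, ∀ u < v, erowT.getD v 0 ≠ erowT.getD u 0 := by
  have h := rows_ok
  simp only [chkRows, Bool.and_eq_true, List.all_eq_true, List.mem_range, Nat.beq_eq] at h
  refine ⟨h.1.1, h.1.2, fun v hv u hu => ?_⟩
  have := h.2 v hv u hu
  simp only [Bool.not_eq_true'] at this
  exact Nat.ne_of_beq_eq_false this

theorem evE_inj {a c : ℕ} (ha : a < 64) (hc : c < 64) (h : evE a = evE c) : a = c := by
  obtain ⟨-, hr, hne⟩ := rows_facts
  have := row_eq (wE_lt a) (wE_lt c) h
  rw [hr a ha, hr c hc] at this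
  rcases Nat.lt_trichotomy a c with hl | he | hl
  · exact absurd this.symm (hne c hc a hl)
  · exact he
  · exact absurd this (hne a ha c hl)

theorem card_eSub : Nat.card eSub = 64 := by
  rw [← Nat.card_fin 64]
  symm
  refine Nat.card_eq_of_bijective (fun v : Fin 64 => (⟨evE v, v, v.isLt, rfl⟩ : eSub)) ⟨fun a c h => ?_, ?_⟩
  · exact Fin.ext (evE_inj a.isLt c.isLt (congrArg Subtype.val h))
  · rintro ⟨_, v, hv, rfl⟩
    exact ⟨⟨v, hv⟩, rfl⟩

theorem sep {q : ℕ} (hq : q < 512) (h0 : q ≠ 0) {v : ℕ} (hv : v < 64) : ev (wR q) ≠ evE v := by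
  intro h
  have hr := row_eq (wR_lt q) (wE_lt v) h
  obtain ⟨hl, he, -⟩ := rows_facts
  rw [he v hv] at hr
  have hmem : erowT.getD v 0 ∈ erowT := by
    rw [List.getD_eq_getElem _ _ (by omega)]; exact List.getElem_mem _
  have key : ∀ lo n, chkSep lo n = true → q ∈ List.range' lo n → False := fun lo n hc hm => by
    have := List.all_eq_true.1 hc q hm
    simp only [Bool.or_eq_true, Nat.beq_eq, List.all_eq_true, Bool.not_eq_true'] at this
    rcases this with h1 | h1
    · exact h0 h1
    · exact Nat.ne_of_beq_eq_false (h1 _ hmem) hr.symm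
  rcases Nat.lt_or_ge q 256 with hl' | hl'
  · exact key 0 256 sep_ok_A (List.mem_range'_1.2 (by omega))
  · exact key 256 256 sep_ok_B (List.mem_range'_1.2 (by omega))

theorem chain : ∀ n ≤ 9, ∃ K : Subgroup Dbl, Nat.card K = 2 ^ (n + 6) ∧
    ∀ x, x ∈ K ↔ ∃ a < 2 ^ n, ∃ v < 64, x = ev (bitsW (16 - n) n a) * evE v := by
  have := fourRu_finite
  intro n
  induction n with
  | zero =>
    intro _
    refine ⟨eSub, card_eSub, fun x => ?_⟩
    simp only [pow_zero, Nat.lt_one_iff, exists_eq_left, bitsW, ev_nil, one_mul]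
    exact Iff.rfl
  | succ n ih =>
    intro hn
    obtain ⟨H, hcard, hmem⟩ := ih (by omega)
    obtain ⟨j, hj⟩ : ∃ j, j + n = 8 := ⟨8 - n, by omega⟩
    have hb : 16 - n = 7 + (j + 1) := by omega
    have hH : ∀ {a v}, a < 2 ^ n → v < 64 → ev (bitsW (7 + (j + 1)) n a) * evE v ∈ H := fun ha hv =>
      (hmem _).2 ⟨_, ha, _, hv, by rw [hb]⟩
    have hP : ∀ p < 32768, p % 512 % 2 ^ (j + 1) = 0 → ev (wP p) ∈ H := fun p hp h => by
      rw [wP, ev_append, wR, show 9 = j + 1 + n by omega, bitsW_high (j + 1) 7 _ h]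
      refine hH ?_ (by omega)
      rw [Nat.div_lt_iff_lt_mul (by positivity), ← pow_add, show n + (j + 1) = 9 by omega]
      omega
    have hsq : gam (7 + j) * gam (7 + j) ∈ H := by
      have h := List.all_eq_true.1 sqJ_ok j (List.mem_range.2 (by omega))
      simp only [Bool.and_eq_true, Nat.beq_eq] at h
      have e := ev_eq h.2
      simp only [ev_cons, ev_nil, mul_one] at e
      rw [e]
      exact hP _ ((by decide +kernel : ∀ j < 9, sqJ.getD j 0 < 32768) j (by omega)) h.1
    have hE : ∀ v < 64, (gam (7 + j))⁻¹ * evE v * gam (7 + j) ∈ H := fun v _ => by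
      rw [mul_assoc, mj_conj (by omega), inv_mul_cancel_left]
      have hx : ∀ (rows : List ℕ) (w : ℕ), (∀ r ∈ rows, r < 64) → xorRows rows w < 64 := by
        intro rows
        induction rows with
        | nil => intro w _; simp [xorRows]
        | cons r rs ir =>
          intro w hr
          refine Nat.xor_lt_two_pow (n := 6) ?_ (ir _ fun s hs => hr s (List.mem_cons_of_mem _ hs))
          cases Nat.beq (w % 2) 1
          · norm_num
          · exact hr r List.mem_cons_self
      have hlt : ∀ i < 9, ∀ r ∈ mjT.getD i [], r < 64 := by decide +kernel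
      have h0 := hH (Nat.two_pow_pos n) (hx (mjT.getD j []) v (hlt j (by omega)))
      rwa [bitsW_zero, ev_nil, one_mul] at h0
    have hgen : ∀ d < n, (gam (7 + j))⁻¹ * gam (7 + (j + 1) + d) * gam (7 + j) ∈ H := fun d hd => by
      have h := List.all_eq_true.1 (List.all_eq_true.1 cj_ok j (List.mem_range.2 (by omega))) d
        (List.mem_range.2 (by omega))
      simp only [Bool.and_eq_true, Nat.beq_eq] at h
      have e := ev_eq h.2
      simp only [ev_cons, ev_nil, mul_one] at e
      rw [mul_assoc, add_assoc, e, inv_mul_cancel_left]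
      exact hP _ ((by decide +kernel : ∀ i < 9, ∀ k < 8 - i, (cjT.getD i []).getD k 0 < 32768) j (by omega) d
        (by omega)) h.1
    have hconj : ∀ h ∈ H, (gam (7 + j))⁻¹ * h * gam (7 + j) ∈ H := fun h hh => by
      let C : Subgroup Dbl := H.comap (MulAut.conj (gam (7 + j))⁻¹).toMonoidHom
      have hC : ∀ x, x ∈ C ↔ (gam (7 + j))⁻¹ * x * gam (7 + j) ∈ H := fun x => by
        simp [C, MulAut.conj_apply]
      rw [← hC]
      obtain ⟨a, ha, v, hv, rfl⟩ := (hmem h).1 hh
      rw [hb]
      refine mul_mem (list_prod_mem fun x hx => ?_) ((hC _).2 (hE v hv))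
      obtain ⟨k, hk, rfl⟩ := List.mem_map.1 hx
      have hk' := bitsW_mem hk
      rw [hC]
      have := hgen (k - (7 + (j + 1))) (by omega)
      rwa [show 7 + (j + 1) + (k - (7 + (j + 1))) = k by omega] at this
    have hnot : gam (7 + j) ∉ H := fun hg => by
      obtain ⟨a, ha, v, hv, e⟩ := (hmem _).1 (inv_mem hg)
      rw [hb] at e
      have e2 : ev (bitsW (7 + j) (n + 1) (1 + 2 * a)) = evE v := by
        rw [ev_bits, if_pos (by omega), show (1 + 2 * a) / 2 = a by omega, add_assoc,
          ← mul_inv_cancel_right (ev (bitsW _ n a)) (evE v), ← e, evE_inv, mul_inv_cancel_left]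
      have hlt : 2 ^ j * (1 + 2 * a) < 512 := by
        calc 2 ^ j * (1 + 2 * a) < 2 ^ j * 2 ^ (n + 1) := by
              refine Nat.mul_lt_mul_of_pos_left ?_ (Nat.two_pow_pos j)
              rw [pow_succ]; omega
          _ = 512 := by rw [← pow_add, show j + (n + 1) = 9 by omega]; norm_num
      refine sep hlt (Nat.mul_ne_zero (by positivity) (by omega)) hv ?_
      rw [wR, show 9 = j + (n + 1) by omega, bitsW_high j 7 _ (Nat.mul_mod_right _ _),
        Nat.mul_div_cancel_left _ (Nat.two_pow_pos j)]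
      exact e2
    obtain ⟨K, hK, hKm⟩ := exists_double H _ hsq hconj hnot
    refine ⟨K, by rw [hK, hcard]; ring, fun x => ?_⟩
    rw [show 16 - (n + 1) = 7 + j by omega, hKm, hmem, hmem, hb]
    constructor
    · rintro (⟨a, ha, v, hv, e⟩ | ⟨a, ha, v, hv, e⟩)
      · refine ⟨2 * a, by rw [pow_succ]; omega, v, hv, ?_⟩
        rw [ev_bits, if_neg (by omega), one_mul, show 2 * a / 2 = a by omega, add_assoc]
        exact e
      · refine ⟨1 + 2 * a, by rw [pow_succ]; omega, v, hv, ?_⟩
        rw [ev_bits, if_pos (by omega), show (1 + 2 * a) / 2 = a by omega, add_assoc, mul_assoc, ← e,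
          mul_inv_cancel_left]
    · rintro ⟨a, ha, v, hv, rfl⟩
      rw [pow_succ] at ha
      rw [ev_bits, add_assoc]
      rcases Nat.mod_two_eq_zero_or_one a with h | h
      · exact Or.inl ⟨a / 2, by omega, v, hv, by rw [if_neg (by omega), one_mul]⟩
      · exact Or.inr ⟨a / 2, by omega, v, hv, by rw [if_pos h, mul_assoc, inv_mul_cancel_left]⟩

/-- The subgroup of order `2 ^ 15`. -/
noncomputable def syl : Subgroup Dbl := (chain 9 (le_refl 9)).choose

theorem card_syl : Nat.card syl = 32768 := (chain 9 (le_refl 9)).choose_spec.1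

theorem mem_syl {x : Dbl} : x ∈ syl ↔ ∃ q < 512, ∃ v < 64, x = ev (wR q) * evE v :=
  (chain 9 (le_refl 9)).choose_spec.2 x

theorem code_uniq {q q' v v' : ℕ} (hq : q < 512) (hq' : q' < 512) (hv : v < 64) (hv' : v' < 64)
    (h : ev (wR q) * evE v = ev (wR q') * evE v') : q = q' ∧ v = v' := by
  let f : Fin 512 × Fin 64 → syl := fun e => ⟨ev (wR e.1.val) * evE e.2.val,
    mem_syl.2 ⟨e.1.val, e.1.isLt, e.2.val, e.2.isLt, rfl⟩⟩
  have hs : Function.Surjective f := fun x => by
    obtain ⟨a, ha, w, hw, e⟩ := mem_syl.1 x.2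
    exact ⟨(⟨a, ha⟩, ⟨w, hw⟩), Subtype.ext e.symm⟩
  have := fourRu_finite
  have hb : Function.Bijective f := hs.bijective_of_nat_card_le (by simp [card_syl])
  have e := hb.1 (a₁ := (⟨q, hq⟩, ⟨v, hv⟩)) (a₂ := (⟨q', hq'⟩, ⟨v', hv'⟩)) (Subtype.ext h)
  simp only [Prod.mk.injEq, Fin.mk.injEq] at e
  exact e

end CfsgLib.RuStandard
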