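import Cfsg.Agent.Lib.RuStandard.Basic
import Cfsg.Agent.Lib.RuStandard.Cover
import Cfsg.Agent.Lib.RuStandard.Model

/-!
# The facts on the double cover of the Rudvalis group
-/

set_option autoImplicit false
set_option maxRecDepth 20000
set_option maxHeartbeats 1000000

namespace CfsgLib.RuStandard

open Cfsg Cfsg.Spor CfsgLib.RuLattice CfsgLib.LyGTwo
open scoped Pointwise

theorem xor_mask_lt {rows : List ℕ} (h : ∀ r ∈ rows, r < 64) (v : ℕ) : xorRows rows v < 64 := by
  induction rows generalizing v with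
  | nil => simp [xorRows]
  | cons r rs ih =>
    refine Nat.xor_lt_two_pow (n := 6) ?_ (ih (fun s hs => h s (List.mem_cons_of_mem _ hs)) _)
    cases Nat.beq (v % 2) 1
    · norm_num
    · exact h r List.mem_cons_self

theorem rows_lt : ∀ e ∈ sqT, ∀ r ∈ e.2, r < 64 := by decide +kernel

theorem mqV_lt {q : ℕ} (hq : q < 512) (v : ℕ) : mqV q v < 64 :=
  xor_mask_lt (rows_lt _ (List.of_mem_zip (zip_mem hq)).2) v

/-- The element of a code. -/
noncomputable def valP (p : ℕ) : Dbl := ev (wP p)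

theorem valP_eq {q v : ℕ} (hq : q < 512) : valP (q + 512 * v) = ev (wR q) * evE v := by
  rw [valP, wP, ev_append, show (q + 512 * v) % 512 = q by omega, show (q + 512 * v) / 512 = v by omega, evE]

theorem valP_split (p : ℕ) : valP p = ev (wR (p % 512)) * evE (p / 512) := by
  rw [valP, wP, ev_append, evE]

theorem sq_chunk {q : ℕ} (hq : q < 512) : ev (wR q) * ev (wR q) = valP (rowOf q).1 := by
  have hmem : ∀ j, 64 * j ≤ q → q < 64 * j + 64 →
      (q, rowOf q) ∈ (((List.range 512).zip sqT).drop (64 * j)).take 64 := fun j h1 h2 => by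
    have hl : ((List.range 512).zip sqT).length = 512 := by decide +kernel
    refine List.mem_iff_getElem.2 ⟨q - 64 * j, by simp only [List.length_take, List.length_drop, hl]; omega, ?_⟩
    obtain ⟨i, hi, e⟩ := List.mem_iff_getElem.1 (zip_mem hq)
    have hiq : i = q := by
      rw [List.getElem_zip, List.getElem_range] at e
      exact congrArg Prod.fst e
    subst hiq
    simp only [List.getElem_take, List.getElem_drop, show 64 * j + (i - 64 * j) = i by omega]
    exact e
  have key : chkSQ ((((List.range 512).zip sqT).drop (64 * (q / 64))).take 64) = true := by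
    have h8 : q / 64 < 8 := by omega
    interval_cases h : q / 64
    exacts [sq_ok_0, sq_ok_1, sq_ok_2, sq_ok_3, sq_ok_4, sq_ok_5, sq_ok_6, sq_ok_7]
  have h := List.all_eq_true.1 key _ (hmem (q / 64) (by omega) (by omega))
  rw [← ev_append]
  exact ev_eq h

theorem square {q v : ℕ} (hq : q < 512) : (ev (wR q) * evE v) * (ev (wR q) * evE v) =
    ev (wR ((rowOf q).1 % 512)) * evE ((rowOf q).1 / 512 ^^^ mqV q v ^^^ v) := by
  rw [evE_xor, evE_xor, ← mul_assoc (ev (wR _)), ← mul_assoc (ev (wR _)), ← valP_split,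
    ← sq_chunk hq, mul_assoc (ev (wR q)) (evE v), ← mul_assoc (evE v), rep_conj hq]
  simp only [mul_assoc]

theorem square_lt {q v : ℕ} (hq : q < 512) (hv : v < 64) :
    (rowOf q).1 % 512 < 512 ∧ (rowOf q).1 / 512 ^^^ mqV q v ^^^ v < 64 := by
  obtain ⟨-, h, -⟩ := mq_facts hq
  exact ⟨Nat.mod_lt _ (by norm_num),
    Nat.xor_lt_two_pow (n := 6) (Nat.xor_lt_two_pow (n := 6) (by omega) (mqV_lt hq v)) hv⟩

theorem evR_zero : ev (wR 0) = 1 := by rw [wR, bitsW_zero, ev_nil]

theorem four_ne {c : Dbl} (hc : c ∈ syl) : c ^ 4 ≠ evE 1 := by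
  obtain ⟨q, hq, v, hv, rfl⟩ := mem_syl.1 hc
  intro h
  obtain ⟨h1, h2⟩ := square_lt hq hv
  obtain ⟨h3, h4⟩ := square_lt h1 h2
  rw [show (4 : ℕ) = 2 + 2 by norm_num, pow_add, pow_two, square hq, square h1] at h
  obtain ⟨e1, e2⟩ := code_uniq h3 (by norm_num : 0 < 512) h4 (by norm_num : 1 < 64) (by
    rw [h, evR_zero, one_mul])
  have hf := List.all_eq_true.1 four_ok _ (zip_mem hq)
  simp only [Bool.or_eq_true, Bool.not_eq_true', List.all_eq_true, List.mem_range] at hf
  rcases hf with hf | hf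
  · exact Nat.ne_of_beq_eq_false hf e1
  · exact Nat.ne_of_beq_eq_false (hf v hv) e2

theorem centre_syl {z : Dbl} (hz : z ∈ syl) (hc : ∀ p ∈ syl, p * z = z * p) : z * z = 1 := by
  obtain ⟨q, hq, v, hv, rfl⟩ := mem_syl.1 hz
  have hid : ∀ i < 6, (rowOf q).2.getD i 0 = 2 ^ i := fun i hi => by
    have hu : (2 : ℕ) ^ i < 64 := by
      rw [show (64 : ℕ) = 2 ^ 6 by norm_num]
      exact Nat.pow_lt_pow_right (by norm_num) hi
    have h := hc (evE (2 ^ i)) (mem_syl.2 ⟨0, by norm_num, 2 ^ i, hu, by rw [evR_zero, one_mul]⟩)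
    rw [← mul_assoc, rep_conj hq, mul_assoc, mul_assoc, ← evE_xor, ← evE_xor] at h
    have hb : mqV q (2 ^ i) ^^^ v < 64 := Nat.xor_lt_two_pow (n := 6) (mqV_lt hq _) hv
    have hd : v ^^^ 2 ^ i < 64 := Nat.xor_lt_two_pow (n := 6) hv hu
    have e := evE_inj hb hd (mul_left_cancel h)
    have e' : mqV q (2 ^ i) = 2 ^ i := by
      have := congrArg (· ^^^ v) e
      simpa [Nat.xor_assoc, Nat.xor_comm v, Nat.xor_self] using this
    obtain ⟨hl, -, he⟩ := mq_facts hq
    rw [← he i hi]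
    have h2 := rep_conj hq (2 ^ i)
    rw [e'] at h2
    have h3 := mqF_conj (n := 9) (j := 0) (le_refl 9) q (2 ^ i)
    rw [show ev (bitsW (7 + 0) 9 q) = ev (wR q) from rfl, h2] at h3
    refine (evE_inj hu ?_ (mul_left_cancel h3)).symm
    rw [he i hi, List.getD_eq_getElem _ _ (by omega)]
    exact rows_lt _ (List.of_mem_zip (zip_mem hq)).2 _ (List.getElem_mem _)
  have hs := List.all_eq_true.1 self_ok _ (zip_mem hq)
  simp only [Bool.or_eq_true, List.any_eq_true, Bool.not_eq_true', List.mem_range, Nat.beq_eq] at hs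
  rcases hs with h0 | ⟨i, hi, h⟩
  · subst h0
    rw [evR_zero, one_mul]
    exact evE_self v
  · exact absurd (hid i hi) (Nat.ne_of_beq_eq_false h)

/-- An element is conjugate to one of the two central involutions of the subgroup. -/
def Fused (p : ℕ) : Prop := ∃ g : Dbl, g⁻¹ * valP p * g = evE 30 ∨ g⁻¹ * valP p * g = evE 31

theorem edge_step {a b k d : ℕ} (h : chkEdge (a, b, k, d) = true) (hb : k = 40 ∨ Fused b) : Fused a := by
  simp only [chkEdge, Bool.and_eq_true, Nat.blt_eq] at h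
  obtain ⟨⟨-, hb'⟩, h⟩ := h
  cases h40 : Nat.beq k 40
  · rw [h40, cond_false] at h
    obtain ⟨g, hg⟩ := hb.resolve_left (Nat.ne_of_beq_eq_false h40)
    cases h100 : Nat.beq k 100
    · rw [h100, cond_false] at h
      set w := (bif Nat.blt k 9 then [7 + k] else fusW.getD (k - 20) []) with hw
      cases hd : Nat.beq d 0
      · rw [hd, cond_false] at h
        have e := ev_eq h
        rw [ev_append, ev_append] at e
        refine ⟨ev w * g, ?_⟩
        have e' : valP a = ev w * valP b * (ev w)⁻¹ := eq_mul_inv_of_mul_eq e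
        rw [e', show (ev w * g)⁻¹ * (ev w * valP b * (ev w)⁻¹) * (ev w * g) = g⁻¹ * valP b * g by group]
        exact hg
      · rw [hd, cond_true] at h
        have e := ev_eq h
        rw [ev_append, ev_append] at e
        refine ⟨(ev w)⁻¹ * g, ?_⟩
        have e' : valP a = (ev w)⁻¹ * (valP b * ev w) := eq_inv_mul_of_mul_eq e.symm
        rw [e', show ((ev w)⁻¹ * g)⁻¹ * ((ev w)⁻¹ * (valP b * ev w)) * ((ev w)⁻¹ * g) = g⁻¹ * valP b * g by group]
        exact hg
    · rw [h100, cond_true, Bool.and_eq_true, Nat.beq_eq] at h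
      obtain ⟨-, rfl⟩ := h
      have hq : b % 512 < 512 := Nat.mod_lt _ (by norm_num)
      refine ⟨evE d * g, ?_⟩
      have e : valP (b % 512 + 512 * (b / 512 ^^^ mqV (b % 512) d ^^^ d)) = evE d * valP b * evE d := by
        rw [valP_eq hq, valP_split b, evE_xor, evE_xor, evE_comm (b / 512), ← mul_assoc (evE d), rep_conj hq]
        simp only [mul_assoc]
      rw [show xorRows (sqT.getD (b % 512) (0, [])).2 d = mqV (b % 512) d from rfl, e, mul_inv_rev, evE_inv,
        show g⁻¹ * evE d * (evE d * valP b * evE d) * (evE d * g) =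
          g⁻¹ * (evE d * evE d) * valP b * (evE d * evE d) * g by group, evE_self, mul_one, mul_one]
      exact hg
  · rw [h40, cond_true, Bool.or_eq_true, Nat.beq_eq, Nat.beq_eq] at h
    refine ⟨1, ?_⟩
    rw [inv_one, one_mul, mul_one]
    rcases h with rfl | rfl
    · exact Or.inl (by rw [show (15360 : ℕ) = 0 + 512 * 30 by norm_num, valP_eq (by norm_num), evR_zero, one_mul])
    · exact Or.inr (by rw [show (15872 : ℕ) = 0 + 512 * 31 by norm_num, valP_eq (by norm_num), evR_zero, one_mul])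

theorem reached_fused : ∀ (l : List (ℕ × ℕ × ℕ × ℕ)) (done : ℕ), (∀ e ∈ l, chkEdge e = true) →
    chkOrd l done = true → (∀ b, Nat.testBit done b = true → Fused b) →
      ∀ b, Nat.testBit (reached l done) b = true → Fused b
  | [], done, _, _, hd, b, h => hd b h
  | (a, b0, k, d) :: l, done, he, ho, hd, b, h => by
    simp only [chkOrd, Bool.and_eq_true, Bool.or_eq_true, Nat.beq_eq] at ho
    refine reached_fused l _ (fun e h => he e (List.mem_cons_of_mem _ h)) ho.2 (fun c hc => ?_) b h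
    rw [Nat.testBit_or, Bool.or_eq_true, Nat.one_shiftLeft, Nat.testBit_two_pow, decide_eq_true_eq] at hc
    rcases hc with hc | rfl
    · exact hd c hc
    · exact edge_step (he _ List.mem_cons_self) (ho.1.imp id (hd b0))

theorem edges_all : ∀ e ∈ edges, chkEdge e = true := by
  have h : edges.all chkEdge = true := by
    simp only [edges, List.all_append, edge_ok_0, edge_ok_1, edge_ok_2, edge_ok_3, edge_ok_4, edge_ok_5,
      edge_ok_6, edge_ok_7, edge_ok_8, edge_ok_9, Bool.and_self]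
  exact List.all_eq_true.1 h

theorem syl_invol {x : Dbl} (hx : x ∈ syl) (h2 : x * x = 1) (h1 : x ≠ 1) (ht : x ≠ evE 1) :
    ∃ g : Dbl, g⁻¹ * x * g = evE 30 ∨ g⁻¹ * x * g = evE 31 := by
  obtain ⟨q, hq, v, hv, rfl⟩ := mem_syl.1 hx
  obtain ⟨s1, s2⟩ := square_lt hq hv
  rw [square hq] at h2
  obtain ⟨e1, e2⟩ := code_uniq s1 (by norm_num : 0 < 512) s2 (by norm_num : 0 < 64) (by
    rw [h2, evR_zero, evE_zero, one_mul])
  have h := List.all_eq_true.1 cover_ok _ (zip_mem hq)
  simp only [Bool.or_eq_true, Bool.not_eq_true', List.all_eq_true, List.mem_range, Nat.beq_eq] at h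
  have hv' := (h.resolve_left fun e => Nat.ne_of_beq_eq_false e e1) v hv
  rw [← valP_eq hq] at h1 ht ⊢
  rcases hv' with ((he | he) | he) | he
  · exact absurd e2 (Nat.ne_of_beq_eq_false he)
  · exact absurd (by rw [he, show (0 : ℕ) = 0 + 512 * 0 by norm_num, valP_eq (by norm_num), evR_zero,
      evE_zero, one_mul]) h1
  · exact absurd (by rw [he, show (512 : ℕ) = 0 + 512 * 1 by norm_num, valP_eq (by norm_num), evR_zero,
      one_mul]) ht
  · exact reached_fused edges 0 edges_all ord_ok (fun b hb => by simp at hb) _ he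

theorem central_letter : evE 1 ∈ Subgroup.center Dbl := by
  refine Subgroup.mem_center_iff.2 fun g => Subtype.ext (rep5_injective ?_)
  rw [Subgroup.coe_mul, Subgroup.coe_mul, map_mul, map_mul]
  have h : rep5 (evE 1).1 = (4 : ZMod 5) • (1 : Matrix (Fin 28) (Fin 28) (ZMod 5)) := by
    rw [evE, rep_ev (wE_lt 1), show wE 1 = [16] from rfl, wordMat_one]
    ext j k
    rw [← lettersW_low (by norm_num : 16 < 22),
      decide_eq_true_iff.1 (List.all_eq_true.1 (List.all_eq_true.1 central_entries j (List.mem_finRange j)) k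
        (List.mem_finRange k)), Matrix.smul_apply, Matrix.one_apply]
    split_ifs <;> simp
  rw [h, mul_smul_comm, smul_mul_assoc, mul_one, one_mul]

theorem evE_central {u : ℕ} (hu : ∀ j < 9, xorRows (mjT.getD j []) u = u) {p : Dbl} (hp : p ∈ syl) :
    p * evE u = evE u * p := by
  obtain ⟨q, -, v, -, rfl⟩ := mem_syl.1 hp
  have h : ∀ w : List ℕ, (∀ k ∈ w, 7 ≤ k ∧ k < 16) → ev w * evE u = evE u * ev w := by
    intro w
    induction w with
    | nil => simp [ev_nil]
    | cons a w ih =>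
      intro hw
      have ha := hw a List.mem_cons_self
      have := mj_conj (j := a - 7) (by omega) u
      rw [hu _ (by omega), show 7 + (a - 7) = a by omega] at this
      rw [ev_cons, mul_assoc, ih fun k hk => hw k (List.mem_cons_of_mem _ hk), ← mul_assoc, ← this, mul_assoc]
  rw [mul_assoc, evE_comm v, ← mul_assoc, h (wR q) (fun k hk => by
    have := bitsW_mem hk; omega), mul_assoc]

theorem x_fixed : ∀ j < 9, xorRows (mjT.getD j []) 30 = 30 ∧ xorRows (mjT.getD j []) 31 = 31 := by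
  decide +kernel

theorem x_root : (∃ r : Dbl, r ^ 4 = evE 30) ∧ ∃ r : Dbl, r ^ 4 = evE 31 := by
  have hp : ∀ p c : ℕ, p < 32768 → c < 64 → sqP (sqP p) = 512 * c → valP p ^ 4 = evE c := fun p c hp hc h => by
    have hs : ∀ p < 32768, valP p * valP p = valP (sqP p) ∧ sqP p < 32768 := fun p hp => by
      have hq : p % 512 < 512 := Nat.mod_lt _ (by norm_num)
      obtain ⟨s1, s2⟩ := square_lt hq (show p / 512 < 64 by omega)
      have e : sqP p = (rowOf (p % 512)).1 % 512 +
          512 * ((rowOf (p % 512)).1 / 512 ^^^ mqV (p % 512) (p / 512) ^^^ p / 512) := rfl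
      exact ⟨by rw [valP_split p, square hq, e, valP_eq s1], by rw [e]; omega⟩
    obtain ⟨a1, a2⟩ := hs p hp
    rw [show (4 : ℕ) = 2 + 2 by norm_num, pow_add, pow_two, a1, (hs _ a2).1, h,
      show 512 * c = 0 + 512 * c by omega, valP_eq (by norm_num), evR_zero, one_mul]
  exact ⟨⟨_, hp 16909 30 (by norm_num) (by norm_num) root_ok.1⟩,
    ⟨_, hp 10073 31 (by norm_num) (by norm_num) root_ok.2⟩⟩

theorem dbl_facts : Facts Dbl (evE 1) := by
  have := fourRu_finite
  have hcard : Nat.card syl = 2 ^ 15 := by rw [card_syl]; norm_num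
  have hidx : ¬ 2 ∣ syl.index := by
    have h := syl.card_mul_index
    rw [card_syl, card_dbl] at h
    omega
  have : Fact (Nat.Prime 2) := ⟨Nat.prime_two⟩
  let S : Sylow 2 Dbl := (IsPGroup.of_card hcard).toSylow hidx
  have hS : ∀ x, x ∈ S ↔ x ∈ syl := fun x => Iff.rfl
  have hconj : ∀ Q : Sylow 2 Dbl, ∃ g : Dbl, ∀ y, y ∈ Q ↔ g⁻¹ * y * g ∈ syl := fun Q => by
    obtain ⟨g, rfl⟩ := MulAction.exists_smul_eq Dbl S Q
    refine ⟨g, fun y => ?_⟩
    rw [← hS]
    show y ∈ MulAut.conj g • (S : Subgroup Dbl) ↔ _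
    rw [Subgroup.mem_pointwise_smul_iff_inv_smul_mem, ← map_inv, MulAut.smul_def, MulAut.conj_apply, inv_inv]
    rfl
  have hinto : ∀ b : Dbl, b ^ 8 = 1 → ∃ g : Dbl, g⁻¹ * b * g ∈ syl := fun b hb => by
    have hp : IsPGroup 2 (Subgroup.zpowers b) := by
      rintro ⟨y, hy⟩
      refine ⟨3, Subtype.ext ?_⟩
      obtain ⟨i, rfl⟩ := Subgroup.mem_zpowers_iff.1 hy
      show (b ^ i) ^ 2 ^ 3 = 1
      rw [show (2 : ℕ) ^ 3 = 8 by norm_num, ← zpow_natCast (b ^ i), ← zpow_mul, mul_comm, zpow_mul,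
        zpow_natCast, hb, one_zpow]
    obtain ⟨Q, hQ⟩ := hp.exists_le_sylow
    obtain ⟨g, hg⟩ := hconj Q
    exact ⟨g, (hg b).1 (hQ (Subgroup.mem_zpowers b))⟩
  have hcl : ∀ x : Dbl, x * x = 1 → x ≠ 1 → x ≠ evE 1 →
      ∃ h : Dbl, h⁻¹ * x * h = evE 30 ∨ h⁻¹ * x * h = evE 31 := fun x h2 h1 ht => by
    obtain ⟨g, hg⟩ := hinto x (by rw [show (8 : ℕ) = 2 * 4 by norm_num, pow_mul, pow_two, h2, one_pow])
    have ht' : g⁻¹ * x * g ≠ evE 1 := fun e => ht (by
      have hc := Subgroup.mem_center_iff.1 central_letter g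
      calc x = g * (g⁻¹ * x * g) * g⁻¹ := by group
        _ = evE 1 := by rw [e, hc, mul_inv_cancel_right])
    obtain ⟨h, hh⟩ := syl_invol hg (by rw [show g⁻¹ * x * g * (g⁻¹ * x * g) = g⁻¹ * (x * x) * g by group, h2,
      mul_one, inv_mul_cancel]) (fun e => h1 (by
        calc x = g * (g⁻¹ * x * g) * g⁻¹ := by group
          _ = 1 := by rw [e, mul_one, mul_inv_cancel])) ht'
    refine ⟨g * h, ?_⟩
    rw [show (g * h)⁻¹ * x * (g * h) = h⁻¹ * (g⁻¹ * x * g) * h by group]
    exact hh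
  refine ⟨fun b hb => ?_, fun x h2 h1 ht => ?_, fun P z hz hc => ?_, fun x h2 h1 ht => ?_⟩
  · obtain ⟨g, hg⟩ := hinto b (by rw [show (8 : ℕ) = 4 * 2 by norm_num, pow_mul, hb, pow_two, evE_self])
    refine four_ne hg ?_
    have hcp : (g⁻¹ * b * g) ^ 4 = g⁻¹ * b ^ 4 * g := by simpa using conj_pow (a := g⁻¹) (b := b) (i := 4)
    rw [hcp, hb, mul_assoc, ← Subgroup.mem_center_iff.1 central_letter g, inv_mul_cancel_left]
  · obtain ⟨h, hh⟩ := hcl x h2 h1 ht
    obtain ⟨u, hfix, hu, hlt⟩ : ∃ u, (∀ j < 9, xorRows (mjT.getD j []) u = u) ∧ h⁻¹ * x * h = evE u ∧ u < 64 := by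
      rcases hh with e | e
      · exact ⟨30, fun j hj => (x_fixed j hj).1, e, by norm_num⟩
      · exact ⟨31, fun j hj => (x_fixed j hj).2, e, by norm_num⟩
    refine ⟨h • S, ?_, fun p hp => ?_⟩
    · show x ∈ MulAut.conj h • (S : Subgroup Dbl)
      rw [Subgroup.mem_pointwise_smul_iff_inv_smul_mem, ← map_inv, MulAut.smul_def, MulAut.conj_apply, inv_inv, hu]
      exact mem_syl.2 ⟨0, by norm_num, u, hlt, by rw [evR_zero, one_mul]⟩
    · change p ∈ MulAut.conj h • (S : Subgroup Dbl) at hp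
      rw [Subgroup.mem_pointwise_smul_iff_inv_smul_mem, ← map_inv, MulAut.smul_def, MulAut.conj_apply, inv_inv] at hp
      have e := evE_central hfix hp
      rw [← hu] at e
      calc p * x = h * ((h⁻¹ * p * h) * (h⁻¹ * x * h)) * h⁻¹ := by group
        _ = x * p := by rw [e]; group
  · obtain ⟨g, hg⟩ := hconj P
    have h := centre_syl ((hg z).1 hz) fun p hp => by
      have hm : g * p * g⁻¹ ∈ P := (hg _).2 (by rwa [show g⁻¹ * (g * p * g⁻¹) * g = p by group])
      have e := hc _ hm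
      calc p * (g⁻¹ * z * g) = g⁻¹ * ((g * p * g⁻¹) * z) * g := by group
        _ = g⁻¹ * z * g * p := by rw [e]; group
    rw [show g⁻¹ * z * g * (g⁻¹ * z * g) = g⁻¹ * (z * z) * g by group] at h
    calc z * z = g * (g⁻¹ * (z * z) * g) * g⁻¹ := by group
      _ = 1 := by rw [h, mul_one, mul_inv_cancel]
  · obtain ⟨h, hh⟩ := hcl x h2 h1 ht
    obtain ⟨⟨r0, hr0⟩, ⟨r1, hr1⟩⟩ := x_root
    rcases hh with e | e
    · exact ⟨h * r0 * h⁻¹, by rw [conj_pow, hr0, ← e]; group⟩
    · exact ⟨h * r1 * h⁻¹, by rw [conj_pow, hr1, ← e]; group⟩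

theorem Facts.transport.{v, w} {A : Type v} {B : Type w} [Group A] [Finite A] [Group B] (i : A ≃* B) {t : A}
    (h : Facts B (i t)) : Facts A t := by
  refine ⟨fun b hb => h.no_root (i b) (by rw [← map_pow, hb]), fun x h2 h1 ht => ?_, fun P z hz hc => ?_,
    fun x h2 h1 ht => ?_⟩
  · obtain ⟨P, hP, hcom⟩ := h.sylow (i x) (by rw [← map_mul, h2, map_one])
      (fun e => h1 (i.injective (by rw [e, map_one]))) (fun e => ht (i.injective e))
    refine ⟨P.comapOfInjective i.toMonoidHom i.injective ?_, hP, fun p hp => i.injective ?_⟩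
    · rw [MonoidHom.range_eq_top.2 i.surjective]; exact le_top
    · rw [map_mul, map_mul]; exact hcom _ hp
  · have : Fact (Nat.Prime 2) := ⟨Nat.prime_two⟩
    have : Finite B := Finite.of_equiv A i.toEquiv
    let Q : Sylow 2 B := P.mapSurjective (f := i.toMonoidHom) i.surjective
    have hQ : ∀ y, y ∈ P → i y ∈ Q := fun y hy => by
      show i y ∈ (P : Subgroup A).map i.toMonoidHom
      exact ⟨y, hy, rfl⟩
    refine i.injective ?_
    rw [map_mul, map_one]
    refine h.centre Q (i z) (hQ z hz) fun p hp => ?_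
    obtain ⟨y, hy, rfl⟩ := (Subgroup.mem_map.1 hp : ∃ y ∈ (P : Subgroup A), i.toMonoidHom y = p)
    show i y * i z = i z * i y
    rw [← map_mul, ← map_mul, hc y hy]
  · obtain ⟨b, hb⟩ := h.root (i x) (by rw [← map_mul, h2, map_one])
      (fun e => h1 (i.injective (by rw [e, map_one]))) (fun e => ht (i.injective e))
    exact ⟨i.symm b, by rw [← map_pow, hb, MulEquiv.symm_apply_apply]⟩

theorem factsSpec.{v} : FactsSpec.{v} := by
  intro A _ _ hA h2 hR t htc ht
  obtain ⟨i⟩ := iso_dbl hA h2 hR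
  refine Facts.transport i ?_
  have h1 : evE 1 ≠ (1 : Dbl) := fun h => by
    have := evE_inj (by norm_num : 1 < 64) (by norm_num : 0 < 64) (h.trans evE_zero.symm)
    omega
  have hmem : i.symm (evE 1) ∈ Subgroup.center A := Subgroup.mem_center_iff.2 fun y => i.injective (by
    rw [map_mul, map_mul, MulEquiv.apply_symm_apply]
    exact Subgroup.mem_center_iff.1 central_letter _)
  obtain ⟨u, -, huniq⟩ := (Nat.card_eq_two_iff' (1 : Subgroup.center A)).1 h2
  have e1 := huniq ⟨t, htc⟩ (fun e => ht (congrArg Subtype.val e))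
  have e2 := huniq ⟨i.symm (evE 1), hmem⟩ (fun e => h1 (by
    have := congrArg Subtype.val e
    simpa using congrArg i this))
  have e : t = i.symm (evE 1) := congrArg Subtype.val (e1.trans e2.symm)
  rw [e, MulEquiv.apply_symm_apply]
  exact dbl_facts

end CfsgLib.RuStandard
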