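import Mathlib
import Cfsg.Prelude.Def_Local
import Cfsg.Prelude.Def_KGroupFacts
import Cfsg.Agent.Lib.Invol.ZStarFinal

/-!
# A standard double cover with rigid Sylow data is normal

`A` is standard with centre `⟨t⟩`, every automorphism of the central quotient is inner and the centraliser
of `A` has cyclic Sylow 2-subgroups.  With the facts `CoverFacts` on `A` the involution `t` is isolated.
-/

set_option autoImplicit false

namespace CfsgLib.RuStandard

open Subgroup Cfsg

universe u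

/-- The facts about the cover. -/
structure CoverFacts (H : Type*) [Group H] : Prop where
  quartic : ∀ b : H, b ^ 4 ∈ center H → b ^ 4 = 1
  fourth : ∀ u : H, u * u = 1 → u ∉ center H → ∃ b : H, b ^ 4 = u
  central : ∀ u : H, u * u = 1 → ∃ S : Sylow 2 H, ∀ p ∈ S, Commute p u
  centre : ∀ S : Sylow 2 H, ∀ z ∈ S, (∀ p ∈ S, Commute z p) → z * z = 1

/-- A perfect central extension has only inner automorphisms if its central quotient has. -/
theorem aut_inner {H : Type*} [Group H] (hp : Group.IsPerfect H)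
    (hout : Nat.card (Out (H ⧸ center H)) = 1) (φ : MulAut H) : ∃ a : H, ∀ x, φ x = a * x * a⁻¹ := by
  have hc : (center H).map (φ : H ≃* H).toMonoidHom = center H :=
    (Subgroup.characteristic_iff_map_eq.1 inferInstance) φ
  let ψ : MulAut (H ⧸ center H) := QuotientGroup.congr (center H) (center H) φ hc
  have hψ : ψ ∈ Inn (H ⧸ center H) := by
    haveI := (Nat.card_eq_one_iff_unique.1 hout).1
    exact (QuotientGroup.eq_one_iff ψ).1 (Subsingleton.elim _ _)
  obtain ⟨q, hq⟩ := hψ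
  obtain ⟨a, rfl⟩ := QuotientGroup.mk'_surjective (center H) q
  refine ⟨a, fun x => ?_⟩
  have hd : ∀ y, (a * y * a⁻¹)⁻¹ * φ y ∈ center H := fun y => by
    refine QuotientGroup.eq.1 ?_
    have := DFunLike.congr_fun hq (QuotientGroup.mk y)
    exact this
  have hmul : ∀ y w, (a * (y * w) * a⁻¹)⁻¹ * φ (y * w) =
      ((a * y * a⁻¹)⁻¹ * φ y) * ((a * w * a⁻¹)⁻¹ * φ w) := fun y w => by
    have h1 := mem_center_iff.1 (hd y) ((a * w * a⁻¹)⁻¹)
    rw [map_mul, ← mul_assoc _ (a * w * a⁻¹)⁻¹ (φ w), ← h1]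
    group
  let δ : H →* center H := MonoidHom.mk' (fun y => ⟨_, hd y⟩) fun y w => Subtype.ext (hmul y w)
  have hker : commutator H ≤ δ.ker := by
    rw [commutator_def, commutator_le]
    intro y _ w _
    rw [MonoidHom.mem_ker, map_commutatorElement, commutatorElement_eq_one_iff_mul_comm]
    exact Subtype.ext ((mem_center_iff.1 (δ y).2 _).symm)
  have h1 : δ x = 1 := MonoidHom.mem_ker.1 (hker (hp.commutator_eq_top ▸ mem_top x))
  have h2 : (a * x * a⁻¹)⁻¹ * φ x = 1 := congrArg Subtype.val h1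
  exact (inv_mul_eq_one.1 h2).symm

/-- Two involutions of a finite group with cyclic Sylow 2-subgroups that commute are equal. -/
theorem invol_unique {H : Type*} [Group H] [Finite H] (hR : ∀ R : Sylow 2 H, IsCyclic (R : Subgroup H))
    {u v : H} (hu : u * u = 1) (hv : v * v = 1) (hc : Commute u v) (hu1 : u ≠ 1) (hv1 : v ≠ 1) : u = v := by
  haveI : Fact (Nat.Prime 2) := ⟨Nat.prime_two⟩
  classical
  have hpu : ∀ w : H, w * w = 1 → IsPGroup 2 (zpowers w) := fun w hw => by
    obtain ⟨i, -, hi⟩ := (Nat.dvd_prime_pow Nat.prime_two).1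
      (orderOf_dvd_of_pow_eq_one (x := w) (n := 2 ^ 1) (by rw [pow_one, pow_two, hw]))
    exact IsPGroup.of_card (n := i) (by rw [Nat.card_zpowers, hi])
  have hnorm : zpowers v ≤ normalizer (zpowers u : Set H) := by
    refine le_trans ?_ (centralizer_le_normalizer (zpowers u : Set H))
    rw [zpowers_le, mem_centralizer_iff]
    rintro _ ⟨i, rfl⟩
    exact (hc.zpow_left i).eq
  obtain ⟨R, hR'⟩ := ((hpu u hu).to_sup_of_normal_left' (hpu v hv) hnorm).exists_le_sylow
  haveI := hR R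
  letI : Fintype (R : Subgroup H) := Fintype.ofFinite _
  by_contra hne
  have hle := IsCyclic.card_pow_eq_one_le (α := (R : Subgroup H)) (show 0 < 2 by norm_num)
  have huR : u ∈ (R : Subgroup H) := hR' (mem_sup_left (mem_zpowers u))
  have hvR : v ∈ (R : Subgroup H) := hR' (mem_sup_right (mem_zpowers v))
  have hsub : ({1, ⟨u, huR⟩, ⟨v, hvR⟩} : Finset (R : Subgroup H)) ⊆
      Finset.univ.filter fun a => a ^ 2 = 1 := by
    intro a ha
    simp only [Finset.mem_insert, Finset.mem_singleton] at ha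
    rw [Finset.mem_filter]
    refine ⟨Finset.mem_univ _, ?_⟩
    rcases ha with rfl | rfl | rfl
    · exact one_pow 2
    · exact Subtype.ext (by simpa [pow_two] using hu)
    · exact Subtype.ext (by simpa [pow_two] using hv)
  have h3 := (Finset.card_le_card hsub).trans hle
  rw [Finset.card_eq_three.2 ⟨1, ⟨u, huR⟩, ⟨v, hvR⟩,
    fun h => hu1 (congrArg Subtype.val h).symm, fun h => hv1 (congrArg Subtype.val h).symm,
    fun h => hne (congrArg Subtype.val h), rfl⟩] at h3
  omega

variable {G : Type u} [Group G] [Finite G]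

/-- The setting. -/
structure Setting (A : Subgroup G) (t : G) : Prop where
  memA : t ∈ A
  memK : t ∈ centralizer (A : Set G)
  ord : orderOf t = 2
  inter : ∀ z ∈ A, z ∈ centralizer (A : Set G) → z = 1 ∨ z = t
  cent : ∀ y : G, Commute y t → ∃ a ∈ A, ∃ k ∈ centralizer (A : Set G), y = a * k
  cyc : ∀ R : Sylow 2 ↥(centralizer (A : Set G)), IsCyclic (R : Subgroup ↥(centralizer (A : Set G)))

theorem exists_setting (A : Subgroup G) (hA : IsStandardSubgroup A) (hZ : Nat.card (center A) = 2)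
    (hout : Nat.card (Out (A ⧸ center A)) = 1)
    (hR : ∀ R : Sylow 2 ↥(centralizer (A : Set G)), IsCyclic (R : Subgroup ↥(centralizer (A : Set G)))) :
    ∃ t, Setting A t ∧ centralizer ({t} : Set G) ≤ normalizer (A : Set G) := by
  obtain ⟨hq, hK, -, hN⟩ := hA
  haveI : Fact (Nat.Prime 2) := ⟨Nat.prime_two⟩
  obtain ⟨z, hz⟩ := exists_prime_orderOf_dvd_card' (G := center A) 2 (dvd_of_eq hZ.symm)
  have hzo : orderOf ((z : A) : G) = 2 := by rw [Subgroup.orderOf_coe, Subgroup.orderOf_coe, hz]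
  have hz1 : z ≠ 1 := fun h => by rw [h, orderOf_one] at hz; omega
  set t : G := ((z : A) : G) with htdef
  have htK : t ∈ centralizer (A : Set G) := mem_centralizer_iff.2 fun a ha =>
    congrArg Subtype.val (mem_center_iff.1 z.2 ⟨a, ha⟩)
  have hmid : ∀ w ∈ A, w ∈ centralizer (A : Set G) → w = 1 ∨ w = t := by
    intro w hw hwK
    have hwc : (⟨w, hw⟩ : A) ∈ center A :=
      mem_center_iff.2 fun a => Subtype.ext (mem_centralizer_iff.1 hwK a a.2)
    rcases eq_or_ne (⟨⟨w, hw⟩, hwc⟩ : center A) 1 with h | h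
    · exact Or.inl (congrArg (fun q : center A => ((q : A) : G)) h)
    · refine Or.inr ?_
      have h2 : Subsingleton {q : center A // q ≠ 1} := by
        classical
        letI := Fintype.ofFinite (center A)
        rw [← Fintype.card_le_one_iff_subsingleton, Fintype.card_subtype_compl, Fintype.card_subtype_eq,
          ← Nat.card_eq_fintype_card, hZ]
      exact congrArg (fun q : {q : center A // q ≠ 1} => ((q.1 : A) : G))
        (h2.elim ⟨⟨⟨w, hw⟩, hwc⟩, h⟩ ⟨z, hz1⟩)
  have hle : centralizer ({t} : Set G) ≤ normalizer (A : Set G) := by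
    intro y hy
    rw [hN]
    by_contra hyN
    have hm : t ∈ centralizer (A : Set G) ⊓ (centralizer (A : Set G)).map (MulAut.conj y).toMonoidHom := by
      refine ⟨htK, t, htK, ?_⟩
      show y * t * y⁻¹ = t
      rw [mem_centralizer_singleton_iff.1 hy, mul_inv_cancel_right]
    have := Subgroup.orderOf_dvd_natCard _ hm
    rw [hzo] at this
    exact Nat.not_even_iff_odd.2 (hK.2 y hyN) (even_iff_two_dvd.2 this)
  refine ⟨t, ⟨(z : A).2, htK, hzo, hmid, fun y hy => ?_, hR⟩, hle⟩
  obtain ⟨a, ha⟩ := aut_inner hq.1 hout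
    (normalizerMonoidHom A ⟨y, hle (mem_centralizer_singleton_iff.2 hy.eq)⟩)
  refine ⟨a, a.2, (a : G)⁻¹ * y, mem_centralizer_iff.2 fun w hw => ?_, by group⟩
  have h := congrArg Subtype.val (ha ⟨w, hw⟩)
  have h' : y * w * y⁻¹ = (a : G) * w * (a : G)⁻¹ := h
  calc w * ((a : G)⁻¹ * y) = (a : G)⁻¹ * ((a : G) * w * (a : G)⁻¹) * y := by group
    _ = (a : G)⁻¹ * (y * w * y⁻¹) * y := by rw [h']
    _ = (a : G)⁻¹ * y * w := by group

variable {A : Subgroup G} {t : G}

theorem Setting.comm (T : Setting A t) {a k : G} (ha : a ∈ A) (hk : k ∈ centralizer (A : Set G)) :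
    Commute a k := mem_centralizer_iff.1 hk a ha

theorem Setting.sq (T : Setting A t) : t * t = 1 := by rw [← pow_two, ← T.ord, pow_orderOf_eq_one]

theorem Setting.ne_one (T : Setting A t) : t ≠ 1 := fun h => by
  have := T.ord
  rw [h, orderOf_one] at this
  omega

theorem Setting.invol (T : Setting A t) {k : G} (hk : k ∈ centralizer (A : Set G)) (h : k * k = 1) :
    k = 1 ∨ k = t := by
  refine or_iff_not_imp_left.2 fun h1 => ?_
  exact congrArg Subtype.val (invol_unique T.cyc (u := ⟨k, hk⟩) (v := ⟨t, T.memK⟩) (Subtype.ext h)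
    (Subtype.ext T.sq) (Subtype.ext (T.comm T.memA hk).symm.eq) (fun e => h1 (congrArg Subtype.val e))
    fun e => T.ne_one (congrArg Subtype.val e))

/-- The product map onto the centraliser of `t`. -/
def Setting.mulHom (T : Setting A t) : A × ↥(centralizer (A : Set G)) →* centralizer ({t} : Set G) :=
  MonoidHom.mk'
    (fun p => ⟨(p.1 : G) * p.2, mem_centralizer_singleton_iff.2
      (((T.comm p.1.2 T.memK).mul_left (T.comm T.memA p.2.2).symm)).eq⟩)
    fun p q => Subtype.ext (by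
      show (p.1 * q.1 : G) * (p.2 * q.2) = p.1 * p.2 * (q.1 * q.2)
      exact (T.comm q.1.2 p.2.2).mul_mul_mul_comm _ _)

theorem Setting.mulHom_surj (T : Setting A t) : Function.Surjective T.mulHom := by
  rintro ⟨y, hy⟩
  obtain ⟨a, ha, k, hk, rfl⟩ := T.cent y (mem_centralizer_singleton_iff.1 hy)
  exact ⟨(⟨a, ha⟩, ⟨k, hk⟩), rfl⟩

/-- Sylow subgroups of the factors give one of the centraliser. -/
theorem Setting.sylow_pair (T : Setting A t) (S : Sylow 2 A) (U : Sylow 2 ↥(centralizer (A : Set G))) :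
    ∃ R : Sylow 2 ↥(centralizer ({t} : Set G)),
      (R : Subgroup ↥(centralizer ({t} : Set G))) = ((S : Subgroup A).prod (U : Subgroup _)).map T.mulHom := by
  haveI : Fact (Nat.Prime 2) := ⟨Nat.prime_two⟩
  set D := (S : Subgroup A).prod (U : Subgroup ↥(centralizer (A : Set G))) with hD
  have hp : IsPGroup 2 D := by
    obtain ⟨m, hm⟩ := IsPGroup.iff_card.1 S.2
    obtain ⟨n, hn⟩ := IsPGroup.iff_card.1 U.2
    exact IsPGroup.of_card (n := m + n) (by
      rw [hD, Nat.card_congr (prodEquiv _ _).toEquiv, Nat.card_prod, hm, hn, pow_add])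
  have hi : ¬ 2 ∣ D.index := by
    rw [hD, index_prod]
    exact fun h => ((Nat.prime_two.dvd_mul).1 h).elim S.not_dvd_index U.not_dvd_index
  exact ⟨(hp.toSylow hi).mapSurjective T.mulHom_surj, rfl⟩

/-- A conjugate into the centraliser of a product Sylow subgroup contains a Sylow subgroup of `A`. -/
theorem Setting.sylow_transfer (T : Setting A t) (S : Sylow 2 A) (U : Sylow 2 ↥(centralizer (A : Set G)))
    (h : G) (hh : ∀ p ∈ S, ∀ q ∈ U, Commute (h * ((p : G) * q) * h⁻¹) t) :
    ∃ S' : Sylow 2 A, ∀ s ∈ S', ∃ p ∈ S, ∃ q ∈ U, h * ((p : G) * q) * h⁻¹ = s := by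
  set C := centralizer ({t} : Set G) with hC
  obtain ⟨R, hR⟩ := T.sylow_pair S U
  have hmem : ∀ r ∈ R, h * ((r : C) : G) * h⁻¹ ∈ C := by
    intro r hr
    replace hr : r ∈ (R : Subgroup C) := hr
    rw [hR] at hr
    obtain ⟨⟨p, q⟩, ⟨hp, hq⟩, rfl⟩ := hr
    exact mem_centralizer_singleton_iff.2 (hh p hp q hq).eq
  let c : ↥(R : Subgroup C) →* C := MonoidHom.mk' (fun r => ⟨h * ((r : C) : G) * h⁻¹, hmem r r.2⟩)
    fun r r' => Subtype.ext (by simp [mul_assoc])
  have hc : Function.Injective c := fun r r' e => by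
    have := congrArg Subtype.val e
    exact Subtype.ext (Subtype.ext (mul_left_cancel (mul_right_cancel this)))
  haveI : Fact (Nat.Prime 2) := ⟨Nat.prime_two⟩
  obtain ⟨R', hR'⟩ : ∃ R' : Sylow 2 C, (R' : Subgroup C) = c.range :=
    ⟨Sylow.ofCard c.range (by
      rw [← Nat.card_congr (MonoidHom.ofInjective hc).toEquiv, R.card_eq_multiplicity]), rfl⟩
  obtain ⟨g, hg⟩ := MulAction.exists_smul_eq C R R'
  obtain ⟨a, ha, k, hk, hgk⟩ := T.cent g (mem_centralizer_singleton_iff.1 g.2)
  refine ⟨(⟨a, ha⟩ : A) • S, fun s hs => ?_⟩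
  rw [← SetLike.mem_coe, Sylow.coe_smul, Set.mem_smul_set] at hs
  obtain ⟨p, hp, rfl⟩ := hs
  have hpR : T.mulHom (p, 1) ∈ (R : Subgroup C) := by
    rw [hR]; exact ⟨(p, 1), ⟨hp, one_mem _⟩, rfl⟩
  have hval : ((g * T.mulHom (p, 1) * g⁻¹ : C) : G) = a * p * a⁻¹ := by
    show (g : G) * ((p : G) * 1) * (g : G)⁻¹ = _
    rw [mul_one, hgk, mul_inv_rev, show a * k * (p : G) * (k⁻¹ * a⁻¹) = a * (k * p * k⁻¹) * a⁻¹ by group,
      ← (T.comm p.2 hk).eq, mul_inv_cancel_right]
  have hgR : g * T.mulHom (p, 1) * g⁻¹ ∈ (R' : Subgroup C) := by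
    rw [← hg, Sylow.coe_subgroup_smul, Subgroup.pointwise_smul_def]
    exact ⟨_, hpR, rfl⟩
  rw [hR'] at hgR
  obtain ⟨⟨r, hr⟩, he⟩ := hgR
  rw [hR] at hr
  obtain ⟨⟨p', q'⟩, ⟨hp', hq'⟩, rfl⟩ := hr
  exact ⟨p', hp', q', hq', (congrArg Subtype.val he).trans hval⟩

/-- A square root of an involution fixed by conjugation in `A` lies in the Sylow subgroup. -/
theorem mem_sylow_of_commute {S : Sylow 2 A} {a : A} (ha : a ^ 4 = 1) (h : ∀ p ∈ S, Commute a p) : a ∈ S := by
  haveI : Fact (Nat.Prime 2) := ⟨Nat.prime_two⟩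
  have hp : IsPGroup 2 (zpowers a) := by
    obtain ⟨i, -, hi⟩ := (Nat.dvd_prime_pow Nat.prime_two).1 (orderOf_dvd_of_pow_eq_one (n := 2 ^ 2) ha)
    exact IsPGroup.of_card (n := i) (by rw [Nat.card_zpowers, hi])
  have hn : zpowers a ≤ normalizer ((S : Subgroup A) : Set A) := by
    refine le_trans ?_ (centralizer_le_normalizer ((S : Subgroup A) : Set A))
    rw [zpowers_le, mem_centralizer_iff]
    exact fun p hp => (h p hp).eq.symm
  have := S.3 (IsPGroup.to_sup_of_normal_left' S.2 hp hn) le_sup_left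
  show a ∈ (S : Subgroup A)
  rw [← this]
  exact mem_sup_right (mem_zpowers a)

/-- The parts of a conjugate of `t` in its centraliser. -/
theorem Setting.parts (T : Setting A t) {g : G} (hc : Commute (g * t * g⁻¹) t) :
    ∃ a ∈ A, ∃ k ∈ centralizer (A : Set G), g * t * g⁻¹ = a * k ∧ (a * a = t ∨ g * t * g⁻¹ ∈ A) := by
  obtain ⟨a, ha, k, hk, e⟩ := T.cent _ hc
  refine ⟨a, ha, k, hk, e, ?_⟩
  have h1 : a * a * (k * k) = 1 := by
    rw [← (T.comm ha hk).symm.mul_mul_mul_comm, ← e,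
      show g * t * g⁻¹ * (g * t * g⁻¹) = g * (t * t) * g⁻¹ by group, T.sq]
    group
  have hK : a * a ∈ centralizer (A : Set G) := by
    rw [eq_inv_of_mul_eq_one_left h1]
    exact inv_mem (mul_mem hk hk)
  rcases T.inter _ (mul_mem ha ha) hK with h | h
  · rw [h, one_mul] at h1
    refine Or.inr ?_
    rw [e]
    rcases T.invol hk h1 with rfl | rfl
    · rwa [mul_one]
    · exact mul_mem ha T.memA
  · exact Or.inl h

/-- A conjugate with one part of order four and the other in `A` is impossible. -/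
theorem Setting.not_mixed (T : Setting A t) (hF : CoverFacts A) {g : G} {a k : G} (ha : a ∈ A)
    (hk : k ∈ centralizer (A : Set G)) (e : g * t * g⁻¹ = a * k) (haa : a * a = t)
    (hx' : g⁻¹ * t * g ∈ A) : False := by
  set x' := g⁻¹ * t * g with hx'def
  obtain ⟨S, hS⟩ := hF.central ⟨x', hx'⟩ (Subtype.ext (by
    show x' * x' = 1
    rw [hx'def, show g⁻¹ * t * g * (g⁻¹ * t * g) = g⁻¹ * (t * t) * g by group, T.sq]
    group))
  obtain ⟨U⟩ : Nonempty (Sylow 2 ↥(centralizer (A : Set G))) := inferInstance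
  have hsame : ∀ r : G, Commute r x' → Commute (g * r * g⁻¹) t := fun r hr => by
    have := hr.map (MulAut.conj g).toMonoidHom
    simpa [hx'def, mul_assoc] using this
  obtain ⟨S', hS'⟩ := T.sylow_transfer S U g fun p hp q hq =>
    hsame _ ((show Commute (p : G) x' from congrArg Subtype.val (hS p hp).eq).mul_left (T.comm hx' q.2).symm)
  have hcomm : ∀ s ∈ S', Commute (⟨a, ha⟩ : A) s := by
    intro s hs
    obtain ⟨p, hp, q, hq, he⟩ := hS' s hs
    have h1 : Commute (g * t * g⁻¹) (g * ((p : G) * q) * g⁻¹) :=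
      ((T.comm p.2 T.memK).symm.mul_right (T.comm T.memA q.2)).map (MulAut.conj g).toMonoidHom
    rw [he, e] at h1
    have h2 : Commute k⁻¹ (s : G) := (T.comm s.2 (inv_mem hk)).symm
    exact Subtype.ext (by simpa [mul_assoc] using (h1.mul_left h2).eq)
  have ha4 : (⟨a, ha⟩ : A) ^ 4 = 1 := Subtype.ext (by
    show a ^ 4 = 1
    rw [show (4 : ℕ) = 2 * 2 from rfl, pow_mul, pow_two a, haa, pow_two, T.sq])
  have := congrArg Subtype.val (hF.centre S' _ (mem_sylow_of_commute ha4 hcomm) hcomm)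
  exact T.ne_one (haa.symm.trans this)

/-- The involution is isolated. -/
theorem Setting.isolated (T : Setting A t) (hF : CoverFacts A) : IsIsolatedInvolution t := by
  refine ⟨T.ord, fun g hg => ?_⟩
  by_contra hne
  haveI : Fact (Nat.Prime 2) := ⟨Nat.prime_two⟩
  set x := g * t * g⁻¹ with hxdef
  set x' := g⁻¹ * t * g with hx'def
  have hcx : Commute x t := hg.symm
  have hcx' : Commute x' t := by
    have := (hcx.map (MulAut.conj g⁻¹).toMonoidHom).symm
    simpa [hxdef, hx'def, mul_assoc] using this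
  have hne' : x' ≠ t := fun h => hne (by
    rw [hxdef]
    nth_rw 1 [← h]
    rw [hx'def]; group)
  obtain ⟨a, ha, k, hk, e, hcase⟩ := T.parts hcx
  obtain ⟨a', ha', k', hk', e', hcase'⟩ := T.parts (g := g⁻¹) (by rwa [inv_inv])
  rw [inv_inv] at e' hcase'
  rcases hcase with haa | hxA <;> rcases hcase' with haa' | hx'A
  · -- both mixed
    have hca : Commute (g * a' * g⁻¹) t := by
      have h := (Commute.refl a').mul_right (T.comm ha' hk')
      rw [← e'] at h
      have := h.map (MulAut.conj g).toMonoidHom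
      simpa [mul_assoc] using this
    obtain ⟨a₁, ha₁, k₁, hk₁, e₁⟩ := T.cent _ hca
    have h2 : x = a₁ * a₁ * (k₁ * k₁) := by
      rw [hxdef, ← (T.comm ha₁ hk₁).symm.mul_mul_mul_comm, ← e₁, ← haa']
      group
    have h3 : a⁻¹ * (a₁ * a₁) = k * (k₁ * k₁)⁻¹ := by
      have h2' : a * k = a₁ * a₁ * (k₁ * k₁) := e.symm.trans h2
      rw [inv_mul_eq_iff_eq_mul, ← mul_assoc, h2', mul_inv_cancel_right]
    have h4 : (a₁ * a₁) * (a₁ * a₁) = t := by
      rcases T.inter _ (mul_mem (inv_mem ha) (mul_mem ha₁ ha₁)) (h3 ▸ mul_mem hk (inv_mem (mul_mem hk₁ hk₁)))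
        with h | h
      · rw [inv_mul_eq_one] at h
        rw [← h, haa]
      · rw [inv_mul_eq_iff_eq_mul] at h
        rw [h, (T.comm ha T.memK).symm.mul_mul_mul_comm, haa, T.sq, mul_one]
    have h5 : (⟨a₁, ha₁⟩ : A) ^ 4 = 1 := hF.quartic _ (by
      refine mem_center_iff.2 fun b => Subtype.ext ?_
      show (b : G) * a₁ ^ 4 = a₁ ^ 4 * b
      rw [show (4 : ℕ) = 2 * 2 from rfl, pow_mul, pow_two a₁, pow_two, h4]
      exact (T.comm b.2 T.memK).eq)
    have h6 : a₁ ^ 4 = 1 := congrArg Subtype.val h5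
    rw [show (4 : ℕ) = 2 * 2 from rfl, pow_mul, pow_two a₁, pow_two, h4] at h6
    exact T.ne_one h6
  · exact T.not_mixed hF ha hk e haa hx'A
  · exact T.not_mixed hF (g := g⁻¹) ha' hk' (by rw [inv_inv]; exact e') haa' (by
      rw [inv_inv]; exact hxA)
  · -- both in `A`
    have hx2 : (⟨x, hxA⟩ : A) * ⟨x, hxA⟩ = 1 := Subtype.ext (by
      show x * x = 1
      rw [hxdef, show g * t * g⁻¹ * (g * t * g⁻¹) = g * (t * t) * g⁻¹ by group, T.sq]
      group)
    have hxc : (⟨x, hxA⟩ : A) ∉ center A := fun h => by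
      rcases T.inter x hxA (mem_centralizer_iff.2 fun w hw =>
        congrArg Subtype.val (mem_center_iff.1 h ⟨w, hw⟩)) with h1 | h1
      · apply T.ne_one
        rw [hxdef, conj_eq_one_iff] at h1
        exact h1
      · exact hne h1
    obtain ⟨b, hb⟩ := hF.fourth _ hx2 hxc
    have hb' : (b : G) ^ 4 = x := congrArg Subtype.val hb
    have hbc : Commute (g⁻¹ * (b : G) * g) t := by
      have h : Commute (b : G) x := hb' ▸ Commute.self_pow (b : G) 4
      have := h.map (MulAut.conj g⁻¹).toMonoidHom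
      simpa [hxdef, mul_assoc] using this
    obtain ⟨a₁, ha₁, k₁, hk₁, e₁⟩ := T.cent _ hbc
    have h1 : a₁ ^ 4 * k₁ ^ 4 = t := by
      rw [← (T.comm ha₁ hk₁).mul_pow, ← e₁]
      have : (g⁻¹ * (b : G) * g) ^ 4 = g⁻¹ * (b : G) ^ 4 * g := by
        simpa using (conj_pow (i := 4) (a := g⁻¹) (b := (b : G)))
      rw [this, hb', hxdef]
      group
    have hquart : ∀ w, ∀ hw : w ∈ A, w ^ 4 ∈ centralizer (A : Set G) → w ^ 4 = 1 := fun w hw h =>
      congrArg Subtype.val (hF.quartic ⟨w, hw⟩ (mem_center_iff.2 fun q =>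
        Subtype.ext (mem_centralizer_iff.1 h q q.2)))
    have h14 : a₁ ^ 4 = 1 := hquart a₁ ha₁ (by
      rw [eq_mul_inv_of_mul_eq h1]
      exact mul_mem T.memK (inv_mem (pow_mem hk₁ 4)))
    rw [h14, one_mul] at h1
    -- an element of order four central in a Sylow subgroup
    set j : ↥(centralizer (A : Set G)) := ⟨k₁ ^ 2, pow_mem hk₁ 2⟩ with hj
    have hj2 : (j : G) * j = t := by rw [hj]; show k₁ ^ 2 * k₁ ^ 2 = t; rw [← pow_add]; exact h1
    have hjp : IsPGroup 2 (zpowers j) := by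
      have hj4 : j ^ (2 ^ 2) = 1 := Subtype.ext (by
        show (j : G) ^ (2 ^ 2) = 1
        rw [show (2 ^ 2 : ℕ) = 2 * 2 from rfl, pow_mul, pow_two (j : G), hj2, pow_two, T.sq])
      obtain ⟨i, -, hi⟩ := (Nat.dvd_prime_pow Nat.prime_two).1 (orderOf_dvd_of_pow_eq_one hj4)
      exact IsPGroup.of_card (n := i) (by rw [Nat.card_zpowers, hi])
    obtain ⟨U, hU⟩ := hjp.exists_le_sylow
    have hjU : j ∈ U := hU (mem_zpowers j)
    obtain ⟨S, hS⟩ := hF.central _ hx2
    have hsame : ∀ r : G, Commute r x → Commute (g⁻¹ * r * g) t := fun r hr => by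
      have := hr.map (MulAut.conj g⁻¹).toMonoidHom
      simpa [hxdef, mul_assoc] using this
    obtain ⟨S', hS'⟩ := T.sylow_transfer S U g⁻¹ fun p hp q hq => by
      rw [inv_inv]
      exact hsame _ ((show Commute (p : G) x from congrArg Subtype.val (hS p hp).eq).mul_left
        (T.comm hxA q.2).symm)
    obtain ⟨a₂, ha₂, k₂, hk₂, e₂⟩ := T.cent _ (hsame j (T.comm hxA j.2).symm)
    have hcomm : ∀ s ∈ S', Commute (⟨a₂, ha₂⟩ : A) s := by
      intro s hs
      obtain ⟨p, hp, q, hq, he⟩ := hS' s hs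
      rw [inv_inv] at he
      haveI := T.cyc U
      have hjq : Commute (j : G) (q : G) := by
        obtain ⟨w, hw⟩ := IsCyclic.exists_generator (α := (U : Subgroup ↥(centralizer (A : Set G))))
        obtain ⟨m, hm⟩ := mem_zpowers_iff.1 (hw ⟨j, hjU⟩)
        obtain ⟨l, hl⟩ := mem_zpowers_iff.1 (hw ⟨q, hq⟩)
        have e1 : ((w : ↥(centralizer (A : Set G))) : G) ^ m = (j : G) :=
          congrArg (fun v => (((v : (U : Subgroup ↥(centralizer (A : Set G)))) : ↥(centralizer (A : Set G))) : G)) hm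
        have e2 : ((w : ↥(centralizer (A : Set G))) : G) ^ l = (q : G) :=
          congrArg (fun v => (((v : (U : Subgroup ↥(centralizer (A : Set G)))) : ↥(centralizer (A : Set G))) : G)) hl
        rw [← e1, ← e2]
        exact (Commute.refl _).zpow_zpow m l
      have h3 : Commute (g⁻¹ * (j : G) * g) (g⁻¹ * ((p : G) * q) * g) := by
        have := ((T.comm p.2 j.2).symm.mul_right hjq).map (MulAut.conj g⁻¹).toMonoidHom
        simpa using this
      rw [he, e₂] at h3
      have h2 : Commute k₂⁻¹ (s : G) := (T.comm s.2 (inv_mem hk₂)).symm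
      exact Subtype.ext (by simpa [mul_assoc] using (h3.mul_left h2).eq)
    have hsq : a₂ * a₂ * (k₂ * k₂) = x' := by
      rw [← (T.comm ha₂ hk₂).symm.mul_mul_mul_comm, ← e₂, hx'def, ← hj2]
      group
    have hx'2 : x' ^ 2 = 1 := by
      rw [pow_two, hx'def, show g⁻¹ * t * g * (g⁻¹ * t * g) = g⁻¹ * (t * t) * g by group, T.sq]
      group
    have h24 : a₂ ^ 4 * k₂ ^ 4 = 1 := by
      rw [← (T.comm ha₂ hk₂).mul_pow, show (4 : ℕ) = 2 * 2 from rfl, pow_mul, pow_two (a₂ * k₂),
        (T.comm ha₂ hk₂).symm.mul_mul_mul_comm, hsq, hx'2]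
    have ha24 : (⟨a₂, ha₂⟩ : A) ^ 4 = 1 := Subtype.ext (hquart a₂ ha₂ (by
      rw [eq_inv_of_mul_eq_one_left h24]
      exact inv_mem (pow_mem hk₂ 4)))
    have h5 := congrArg Subtype.val (hF.centre S' _ (mem_sylow_of_commute ha24 hcomm) hcomm)
    have hx'K : x' ∈ centralizer (A : Set G) := by
      rw [← hsq, show a₂ * a₂ = 1 from h5, one_mul]
      exact mul_mem hk₂ hk₂
    rcases T.inter x' hx'A hx'K with h | h
    · apply T.ne_one
      calc t = g * x' * g⁻¹ := by rw [hx'def]; group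
        _ = 1 := by rw [h]; group
    · exact hne' h

/-- The standard subgroup is normal. -/
theorem normal_of_facts (A : Subgroup G) (hA : IsStandardSubgroup A) (hO : oddCore G = ⊥)
    (hZ : Nat.card (center A) = 2) (hout : Nat.card (Out (A ⧸ center A)) = 1)
    (hR : ∀ R : Sylow 2 ↥(centralizer (A : Set G)), IsCyclic (R : Subgroup ↥(centralizer (A : Set G))))
    (hF : CoverFacts A) : A.Normal := by
  obtain ⟨t, T, hle⟩ := exists_setting A hA hZ hout hR
  have hc := CfsgLib.Invol.zstar_center (T.isolated hF) hO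
  refine normalizer_eq_top_iff.1 (eq_top_iff.2 fun y _ => hle ?_)
  exact mem_centralizer_singleton_iff.2 (mem_center_iff.1 hc y)

end CfsgLib.RuStandard
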