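import Cfsg.Agent.Lib.RuStandard.Basic
import Cfsg.Agent.Lib.RuStandard.Reduce
import Cfsg.Agent.Lib.Ru.OuterAut

/-!
# A standard double cover of the Rudvalis group is normal, given the facts on the cover
-/

set_option autoImplicit false

namespace CfsgLib.RuStandard

open Subgroup Cfsg

universe u

/-- The facts on the cover in the form used by the reduction. -/
theorem Facts.coverFacts {H : Type*} [Group H] [Finite H] (hZ : Nat.card (center H) = 2)
    {t : H} (ht : t ∈ center H) (ht1 : t ≠ 1) (F : Facts H t) : CoverFacts H := by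
  classical
  letI := Fintype.ofFinite (center H)
  have hsub : Subsingleton {q : center H // q ≠ 1} := by
    rw [← Fintype.card_le_one_iff_subsingleton, Fintype.card_subtype_compl, Fintype.card_subtype_eq,
      ← Nat.card_eq_fintype_card, hZ]
  have hmid : ∀ z ∈ center H, z = 1 ∨ z = t := fun z hz => or_iff_not_imp_left.2 fun h =>
    congrArg (fun q : {q : center H // q ≠ 1} => (q.1 : H))
      (hsub.elim ⟨⟨z, hz⟩, fun e => h (congrArg Subtype.val e)⟩ ⟨⟨t, ht⟩, fun e => ht1 (congrArg Subtype.val e)⟩)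
  refine ⟨fun b hb => (hmid _ hb).resolve_right (F.no_root b), fun u hu hun => ?_, fun u hu => ?_,
    fun P z hz hc => F.centre P z hz fun p hp => (hc p hp).eq.symm⟩
  · exact F.root u hu (fun h => hun (h ▸ one_mem _)) (fun h => hun (h ▸ ht))
  · by_cases hun : u ∈ center H
    · obtain ⟨S⟩ : Nonempty (Sylow 2 H) := inferInstance
      exact ⟨S, fun p _ => mem_center_iff.1 hun p⟩
    · obtain ⟨P, -, hP⟩ := F.sylow u hu (fun h => hun (h ▸ one_mem _)) (fun h => hun (h ▸ ht))
      exact ⟨P, fun p hp => hP p hp⟩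

/-- The statement from the facts on the cover. -/
theorem normal_of_spec (hspec : FactsSpec.{u}) {G : Type u} [Group G] [Finite G] (hO : oddCore G = ⊥)
    (A : Subgroup G) (hA : IsStandardSubgroup A) (hZ : Nat.card (center A) = 2)
    (hAX : Spor.IsoRu (A ⧸ center A))
    (hR : ∀ R : Sylow 2 ↥(centralizer (A : Set G)), IsCyclic (R : Subgroup ↥(centralizer (A : Set G)))) :
    A.Normal := by
  haveI : Fact (Nat.Prime 2) := ⟨Nat.prime_two⟩
  obtain ⟨z, hz⟩ := exists_prime_orderOf_dvd_card' (G := center A) 2 (dvd_of_eq hZ.symm)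
  have hz1 : (z : A) ≠ 1 := fun h => by
    rw [← Subgroup.orderOf_coe, h, orderOf_one] at hz
    omega
  have hF := (hspec A hA.1.1 hZ hAX z z.2 hz1).coverFacts hZ z.2 hz1
  obtain ⟨e⟩ := hAX
  exact normal_of_facts A hA hO hZ ((Rigid.card_out_mulEquiv e).trans RuLattice.out_ru) hR hF

end CfsgLib.RuStandard
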