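import Cfsg.Agent.Lib.RuStandard.ModelData
import Cfsg.Agent.Lib.LyGTwo.SparseEq

/-!
# The tests of the model of a Sylow 2-subgroup of the double cover of Ru

The element of code `q + 512 * v` is the product of the letters `7, ..., 15` at the bits of `q` and of the letters
`16, ..., 21` at the bits of `v`.
-/

set_option autoImplicit false

namespace CfsgLib.RuStandard

open CfsgLib.LyGTwo

/-- The letters at the bits of a number. -/
def bitsW (base : ℕ) : ℕ → ℕ → List ℕ
  | 0, _ => []
  | n + 1, a => (bif Nat.beq (a % 2) 1 then [base] else []) ++ bitsW (base + 1) n (a / 2)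

/-- The word of a coset representative. -/
def wR (q : ℕ) : List ℕ := bitsW 7 9 q

/-- The word of an element of the elementary subgroup. -/
def wE (v : ℕ) : List ℕ := bitsW 16 6 v

/-- The word of an element. -/
def wP (p : ℕ) : List ℕ := wR (p % 512) ++ wE (p / 512)

/-- The sum of the rows at the bits of a number. -/
def xorRows : List ℕ → ℕ → ℕ
  | [], _ => 0
  | r :: rs, v => (bif Nat.beq (v % 2) 1 then r else 0) ^^^ xorRows rs (v / 2)

/-- The action of the product of the letters at the bits of a number. -/
def mqF : ℕ → ℕ → ℕ → ℕ → ℕ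
  | _, 0, _, v => v
  | j, n + 1, a, v => mqF (j + 1) n (a / 2) (bif Nat.beq (a % 2) 1 then xorRows (mjT.getD j []) v else v)

/-- A comparison of two words. -/
noncomputable def eqW (w w' : List ℕ) : Bool := SF.sameW 28 letters letters w w'

/-- The definitions of the letters. -/
noncomputable def chkDef : Bool :=
  (List.range 18).all fun i => ((defW.getD i []).all fun g => Nat.blt g (i + 4)) && eqW (defW.getD i []) [i + 4]

/-- The elementary subgroup. -/
noncomputable def chkE : Bool :=
  (List.range 6).all fun i => eqW [16 + i, 16 + i] [] &&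
    (List.range 6).all fun k => eqW [16 + i, 16 + k] [16 + k, 16 + i]

/-- The action on the elementary subgroup. -/
noncomputable def chkMJ : Bool :=
  (List.range 9).all fun j => Nat.beq (mjT.getD j []).length 6 && (List.range 6).all fun i =>
    Nat.blt ((mjT.getD j []).getD i 0) 64 && eqW [16 + i, 7 + j] ((7 + j) :: wE ((mjT.getD j []).getD i 0))

/-- The squares of the letters. -/
noncomputable def chkSQJ : Bool :=
  (List.range 9).all fun j => Nat.beq (sqJ.getD j 0 % 512 % 2 ^ (j + 1)) 0 &&
    eqW [7 + j, 7 + j] (wP (sqJ.getD j 0))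

/-- The conjugates of the letters. -/
noncomputable def chkCJ : Bool :=
  (List.range 9).all fun j => (List.range (8 - j)).all fun d =>
    Nat.beq ((cjT.getD j []).getD d 0 % 512 % 2 ^ (j + 1)) 0 &&
      eqW [7 + (j + 1 + d), 7 + j] ((7 + j) :: wP ((cjT.getD j []).getD d 0))

/-- The squares of the coset representatives. -/
noncomputable def chkSQ (L : List (ℕ × ℕ × List ℕ)) : Bool :=
  L.all fun e => eqW (wR e.1 ++ wR e.1) (wP e.2.1)

/-- The actions of the coset representatives. -/
def chkMQ : Bool :=
  Nat.beq sqT.length 512 && ((List.range 512).zip sqT).all fun e =>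
    Nat.beq e.2.2.length 6 && Nat.blt e.2.1 32768 &&
      (List.range 6).all fun i => Nat.beq (mqF 0 9 e.1 (2 ^ i)) (e.2.2.getD i 0)

/-- The row of a word. -/
noncomputable def rowW (w : List ℕ) : ℕ := (SF.evalP 28 letters w).getD sepRow 0

/-- The rows of the elementary subgroup are distinct. -/
noncomputable def chkRows : Bool :=
  Nat.beq erowT.length 64 && ((List.range 64).all fun v => Nat.beq (rowW (wE v)) (erowT.getD v 0)) &&
    (List.range 64).all fun v => (List.range v).all fun u => !Nat.beq (erowT.getD v 0) (erowT.getD u 0)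

/-- The cosets of the elementary subgroup are separated. -/
noncomputable def chkSep (lo n : ℕ) : Bool :=
  (List.range' lo n).all fun q => Nat.beq q 0 || (fun r => erowT.all fun e => !Nat.beq e r) (rowW (wR q))

/-- The edge of the fusion forest is valid. -/
noncomputable def chkEdge : ℕ × ℕ × ℕ × ℕ → Bool
  | (a, b, k, d) =>
    Nat.blt a 32768 && Nat.blt b 32768 &&
    bif Nat.beq k 40 then Nat.beq a 15360 || Nat.beq a 15872
    else bif Nat.beq k 100 then Nat.blt d 64 &&
      Nat.beq a (b % 512 + 512 * (b / 512 ^^^ xorRows (sqT.getD (b % 512) (0, [])).2 d ^^^ d))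
    else (fun w => bif Nat.beq d 0 then eqW (wP b ++ w) (w ++ wP a) else eqW (wP a ++ w) (w ++ wP b))
      (bif Nat.blt k 9 then [7 + k] else fusW.getD (k - 20) [])

/-- Each edge starts in what was reached before. -/
def chkOrd : List (ℕ × ℕ × ℕ × ℕ) → ℕ → Bool
  | [], _ => true
  | (a, b, k, _) :: l, done => (Nat.beq k 40 || Nat.testBit done b) && chkOrd l (done ||| (1 <<< a))

/-- The reached elements. -/
def reached : List (ℕ × ℕ × ℕ × ℕ) → ℕ → ℕ
  | [], done => done
  | (a, _, _, _) :: l, done => reached l (done ||| (1 <<< a))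

/-- Every involution but the central one is reached. -/
def chkCover : Bool :=
  ((List.range 512).zip sqT).all fun e => !Nat.beq (e.2.1 % 512) 0 || (List.range 64).all fun v =>
    !Nat.beq (e.2.1 / 512 ^^^ xorRows e.2.2 v ^^^ v) 0 ||
      Nat.beq (e.1 + 512 * v) 0 || Nat.beq (e.1 + 512 * v) 512 ||
        Nat.testBit (reached edges 0) (e.1 + 512 * v)

/-- No fourth power is the central involution. -/
def chkFour : Bool :=
  ((List.range 512).zip sqT).all fun e => (fun r2 : ℕ × List ℕ =>
    !Nat.beq (r2.1 % 512) 0 || (List.range 64).all fun v =>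
      (fun c => !Nat.beq (r2.1 / 512 ^^^ xorRows r2.2 c ^^^ c) 1) (e.2.1 / 512 ^^^ xorRows e.2.2 v ^^^ v))
    (sqT.getD (e.2.1 % 512) (0, []))

/-- Only the trivial coset centralises the elementary subgroup. -/
def chkSelf : Bool :=
  ((List.range 512).zip sqT).all fun e => Nat.beq e.1 0 ||
    (List.range 6).any fun i => !Nat.beq (e.2.2.getD i 0) (2 ^ i)

/-- The square in the model. -/
def sqP (p : ℕ) : ℕ :=
  (fun e : ℕ × List ℕ => e.1 % 512 + 512 * (e.1 / 512 ^^^ xorRows e.2 (p / 512) ^^^ p / 512))
    (sqT.getD (p % 512) (0, []))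

end CfsgLib.RuStandard
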